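import Mathlib
import Groth.Prelude.Def_GalDesc
set_option autoImplicit false
universe u v w x y
open scoped TensorProduct

namespace Groth.Agent.Lib.Helper65.GalDescent

variable {k : Type u} [Field k] {K : Type v} [Field K] [Algebra k K]
variable {W : Type x} [AddCommGroup W] [Module k W] {W' : Type y} [AddCommGroup W'] [Module k W']

theorem smul_one_tmul (σ : K ≃ₐ[k] K) (w : W) : σ • ((1 : K) ⊗ₜ[k] w) = (1 : K) ⊗ₜ[k] w := by
  rw [TensorProduct.smul_tmul', AlgEquiv.smul_def, map_one]

theorem repr_smul {ι : Type*} (b : Module.Basis ι k W) (σ : K ≃ₐ[k] K) (z : K ⊗[k] W) (i : ι) :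
    (b.baseChange K).repr (σ • z) i = σ ((b.baseChange K).repr z i) := by
  induction z using TensorProduct.induction_on with
  | zero => simp
  | tmul c w =>
    rw [TensorProduct.smul_tmul', Module.Basis.baseChange_repr_tmul,
      Module.Basis.baseChange_repr_tmul, AlgEquiv.smul_def, map_smul]
  | add z z' hz hz' =>
    rw [smul_add, map_add, map_add, Finsupp.add_apply, Finsupp.add_apply, hz, hz', map_add]

theorem one_tmul_injective : Function.Injective (fun w : W => (1 : K) ⊗ₜ[k] w) :=
  Module.Flat.tensorProduct_mk_injective k W K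

theorem exists_eq_one_tmul [FiniteDimensional k K] [IsGalois k K] (z : K ⊗[k] W)
    (hz : ∀ σ : K ≃ₐ[k] K, σ • z = z) : ∃ w : W, z = (1 : K) ⊗ₜ[k] w := by
  classical
  let b := Module.Free.chooseBasis k W
  let B := b.baseChange K
  have hfix : ∀ i, B.repr z i ∈ Set.range (algebraMap k K) := by
    intro i
    rw [IsGalois.mem_range_algebraMap_iff_fixed]
    intro σ
    rw [← repr_smul b σ z i, hz σ]
  choose r hr using hfix
  have hr0 : ∀ i, B.repr z i = 0 → r i = 0 := by
    intro i hi
    have := hr i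
    rw [hi, ← map_zero (algebraMap k K)] at this
    exact (algebraMap k K).injective this
  let f : Module.Free.ChooseBasisIndex k W →₀ k :=
    Finsupp.onFinset (B.repr z).support r (fun i hi => by
      rw [Finsupp.mem_support_iff]
      intro h0
      exact hi (hr0 i h0))
  refine ⟨Finsupp.linearCombination k b f, ?_⟩
  apply B.repr.injective
  apply Finsupp.ext
  intro i
  rw [Module.Basis.baseChange_repr_tmul, Module.Basis.repr_linearCombination]
  change _ = r i • (1 : K)
  rw [Algebra.smul_def, mul_one, hr]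

theorem exists_descent [FiniteDimensional k K] [IsGalois k K]
    (h : K ⊗[k] W ≃ₗ[K] K ⊗[k] W') (hh : ∀ (σ : K ≃ₐ[k] K) z, h (σ • z) = σ • h z) :
    ∃ e : W ≃ₗ[k] W', ∀ w, h ((1 : K) ⊗ₜ[k] w) = (1 : K) ⊗ₜ[k] e w := by
  let ι : W →ₗ[k] K ⊗[k] W := TensorProduct.mk k K W 1
  let ι' : W' →ₗ[k] K ⊗[k] W' := TensorProduct.mk k K W' 1
  have hι : Function.Injective ι := one_tmul_injective
  have hι' : Function.Injective ι' := one_tmul_injective
  have hh' : ∀ (σ : K ≃ₐ[k] K) z, h.symm (σ • z) = σ • h.symm z := by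
    intro σ z
    rw [LinearEquiv.symm_apply_eq, hh, LinearEquiv.apply_symm_apply]
  have hmap : (LinearMap.range ι).map (h.restrictScalars k).toLinearMap = LinearMap.range ι' := by
    apply le_antisymm
    · rintro _ ⟨_, ⟨w, rfl⟩, rfl⟩
      obtain ⟨w', hw'⟩ := exists_eq_one_tmul (h (ι w)) (fun σ => by
        rw [← hh, show σ • ι w = ι w from smul_one_tmul σ w])
      exact ⟨w', hw'.symm⟩
    · rintro _ ⟨w', rfl⟩
      obtain ⟨w, hw⟩ := exists_eq_one_tmul (h.symm (ι' w')) (fun σ => by
        rw [← hh', show σ • ι' w' = ι' w' from smul_one_tmul σ w'])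
      refine ⟨ι w, ⟨w, rfl⟩, ?_⟩
      change h (ι w) = ι' w'
      rw [show ι w = h.symm (ι' w') from hw.symm, LinearEquiv.apply_symm_apply]
  let e : W ≃ₗ[k] W' :=
    ((LinearEquiv.ofInjective ι hι).trans
      (((h.restrictScalars k).submoduleMap (LinearMap.range ι)).trans
        (LinearEquiv.ofEq _ _ hmap))).trans (LinearEquiv.ofInjective ι' hι').symm
  refine ⟨e, fun w => ?_⟩
  have : (LinearEquiv.ofInjective ι' hι') (e w) =
      (LinearEquiv.ofEq _ _ hmap) (((h.restrictScalars k).submoduleMap (LinearMap.range ι))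
        (LinearEquiv.ofInjective ι hι w)) := by
    simp only [e, LinearEquiv.trans_apply, LinearEquiv.apply_symm_apply]
  have h2 := congrArg Subtype.val this
  have h3 : h (ι w) = ι' (e w) := by simpa using h2.symm
  exact h3

end Groth.Agent.Lib.Helper65.GalDescent
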