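import Mathlib
import Groth.Agent.Lib.Helper52.RegularQuot

/-!
# Regular local rings and formal smoothness over a field (helper65)

For a local algebra `A` essentially of finite type over a field `k`:
* `isRegularLocalRing_of_formallySmooth`: `A` formally smooth over `k` ⇒ `A` regular;
* `formallySmooth_of_isRegularLocalRing`: `A` regular and `κ(A)` formally smooth over `k`
  (e.g. separable) ⇒ `A` formally smooth over `k`.
Key inputs: Mathlib's Jacobian criterion `FormallySmooth.iff_injective_cotangentComplexBaseChange`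
and Helper52/Helper76's structure of regular quotients of regular local rings.
-/

set_option autoImplicit false
set_option linter.style.haveILetI false
universe u
namespace Groth.Agent.Lib.Helper65.RegularSmooth
open IsLocalRing TensorProduct KaehlerDifferential

/-- A minimal system of generators of the maximal ideal of a regular local ring is independent
modulo `m²`. -/
theorem mem_maximalIdeal_of_sum_mem_sq (R : Type u) [CommRing R] [IsRegularLocalRing R] (d : ℕ)
    (hd : ringKrullDim R = d) (x : Fin d → R) (hx : Ideal.span (Set.range x) = maximalIdeal R)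
    (r : Fin d → R) (h : ∑ i, r i * x i ∈ maximalIdeal R ^ 2) (i : Fin d) :
    r i ∈ maximalIdeal R := by
  have hxm : ∀ i, x i ∈ maximalIdeal R := fun i => hx ▸ Ideal.subset_span ⟨i, rfl⟩
  let e : Fin d → CotangentSpace R := fun i => (maximalIdeal R).toCotangent ⟨x i, hxm i⟩
  have hfr : Module.finrank (ResidueField R) (CotangentSpace R) = d := by
    have := (IsRegularLocalRing.iff_finrank_cotangentSpace (R := R)).mp inferInstance
    rw [hd] at this
    exact_mod_cast this
  have hspan : ⊤ ≤ Submodule.span (ResidueField R) (Set.range e) := by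
    intro v _
    obtain ⟨⟨m, hm⟩, rfl⟩ := Ideal.toCotangent_surjective _ v
    have hm' : m ∈ Ideal.span (Set.range x) := hx ▸ hm
    obtain ⟨c, hc⟩ := (Ideal.mem_span_range_iff_exists_fun (R := R)).mp hm'
    have : (maximalIdeal R).toCotangent ⟨m, hm⟩ = ∑ i, residue R (c i) • e i := by
      have h1 : (⟨m, hm⟩ : maximalIdeal R) = ∑ i, c i • (⟨x i, hxm i⟩ : maximalIdeal R) := by
        ext; simp [← hc]
      rw [h1, map_sum]
      refine Finset.sum_congr rfl fun i _ => ?_
      rw [map_smul]
      rfl
    rw [this]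
    exact Submodule.sum_mem _ fun i _ => Submodule.smul_mem _ _ (Submodule.subset_span ⟨i, rfl⟩)
  have hli : LinearIndependent (ResidueField R) e :=
    linearIndependent_of_top_le_span_of_card_eq_finrank hspan (by simp [hfr])
  have h0 : ∑ i, residue R (r i) • e i = 0 := by
    have h1 : (maximalIdeal R).toCotangent ⟨∑ i, r i * x i, Ideal.pow_le_self two_ne_zero h⟩ = 0 :=
      (Ideal.toCotangent_eq_zero _ _).mpr h
    have h2 : (⟨∑ i, r i * x i, Ideal.pow_le_self two_ne_zero h⟩ : maximalIdeal R) =
        ∑ i, r i • (⟨x i, hxm i⟩ : maximalIdeal R) := by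
      ext; simp
    rw [h2, map_sum] at h1
    rw [← h1]
    refine Finset.sum_congr rfl fun i _ => ?_
    rw [map_smul]
    rfl
  have := Fintype.linearIndependent_iff.mp hli (fun i => residue R (r i)) h0 i
  exact (residue_eq_zero_iff _).mp this

theorem exists_one_tmul_eq {R : Type*} [CommRing R] [IsLocalRing R] {N : Type*} [AddCommGroup N]
    [Module R N] (u : ResidueField R ⊗[R] N) : ∃ n : N, u = (1 : ResidueField R) ⊗ₜ[R] n := by
  induction u using TensorProduct.induction_on with
  | zero => exact ⟨0, by simp⟩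
  | tmul a n =>
    obtain ⟨r, rfl⟩ := residue_surjective a
    refine ⟨r • n, ?_⟩
    rw [← TensorProduct.smul_tmul]
    congr 1
    rw [Algebra.smul_def, mul_one]; rfl
  | add u v hu hv =>
    obtain ⟨n, rfl⟩ := hu
    obtain ⟨n', rfl⟩ := hv
    exact ⟨n + n', by rw [TensorProduct.tmul_add]⟩

/-- The residue field as the quotient module. -/
noncomputable def residueFieldEquivQuot (R : Type*) [CommRing R] [IsLocalRing R] :
    ResidueField R ≃ₗ[R] R ⧸ maximalIdeal R where
  toFun := id
  invFun := id
  map_add' _ _ := rfl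
  map_smul' r x := by
    obtain ⟨y, rfl⟩ := residue_surjective x
    rfl
  left_inv _ := rfl
  right_inv _ := rfl

theorem one_tmul_eq_zero_iff {R : Type*} [CommRing R] [IsLocalRing R] (N : Ideal R) (n : N) :
    (1 : ResidueField R) ⊗ₜ[R] n = 0 ↔ (n : R) ∈ maximalIdeal R * N := by
  let e := (TensorProduct.congr (residueFieldEquivQuot R) (LinearEquiv.refl R N)).trans
    (TensorProduct.quotTensorEquivQuotSMul (↥N) (maximalIdeal R))
  have h1 : e ((1 : ResidueField R) ⊗ₜ[R] n) = Submodule.Quotient.mk n := by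
    simp only [e, LinearEquiv.trans_apply, TensorProduct.congr_tmul, LinearEquiv.refl_apply]
    have : residueFieldEquivQuot R (1 : ResidueField R) = Ideal.Quotient.mk (maximalIdeal R) 1 := rfl
    rw [this, TensorProduct.quotTensorEquivQuotSMul_mk_tmul, one_smul]
  rw [← e.map_eq_zero_iff, h1, Submodule.Quotient.mk_eq_zero, Submodule.mem_smul_top_iff]
  rfl

/-- If `R` and `R ⧸ J` are regular local, then `J ∩ m² ⊆ m J`. -/
theorem inf_sq_le_of_isRegularLocalRing_quotient (R : Type u) [CommRing R] [IsRegularLocalRing R]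
    (J : Ideal R) [IsRegularLocalRing (R ⧸ J)] :
    J ⊓ maximalIdeal R ^ 2 ≤ maximalIdeal R * J := by
  classical
  obtain ⟨d, hd⟩ := Groth.Agent.Lib.Helper52.exists_nat_ringKrullDim R
  obtain ⟨x, c, hc, hx, hJ⟩ :=
    Groth.Agent.Lib.Helper52.exists_generators_of_regular_quotient_regular d R hd J
  rintro j ⟨hjJ, hjsq⟩
  have hjJ' : j ∈ Ideal.span (Set.range (fun i : Fin c => x (Fin.castLE hc i))) := hJ ▸ hjJ
  obtain ⟨a, ha⟩ := (Ideal.mem_span_range_iff_exists_fun (R := R)).mp hjJ'
  -- extend `a` by zero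
  let r : Fin d → R := fun i => if h : (i : ℕ) < c then a ⟨i, h⟩ else 0
  have hsum : ∑ i, r i * x i = j := by
    rw [← ha]
    have hinj : Function.Injective (Fin.castLE hc) := Fin.castLE_injective hc
    rw [← Finset.sum_subset (Finset.subset_univ (Finset.univ.image (Fin.castLE hc)))]
    · rw [Finset.sum_image (fun _ _ _ _ h => hinj h)]
      refine Finset.sum_congr rfl fun i _ => ?_
      simp [r]
    · intro i _ hi
      have : ¬ (i : ℕ) < c := by
        intro h
        exact hi (Finset.mem_image.mpr ⟨⟨i, h⟩, Finset.mem_univ _, by ext; simp⟩)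
      simp [r, this]
  have hr := mem_maximalIdeal_of_sum_mem_sq R d hd x hx r (hsum ▸ hjsq)
  rw [← ha]
  refine Ideal.sum_mem _ fun i _ => Ideal.mul_mem_mul ?_ ?_
  · have := hr (Fin.castLE hc i)
    simpa [r] using this
  · rw [hJ]; exact Ideal.subset_span ⟨i, rfl⟩

theorem isRegularLocalRing_quotient_of_inf_sq_le_aux (d : ℕ) : ∀ (R : Type u) [CommRing R]
    [IsRegularLocalRing R] (_ : ringKrullDim R = d) (J : Ideal R) (_ : J ≠ ⊤)
    (_ : J ⊓ maximalIdeal R ^ 2 ≤ maximalIdeal R * J), IsRegularLocalRing (R ⧸ J) := by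
  induction d with
  | zero =>
    intro R _ _ hd J hJ h
    -- dim 0 regular: maximal ideal is zero, so J = ⊥
    have hm : maximalIdeal R = ⊥ := by
      have h1 : ((maximalIdeal R).spanFinrank : WithBot ℕ∞) = ringKrullDim R :=
        IsRegularLocalRing.spanFinrank_maximalIdeal
      rw [hd] at h1
      have h2 : (maximalIdeal R).spanFinrank = 0 := by exact_mod_cast h1
      exact (Submodule.spanFinrank_eq_zero_iff_eq_bot (IsNoetherian.noetherian _)).mp h2
    have hJ0 : J = ⊥ := le_bot_iff.mp (hm ▸ IsLocalRing.le_maximalIdeal hJ)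
    subst hJ0
    exact IsRegularLocalRing.of_ringEquiv (RingEquiv.quotientBot R).symm
  | succ d ih =>
    intro R _ _ hd J hJ h
    by_cases hI : J ≤ maximalIdeal R ^ 2
    · have hJ0 : J = ⊥ := by
        have h1 : J ≤ maximalIdeal R * J := le_trans (le_inf le_rfl hI) h
        have := Submodule.eq_bot_of_le_smul_of_le_jacobson_bot (maximalIdeal R) J
          (IsNoetherian.noetherian J) (by simpa [smul_eq_mul] using h1)
          (IsLocalRing.jacobson_eq_maximalIdeal _ bot_ne_top).ge
        exact this
      subst hJ0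
      exact IsRegularLocalRing.of_ringEquiv (RingEquiv.quotientBot R).symm
    · obtain ⟨x₁, hx₁J, hx₁sq⟩ := SetLike.not_le_iff_exists.mp hI
      have hJm : J ≤ maximalIdeal R := IsLocalRing.le_maximalIdeal hJ
      have hx₁m : x₁ ∈ maximalIdeal R := hJm hx₁J
      obtain ⟨hreg', hdim'⟩ :=
        Groth.Agent.Lib.Helper76.isRegularLocalRing_quotient_of_notMem_sq R x₁ hx₁m hx₁sq
      have hd' : ringKrullDim (R ⧸ Ideal.span ({x₁} : Set R)) = d := by
        obtain ⟨d'', hd''⟩ :=
          Groth.Agent.Lib.Helper52.exists_nat_ringKrullDim (R ⧸ Ideal.span ({x₁} : Set R))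
        rw [hd'', hd] at hdim'
        rw [hd'']
        have : d'' + 1 = d + 1 := by exact_mod_cast hdim'
        have : d'' = d := by omega
        rw [this]
      have hKJ : Ideal.span ({x₁} : Set R) ≤ J := (Ideal.span_singleton_le_iff_mem J).mpr hx₁J
      set K := Ideal.span ({x₁} : Set R) with hK
      let π := Ideal.Quotient.mk K
      have hπ : Function.Surjective π := Ideal.Quotient.mk_surjective
      have hcomapJ : (J.map π).comap π = J := by
        rw [Ideal.comap_map_of_surjective _ hπ, ← RingHom.ker_eq_comap_bot, Ideal.mk_ker]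
        exact sup_eq_left.mpr hKJ
      have hJ' : J.map π ≠ ⊤ := by
        intro htop
        apply hJ
        rw [← hcomapJ, htop, Ideal.comap_top]
      have hm' : maximalIdeal (R ⧸ K) = (maximalIdeal R).map π := by
        have := Groth.Agent.Lib.Helper52.comap_mk_maximalIdeal K
        rw [← this, Ideal.map_comap_of_surjective _ hπ]
      have hcond : J.map π ⊓ maximalIdeal (R ⧸ K) ^ 2 ≤ maximalIdeal (R ⧸ K) * J.map π := by
        rintro y' ⟨hy'J, hy'sq⟩
        obtain ⟨y, rfl⟩ := hπ y'
        have hyJ : y ∈ J := by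
          rw [← hcomapJ]; exact hy'J
        rw [hm', ← Ideal.map_pow] at hy'sq
        have hy2 : y ∈ (maximalIdeal R ^ 2) ⊔ K := by
          have : y ∈ ((maximalIdeal R ^ 2).map π).comap π := hy'sq
          rwa [Ideal.comap_map_of_surjective _ hπ, ← RingHom.ker_eq_comap_bot, Ideal.mk_ker] at this
        obtain ⟨z, hz, w, hw, rfl⟩ := Submodule.mem_sup.mp hy2
        have hzJ : z ∈ J := by
          have : z = (z + w) - w := by ring
          rw [this]; exact J.sub_mem hyJ (hKJ hw)
        have hzmJ : z ∈ maximalIdeal R * J := h ⟨hzJ, hz⟩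
        have : π (z + w) = π z := by
          rw [map_add, Ideal.Quotient.eq_zero_iff_mem.mpr hw, add_zero]
        rw [this, hm', ← Ideal.map_mul]
        exact Ideal.mem_map_of_mem _ hzmJ
      have hreg'' : IsRegularLocalRing ((R ⧸ K) ⧸ J.map π) :=
        ih (R ⧸ K) hd' (J.map π) hJ' hcond
      exact IsRegularLocalRing.of_ringEquiv (DoubleQuot.quotQuotEquivQuotOfLE hKJ)

theorem isRegularLocalRing_quotient_of_inf_sq_le (R : Type u) [CommRing R]
    [IsRegularLocalRing R] (J : Ideal R) (hJ : J ≠ ⊤)
    (h : J ⊓ maximalIdeal R ^ 2 ≤ maximalIdeal R * J) : IsRegularLocalRing (R ⧸ J) := by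
  obtain ⟨d, hd⟩ := Groth.Agent.Lib.Helper52.exists_nat_ringKrullDim R
  exact isRegularLocalRing_quotient_of_inf_sq_le_aux d R hd J hJ h

section

variable (k R : Type u) [Field k] [CommRing R] [Algebra k R] [IsLocalRing R] (J : Ideal R)
  (hJ : J ≠ ⊤)

/-- The algebra structure `R ⧸ J → κ(R)` for a proper ideal `J`. -/
@[reducible] noncomputable def quotResidueAlgebra : Algebra (R ⧸ J) (ResidueField R) :=
  (Ideal.Quotient.lift J (residue R) (fun a ha =>
    (residue_eq_zero_iff a).mpr (IsLocalRing.le_maximalIdeal hJ ha))).toAlgebra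

include hJ in
theorem cotangent_comp :
    letI := quotResidueAlgebra R J hJ
    haveI : IsScalarTower R (R ⧸ J) (ResidueField R) := .of_algebraMap_eq' rfl
    ∃ ι : ResidueField R ⊗[R] RingHom.ker (algebraMap R (R ⧸ J)) →ₗ[ResidueField R]
        ResidueField R ⊗[R] RingHom.ker (algebraMap R (ResidueField R)),
      (∀ (j : R) (hj : j ∈ RingHom.ker (algebraMap R (R ⧸ J)))
        (hj' : j ∈ RingHom.ker (algebraMap R (ResidueField R))),
        ι (1 ⊗ₜ ⟨j, hj⟩) = 1 ⊗ₜ ⟨j, hj'⟩) ∧
      cotangentComplexBaseChange k (R ⧸ J) R (ResidueField R) =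
        cotangentComplexBaseChange k (ResidueField R) R (ResidueField R) ∘ₗ ι := by
  letI := quotResidueAlgebra R J hJ
  haveI : IsScalarTower R (R ⧸ J) (ResidueField R) := .of_algebraMap_eq' rfl
  have hle : RingHom.ker (algebraMap R (R ⧸ J)) ≤ RingHom.ker (algebraMap R (ResidueField R)) := by
    intro a ha
    rw [RingHom.mem_ker] at ha ⊢
    rw [IsScalarTower.algebraMap_apply R (R ⧸ J) (ResidueField R), ha, map_zero]
  refine ⟨LinearMap.baseChange (ResidueField R) (Submodule.inclusion hle), ?_, ?_⟩
  · intro j hj hj'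
    rfl
  · ext x
    rfl

theorem ker_algebraMap_residueField :
    RingHom.ker (algebraMap R (ResidueField R)) = maximalIdeal R := IsLocalRing.ker_residue

include hJ in
/-- `ι` is injective iff `J ∩ m² ⊆ m J`. -/
theorem injective_iff_inf_sq_le
    (ι : ResidueField R ⊗[R] RingHom.ker (algebraMap R (R ⧸ J)) →ₗ[ResidueField R]
        ResidueField R ⊗[R] RingHom.ker (algebraMap R (ResidueField R)))
    (hι : ∀ (j : R) (hj : j ∈ RingHom.ker (algebraMap R (R ⧸ J)))
        (hj' : j ∈ RingHom.ker (algebraMap R (ResidueField R))),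
        ι (1 ⊗ₜ ⟨j, hj⟩) = 1 ⊗ₜ ⟨j, hj'⟩) :
    Function.Injective ι ↔ J ⊓ maximalIdeal R ^ 2 ≤ maximalIdeal R * J := by
  have hkJ : RingHom.ker (algebraMap R (R ⧸ J)) = J := Ideal.mk_ker
  have hJm : J ≤ maximalIdeal R := IsLocalRing.le_maximalIdeal hJ
  constructor
  · intro hinj j hj
    have hj1 : j ∈ RingHom.ker (algebraMap R (R ⧸ J)) := by rw [hkJ]; exact hj.1
    have hj2 : j ∈ RingHom.ker (algebraMap R (ResidueField R)) := by
      rw [ker_algebraMap_residueField]; exact hJm hj.1
    have h0 : ι (1 ⊗ₜ ⟨j, hj1⟩) = 0 := by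
      rw [hι j hj1 hj2, one_tmul_eq_zero_iff]
      change j ∈ maximalIdeal R * RingHom.ker (algebraMap R (ResidueField R))
      rw [ker_algebraMap_residueField, ← pow_two]
      exact hj.2
    have h1 : (1 : ResidueField R) ⊗ₜ[R] (⟨j, hj1⟩ : RingHom.ker (algebraMap R (R ⧸ J))) = 0 :=
      hinj (by rw [h0, map_zero])
    rw [one_tmul_eq_zero_iff] at h1
    change j ∈ maximalIdeal R * RingHom.ker (algebraMap R (R ⧸ J)) at h1
    rwa [hkJ] at h1
  · intro h
    rw [injective_iff_map_eq_zero]
    intro u hu
    obtain ⟨⟨j, hj1⟩, rfl⟩ := exists_one_tmul_eq u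
    have hjJ : j ∈ J := by rw [← hkJ]; exact hj1
    have hj2 : j ∈ RingHom.ker (algebraMap R (ResidueField R)) := by
      rw [ker_algebraMap_residueField]; exact hJm hjJ
    rw [hι j hj1 hj2, one_tmul_eq_zero_iff] at hu
    change j ∈ maximalIdeal R * RingHom.ker (algebraMap R (ResidueField R)) at hu
    rw [ker_algebraMap_residueField, ← pow_two] at hu
    rw [one_tmul_eq_zero_iff]
    change j ∈ maximalIdeal R * RingHom.ker (algebraMap R (R ⧸ J))
    rw [hkJ]
    exact h ⟨hjJ, hu⟩

variable [IsNoetherianRing R] [Algebra.FormallySmooth k R] [Module.Free R Ω[R⁄k]]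
  [Module.Finite R Ω[R⁄k]]

include hJ in
theorem formallySmooth_quotient_iff_injective :
    letI := quotResidueAlgebra R J hJ
    haveI : IsScalarTower R (R ⧸ J) (ResidueField R) := .of_algebraMap_eq' rfl
    Algebra.FormallySmooth k (R ⧸ J) ↔
      Function.Injective (cotangentComplexBaseChange k (R ⧸ J) R (ResidueField R)) := by
  letI := quotResidueAlgebra R J hJ
  haveI : IsScalarTower R (R ⧸ J) (ResidueField R) := .of_algebraMap_eq' rfl
  haveI : Nontrivial (R ⧸ J) := Ideal.Quotient.nontrivial_iff.mpr hJ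
  haveI : IsLocalRing (R ⧸ J) := IsLocalRing.of_surjective' _ Ideal.Quotient.mk_surjective
  refine Algebra.FormallySmooth.iff_injective_cotangentComplexBaseChange (R := k) (S := R ⧸ J) R
    (ResidueField R) Ideal.Quotient.mk_surjective (IsNoetherian.noetherian _) ?_
  intro y hy
  obtain ⟨r, rfl⟩ := Ideal.Quotient.mk_surjective y
  rw [RingHom.mem_ker]
  change residue R r = 0
  rw [residue_eq_zero_iff]
  by_contra hr
  have hu : IsUnit r := by
    by_contra hnu
    exact hr ((mem_maximalIdeal r).mpr hnu)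
  exact (mem_maximalIdeal _).mp hy (hu.map _)

theorem formallySmooth_residueField_iff_injective :
    Algebra.FormallySmooth k (ResidueField R) ↔
      Function.Injective (cotangentComplexBaseChange k (ResidueField R) R (ResidueField R)) := by
  refine Algebra.FormallySmooth.iff_injective_cotangentComplexBaseChange (R := k)
    (S := ResidueField R) R (ResidueField R) residue_surjective (IsNoetherian.noetherian _) ?_
  rw [IsLocalRing.maximalIdeal_eq_bot]
  exact bot_le

include hJ in
theorem inf_sq_le_of_formallySmooth_quotient [Algebra.FormallySmooth k (R ⧸ J)] :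
    J ⊓ maximalIdeal R ^ 2 ≤ maximalIdeal R * J := by
  obtain ⟨ι, hι, hcomp⟩ := cotangent_comp k R J hJ
  have h1 := (formallySmooth_quotient_iff_injective k R J hJ).mp inferInstance
  rw [hcomp] at h1
  have h2 : Function.Injective ι := Function.Injective.of_comp h1
  exact (injective_iff_inf_sq_le R J hJ ι hι).mp h2

include hJ in
theorem formallySmooth_quotient_of_inf_sq_le [Algebra.FormallySmooth k (ResidueField R)]
    (h : J ⊓ maximalIdeal R ^ 2 ≤ maximalIdeal R * J) : Algebra.FormallySmooth k (R ⧸ J) := by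
  obtain ⟨ι, hι, hcomp⟩ := cotangent_comp k R J hJ
  rw [formallySmooth_quotient_iff_injective k R J hJ, hcomp]
  have h1 := (formallySmooth_residueField_iff_injective k R).mp inferInstance
  have h2 : Function.Injective ι := (injective_iff_inf_sq_le R J hJ ι hι).mpr h
  exact h1.comp h2

end

theorem isRegularLocalRing_quotient_of_formallySmooth (k R : Type u) [Field k] [CommRing R]
    [Algebra k R] [IsRegularLocalRing R] [Algebra.FormallySmooth k R] [Module.Free R Ω[R⁄k]]
    [Module.Finite R Ω[R⁄k]] (J : Ideal R) (hJ : J ≠ ⊤) [Algebra.FormallySmooth k (R ⧸ J)] :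
    IsRegularLocalRing (R ⧸ J) :=
  isRegularLocalRing_quotient_of_inf_sq_le R J hJ (inf_sq_le_of_formallySmooth_quotient k R J hJ)

theorem formallySmooth_quotient_of_isRegularLocalRing (k R : Type u) [Field k] [CommRing R]
    [Algebra k R] [IsRegularLocalRing R] [Algebra.FormallySmooth k R] [Module.Free R Ω[R⁄k]]
    [Module.Finite R Ω[R⁄k]] (J : Ideal R) [IsRegularLocalRing (R ⧸ J)]
    [Algebra.FormallySmooth k (ResidueField R)] :
    Algebra.FormallySmooth k (R ⧸ J) :=
  formallySmooth_quotient_of_inf_sq_le k R J (Ideal.Quotient.nontrivial_iff.mp inferInstance)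
    (inf_sq_le_of_isRegularLocalRing_quotient R J)

/-- A local algebra essentially of finite type over a field is a quotient of a localization of
a polynomial ring at a prime, which is a regular local ring, formally smooth over the field,
with finite free differentials. -/
theorem exists_presentation (k A : Type u) [Field k] [CommRing A] [Algebra k A] [IsLocalRing A]
    [Algebra.EssFiniteType k A] :
    ∃ (R : Type u) (_ : CommRing R) (_ : Algebra k R) (_ : IsRegularLocalRing R)
      (_ : Algebra.FormallySmooth k R) (_ : Module.Free R Ω[R⁄k]) (_ : Module.Finite R Ω[R⁄k])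
      (_ : Algebra.EssFiniteType k R) (ψ : R →ₐ[k] A), Function.Surjective ψ := by
  classical
  obtain ⟨σ, hσ⟩ := (Algebra.essFiniteType_iff (R := k) (S := A)).mp inferInstance
  let P := MvPolynomial σ k
  let φ : P →ₐ[k] A := MvPolynomial.aeval (fun i : σ => (i : A))
  have hφ : φ.range = Algebra.adjoin k (σ : Set A) := by
    rw [← Algebra.adjoin_range_eq_range_aeval]
    simp
  let Q : Ideal P := (maximalIdeal A).comap φ
  haveI : Q.IsPrime := Ideal.comap_isPrime _ _
  let R := Localization.AtPrime Q
  have hunit : ∀ y : Q.primeCompl, IsUnit (φ y) := by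
    intro y
    by_contra h
    exact y.2 ((mem_maximalIdeal _).mpr h)
  let ψ : R →ₐ[k] A := IsLocalization.liftAlgHom (M := Q.primeCompl) (f := φ) hunit
  have hψ : Function.Surjective ψ := by
    intro a
    obtain ⟨t, ht, htu, hat⟩ := hσ a
    rw [← hφ] at ht hat
    obtain ⟨t', rfl⟩ := ht
    obtain ⟨s', hs'⟩ := hat
    have ht'Q : t' ∈ Q.primeCompl := by
      intro h
      exact (mem_maximalIdeal _).mp h htu
    refine ⟨IsLocalization.mk' R s' ⟨t', ht'Q⟩, ?_⟩
    have h1 : ψ (IsLocalization.mk' R s' ⟨t', ht'Q⟩) * φ t' = φ s' := by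
      have : ψ (algebraMap P R t') = φ t' := IsLocalization.lift_eq _ _
      rw [← this, ← map_mul, IsLocalization.mk'_spec]
      exact IsLocalization.lift_eq _ _
    have h2 : φ s' = a * φ t' := hs'
    exact htu.mul_right_cancel (h1.trans h2)
  haveI : IsRegularRing P := inferInstance
  haveI : IsRegularLocalRing R := (isRegularRing_iff.mp inferInstance) Q
  haveI : Algebra.FormallySmooth P R := Algebra.FormallySmooth.of_isLocalization Q.primeCompl
  haveI : Algebra.FormallySmooth k R := Algebra.FormallySmooth.comp k P R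
  haveI : Algebra.EssFiniteType P R := Algebra.EssFiniteType.of_isLocalization R Q.primeCompl
  haveI : Algebra.EssFiniteType k R := Algebra.EssFiniteType.comp k P R
  haveI : Module.Finite R Ω[R⁄k] := inferInstance
  haveI : Module.Projective R Ω[R⁄k] := inferInstance
  haveI : Module.Free R Ω[R⁄k] := Module.free_of_flat_of_isLocalRing
  exact ⟨R, inferInstance, inferInstance, inferInstance, inferInstance, inferInstance,
    inferInstance, inferInstance, ψ, hψ⟩

/-- A formally smooth local algebra essentially of finite type over a field is regular. -/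
theorem isRegularLocalRing_of_formallySmooth (k A : Type u) [Field k] [CommRing A] [Algebra k A]
    [IsLocalRing A] [Algebra.EssFiniteType k A] [Algebra.FormallySmooth k A] :
    IsRegularLocalRing A := by
  obtain ⟨R, _, _, _, _, _, _, _, ψ, hψ⟩ := exists_presentation k A
  let e : (R ⧸ RingHom.ker ψ.toRingHom) ≃ₐ[k] A := Ideal.quotientKerAlgEquivOfSurjective hψ
  haveI : Algebra.FormallySmooth k (R ⧸ RingHom.ker ψ.toRingHom) :=
    Algebra.FormallySmooth.of_equiv e.symm
  have hJ : RingHom.ker ψ.toRingHom ≠ ⊤ := RingHom.ker_ne_top _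
  haveI := isRegularLocalRing_quotient_of_formallySmooth k R (RingHom.ker ψ.toRingHom) hJ
  exact IsRegularLocalRing.of_ringEquiv e.toRingEquiv

/-- A regular local algebra essentially of finite type over a field with formally smooth
(i.e. separable) residue field is formally smooth. -/
theorem formallySmooth_of_isRegularLocalRing (k A : Type u) [Field k] [CommRing A] [Algebra k A]
    [IsRegularLocalRing A] [Algebra.EssFiniteType k A]
    [Algebra.FormallySmooth k (ResidueField A)] : Algebra.FormallySmooth k A := by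
  obtain ⟨R, _, _, _, _, _, _, _, ψ, hψ⟩ := exists_presentation k A
  let e : (R ⧸ RingHom.ker ψ.toRingHom) ≃ₐ[k] A := Ideal.quotientKerAlgEquivOfSurjective hψ
  haveI : IsRegularLocalRing (R ⧸ RingHom.ker ψ.toRingHom) :=
    IsRegularLocalRing.of_ringEquiv e.symm.toRingEquiv
  haveI : IsLocalHom ψ := ⟨fun a ha => (Function.Surjective.isLocalHom ψ.toRingHom hψ).map_nonunit a ha⟩
  let f : ResidueField R →ₐ[k] ResidueField A := ResidueField.mapAlgHom ψ
  have hf : Function.Bijective f := by
    refine ⟨f.toRingHom.injective, ?_⟩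
    intro y
    obtain ⟨a, rfl⟩ := residue_surjective y
    obtain ⟨r, rfl⟩ := hψ a
    exact ⟨residue R r, rfl⟩
  haveI : Algebra.FormallySmooth k (ResidueField R) :=
    Algebra.FormallySmooth.of_equiv (AlgEquiv.ofBijective f hf).symm
  haveI := formallySmooth_quotient_of_isRegularLocalRing k R (RingHom.ker ψ.toRingHom)
  exact Algebra.FormallySmooth.of_equiv e

/-- For a local `k`-algebra `B` with residue field `k`, the map `m/m² → κ ⊗ Ω_{B/k}` is
bijective. -/
theorem kerCotangentToTensor_bijective (k B : Type u) [Field k] [CommRing B] [Algebra k B]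
    [IsLocalRing B] (hres : Function.Bijective (algebraMap k (ResidueField B))) :
    Function.Bijective (kerCotangentToTensor k B (ResidueField B)) := by
  have hsurj : Function.Surjective (algebraMap B (ResidueField B)) := residue_surjective
  constructor
  · -- injective: retraction from a section
    let e : k ≃ₐ[k] ResidueField B := AlgEquiv.ofBijective (Algebra.ofId k _) hres
    let g : ResidueField B →ₐ[k] B ⧸ (RingHom.ker (algebraMap B (ResidueField B)) ^ 2) :=
      (Algebra.ofId k _).comp e.symm.toAlgHom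
    have hg : (IsScalarTower.toAlgHom k B (ResidueField B)).kerSquareLift.comp g =
        AlgHom.id k (ResidueField B) := by
      ext x
      obtain ⟨y, rfl⟩ := e.surjective x
      simp [g, e]
    obtain ⟨l, hl⟩ := (retractionKerCotangentToTensorEquivSection (R := k) hsurj).symm ⟨g, hg⟩
    exact Function.LeftInverse.injective (g := l) (fun x => LinearMap.congr_fun hl x)
  · -- surjective: exactness and Ω[κ/k] = 0
    intro y
    have hsub : Subsingleton (Ω[ResidueField B⁄k]) :=
      KaehlerDifferential.subsingleton_of_surjective k (ResidueField B) hres.2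
    have hex := exact_kerCotangentToTensor_mapBaseChange k B (ResidueField B) hsurj
    exact (hex y).mp (Subsingleton.elim _ _)

/-- For a local `k`-algebra `B` with residue field `k`: `dim m/m² = dim κ ⊗ Ω_{B/k}`. -/
theorem finrank_cotangentSpace_eq (k B : Type u) [Field k] [CommRing B] [Algebra k B]
    [IsLocalRing B] (hres : Function.Bijective (algebraMap k (ResidueField B))) :
    Module.finrank (ResidueField B) (CotangentSpace B) =
      Module.finrank (ResidueField B) (ResidueField B ⊗[B] Ω[B⁄k]) := by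
  set I := RingHom.ker (algebraMap B (ResidueField B)) with hIdef
  have hI : I = maximalIdeal B := IsLocalRing.ker_residue
  let f₁ : (maximalIdeal B).Cotangent →ₗ[B] I.Cotangent :=
    Ideal.mapCotangent (maximalIdeal B) I (AlgHom.id B B) (by intro x hx; simpa [hI] using hx)
  have hf₁ : Function.Bijective f₁ := by
    constructor
    · rw [injective_iff_map_eq_zero]
      intro x hx
      obtain ⟨⟨x, hxm⟩, rfl⟩ := Ideal.toCotangent_surjective _ x
      have : f₁ ((maximalIdeal B).toCotangent ⟨x, hxm⟩) = I.toCotangent ⟨x, by rw [hI]; exact hxm⟩ :=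
        rfl
      rw [this, Ideal.toCotangent_eq_zero] at hx
      rw [Ideal.toCotangent_eq_zero]
      change x ∈ I ^ 2 at hx
      change x ∈ maximalIdeal B ^ 2
      rwa [hI] at hx
    · intro y
      obtain ⟨⟨y, hy⟩, rfl⟩ := Ideal.toCotangent_surjective _ y
      exact ⟨(maximalIdeal B).toCotangent ⟨y, by rw [← hI]; exact hy⟩, rfl⟩
  let F : CotangentSpace B →ₗ[B] ResidueField B ⊗[B] Ω[B⁄k] :=
    (kerCotangentToTensor k B (ResidueField B)) ∘ₗ f₁
  have hF : Function.Bijective F := (kerCotangentToTensor_bijective k B hres).comp hf₁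
  let F' : CotangentSpace B →ₗ[ResidueField B] ResidueField B ⊗[B] Ω[B⁄k] :=
    F.extendScalarsOfSurjective residue_surjective
  exact (LinearEquiv.ofBijective F' hF).finrank_eq

/-- Quotients of a Noetherian local `k`-algebra with residue field `k` by ideals containing a
power of the maximal ideal are finite over `k`. -/
theorem finite_quotient_of_pow_le (k R : Type u) [Field k] [CommRing R] [Algebra k R]
    [IsLocalRing R] [IsNoetherianRing R]
    (hres : Function.Surjective (algebraMap k (ResidueField R))) (𝔞 : Ideal R) (N : ℕ)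
    (h𝔞m : 𝔞 ≤ maximalIdeal R) (hN : maximalIdeal R ^ N ≤ 𝔞) : Module.Finite k (R ⧸ 𝔞) := by
  haveI : Module.Finite k (ResidueField R) :=
    Module.Finite.of_surjective (Algebra.linearMap k (ResidueField R)) hres
  let f : R ⧸ 𝔞 →ₐ[k] ResidueField R :=
    Ideal.Quotient.liftₐ 𝔞 (IsScalarTower.toAlgHom k R (ResidueField R)) (fun a ha =>
      (residue_eq_zero_iff a).mpr (h𝔞m ha))
  refine Module.finite_of_surjective_of_ker_le_nilradical f ?_ ?_ (IsNoetherian.noetherian _)
  · intro y
    obtain ⟨r, rfl⟩ := residue_surjective y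
    exact ⟨Ideal.Quotient.mk 𝔞 r, rfl⟩
  · intro y hy
    obtain ⟨r, rfl⟩ := Ideal.Quotient.mk_surjective y
    have hr : r ∈ maximalIdeal R := (residue_eq_zero_iff r).mp hy
    refine ⟨N, ?_⟩
    change (Ideal.Quotient.mk 𝔞 r) ^ N = 0
    rw [← map_pow, Ideal.Quotient.eq_zero_iff_mem]
    exact hN (Ideal.pow_mem_pow hr N)

/-- If `R ⧸ J₀` has the infinitesimal lifting property against finite local `k`-algebras, then
`J₀ ∩ m² ⊆ m J₀`. -/
theorem inf_sq_le_of_lifting (k R : Type u) [Field k] [CommRing R] [Algebra k R]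
    [IsLocalRing R] [IsNoetherianRing R] (J₀ : Ideal R) (hJ₀ : J₀ ≠ ⊤)
    (hres : Function.Surjective (algebraMap k (ResidueField R)))
    (hlift : ∀ (B' : Type u) [CommRing B'] [IsLocalRing B'] [Algebra k B'] [Module.Finite k B']
      (J : Ideal B'), J ^ 2 = ⊥ → ∀ f : R ⧸ J₀ →ₐ[k] B' ⧸ J,
        ∃ g : R ⧸ J₀ →ₐ[k] B', (Ideal.Quotient.mkₐ k J).comp g = f) :
    J₀ ⊓ maximalIdeal R ^ 2 ≤ maximalIdeal R * J₀ := by
  set m := maximalIdeal R with hm
  have hJ₀m : J₀ ≤ m := IsLocalRing.le_maximalIdeal hJ₀
  -- Step 1: for every N ≥ 1, J₀ ∩ m² ⊆ m J₀ + m^N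
  have key : ∀ N : ℕ, 1 ≤ N → J₀ ⊓ m ^ 2 ≤ m * J₀ ⊔ m ^ N := by
    intro N hN1
    set 𝔞 : Ideal R := m * J₀ ⊔ m ^ N with h𝔞
    have h𝔞m : 𝔞 ≤ m := sup_le Ideal.mul_le_left (Ideal.pow_le_self (by omega))
    have hfin : Module.Finite k (R ⧸ 𝔞) := finite_quotient_of_pow_le k R hres 𝔞 N h𝔞m le_sup_right
    have h𝔞top : 𝔞 ≠ ⊤ := fun h => (IsLocalRing.maximalIdeal.isMaximal R).ne_top
      (top_le_iff.mp (h ▸ h𝔞m))
    haveI : Nontrivial (R ⧸ 𝔞) := Ideal.Quotient.nontrivial_iff.mpr h𝔞top
    haveI : IsLocalRing (R ⧸ 𝔞) := IsLocalRing.of_surjective' _ Ideal.Quotient.mk_surjective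
    let π : R →ₐ[k] R ⧸ 𝔞 := Ideal.Quotient.mkₐ k 𝔞
    let J' : Ideal (R ⧸ 𝔞) := (J₀ ⊔ m ^ N).map π
    have hJ'sq : J' ^ 2 = ⊥ := by
      rw [eq_bot_iff, ← Ideal.map_pow, Ideal.map_le_iff_le_comap]
      intro x hx
      rw [Ideal.mem_comap, Ideal.mem_bot]
      change Ideal.Quotient.mk 𝔞 x = 0
      rw [Ideal.Quotient.eq_zero_iff_mem]
      have : (J₀ ⊔ m ^ N) ^ 2 ≤ 𝔞 := by
        rw [pow_two, Ideal.sup_mul, Ideal.mul_sup, Ideal.mul_sup]
        refine sup_le (sup_le ?_ ?_) (sup_le ?_ ?_)
        · exact le_trans (Ideal.mul_mono_left hJ₀m) le_sup_left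
        · exact le_trans Ideal.mul_le_right le_sup_right
        · exact le_trans Ideal.mul_le_left le_sup_right
        · exact le_trans Ideal.mul_le_right le_sup_right
      exact this hx
    -- the map f : R/J₀ → B'/J'
    let f : R ⧸ J₀ →ₐ[k] (R ⧸ 𝔞) ⧸ J' :=
      Ideal.Quotient.liftₐ J₀ ((Ideal.Quotient.mkₐ k J').comp π) (fun a ha => by
        change Ideal.Quotient.mk J' (π a) = 0
        rw [Ideal.Quotient.eq_zero_iff_mem]
        exact Ideal.mem_map_of_mem _ (le_sup_left (a := J₀) ha))
    obtain ⟨g, hg⟩ := hlift (R ⧸ 𝔞) J' hJ'sq f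
    -- δ r = g (mk r) - π r ∈ J'
    have hδ : ∀ r : R, g (Ideal.Quotient.mk J₀ r) - π r ∈ J' := by
      intro r
      rw [← Ideal.Quotient.eq]
      have := DFunLike.congr_fun hg (Ideal.Quotient.mk J₀ r)
      exact this
    have hmJ' : ∀ a ∈ m, ∀ y ∈ J', π a * y = 0 := by
      intro a ha y hy
      have h1 : π a * y ∈ (m * (J₀ ⊔ m ^ N)).map π := by
        rw [Ideal.map_mul]
        exact Ideal.mul_mem_mul (Ideal.mem_map_of_mem _ ha) hy
      have h2 : (m * (J₀ ⊔ m ^ N)).map π = ⊥ := by
        rw [eq_bot_iff, Ideal.map_le_iff_le_comap]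
        intro x hx
        rw [Ideal.mem_comap, Ideal.mem_bot]
        change Ideal.Quotient.mk 𝔞 x = 0
        rw [Ideal.Quotient.eq_zero_iff_mem]
        have : m * (J₀ ⊔ m ^ N) ≤ 𝔞 := by
          rw [Ideal.mul_sup]
          refine sup_le le_sup_left (le_trans ?_ le_sup_right)
          exact Ideal.mul_le_right
        exact this hx
      rw [h2] at h1
      exact h1
    have hprod : ∀ a ∈ m, ∀ b ∈ m, g (Ideal.Quotient.mk J₀ (a * b)) = π (a * b) := by
      intro a ha b hb
      set da := g (Ideal.Quotient.mk J₀ a) - π a with hda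
      set db := g (Ideal.Quotient.mk J₀ b) - π b with hdb
      have h1 : g (Ideal.Quotient.mk J₀ a) = π a + da := by rw [hda]; ring
      have h2 : g (Ideal.Quotient.mk J₀ b) = π b + db := by rw [hdb]; ring
      have h3 : da * db = 0 := by
        have : da * db ∈ J' ^ 2 := by rw [pow_two]; exact Ideal.mul_mem_mul (hδ a) (hδ b)
        rwa [hJ'sq] at this
      rw [map_mul, map_mul, h1, h2, map_mul]
      have h4 := hmJ' a ha db (hδ b)
      have h5 := hmJ' b hb da (hδ a)
      calc (π a + da) * (π b + db) = π a * π b + π a * db + π b * da + da * db := by ring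
        _ = π a * π b := by rw [h4, h5, h3]; ring
    have hsq : ∀ x ∈ m ^ 2, g (Ideal.Quotient.mk J₀ x) = π x := by
      intro x hx
      rw [pow_two] at hx
      refine Submodule.mul_induction_on hx (fun a ha b hb => hprod a ha b hb) ?_
      intro x y hx hy
      rw [map_add, map_add, map_add, hx, hy]
    rintro j ⟨hjJ, hjsq⟩
    have h1 := hsq j hjsq
    rw [Ideal.Quotient.eq_zero_iff_mem.mpr hjJ, map_zero] at h1
    exact Ideal.Quotient.eq_zero_iff_mem.mp h1.symm
  -- Step 2: Krull intersection
  rintro j hj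
  have hkr : (⨅ i : ℕ, m ^ i • (⊤ : Submodule R (R ⧸ (m * J₀)))) = ⊥ :=
    Ideal.iInf_pow_smul_eq_bot_of_isLocalRing (R := R) (M := R ⧸ (m * J₀)) m
      (IsLocalRing.maximalIdeal.isMaximal R).ne_top
  have hmem : (Ideal.Quotient.mk (m * J₀) j : R ⧸ (m * J₀)) ∈
      (⨅ i : ℕ, m ^ i • (⊤ : Submodule R (R ⧸ (m * J₀)))) := by
    rw [Submodule.mem_iInf]
    intro N
    rcases Nat.eq_zero_or_pos N with rfl | hN
    · simp
    · have := key N hN hj
      obtain ⟨y, hy, z, hz, rfl⟩ := Submodule.mem_sup.mp this
      rw [map_add, Ideal.Quotient.eq_zero_iff_mem.mpr hy, zero_add]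
      have : (Ideal.Quotient.mk (m * J₀) z : R ⧸ (m * J₀)) = z • (1 : R ⧸ (m * J₀)) := by
        rw [Algebra.smul_def, mul_one]; rfl
      rw [this]
      exact Submodule.smul_mem_smul hz Submodule.mem_top
  rw [hkr, Submodule.mem_bot] at hmem
  exact Ideal.Quotient.eq_zero_iff_mem.mp hmem

/-- Over a perfect field, a finite type algebra is a regular ring iff it is formally smooth. -/
theorem isRegularRing_iff_formallySmooth (k B : Type u) [Field k] [PerfectField k] [CommRing B]
    [Algebra k B] [Algebra.FiniteType k B] : IsRegularRing B ↔ Algebra.FormallySmooth k B := by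
  have hN : IsNoetherianRing B := Algebra.FiniteType.isNoetherianRing k B
  have hfp : Algebra.FinitePresentation k B := Algebra.FinitePresentation.of_finiteType.mp inferInstance
  constructor
  · intro hreg
    rw [← Algebra.smoothLocus_eq_univ_iff]
    ext P
    simp only [Set.mem_univ, iff_true]
    change Algebra.FormallySmooth k (Localization.AtPrime P.asIdeal)
    haveI : IsRegularLocalRing (Localization.AtPrime P.asIdeal) :=
      (isRegularRing_iff.mp hreg) P.asIdeal
    haveI : Algebra.EssFiniteType k (ResidueField (Localization.AtPrime P.asIdeal)) :=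
      inferInstanceAs (Algebra.EssFiniteType k
        (Localization.AtPrime P.asIdeal ⧸ maximalIdeal (Localization.AtPrime P.asIdeal)))
    haveI : Algebra.FormallySmooth k (ResidueField (Localization.AtPrime P.asIdeal)) :=
      Algebra.FormallySmooth.of_perfectField
    exact formallySmooth_of_isRegularLocalRing k _
  · intro hsm
    rw [isRegularRing_iff]
    intro P hP
    haveI : Algebra.FormallySmooth B (Localization.AtPrime P) :=
      Algebra.FormallySmooth.of_isLocalization P.primeCompl
    haveI : Algebra.FormallySmooth k (Localization.AtPrime P) :=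
      Algebra.FormallySmooth.comp k B _
    exact isRegularLocalRing_of_formallySmooth k _

/-- Residue fields at maximal ideals of finite type algebras over an algebraically closed field
are `k`. -/
theorem bijective_algebraMap_residueField_of_isAlgClosed (k A : Type u) [Field k] [IsAlgClosed k]
    [CommRing A] [Algebra k A] [Algebra.FiniteType k A] (m : Ideal A) [m.IsMaximal] :
    Function.Bijective (algebraMap k (ResidueField (Localization.AtPrime m))) := by
  letI : Field (A ⧸ m) := Ideal.Quotient.field m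
  haveI : Module.Finite k (A ⧸ m) := finite_of_finite_type_of_isJacobsonRing k (A ⧸ m)
  have h1 : Function.Bijective (algebraMap k (A ⧸ m)) :=
    IsAlgClosed.algebraMap_bijective_of_isIntegral
  have h2 := Ideal.bijective_algebraMap_quotient_residueField m
  have : algebraMap k (ResidueField (Localization.AtPrime m)) =
      (algebraMap (A ⧸ m) m.ResidueField).comp (algebraMap k (A ⧸ m)) := by
    ext x
    rw [RingHom.comp_apply, ← IsScalarTower.algebraMap_apply]
  rw [this]
  exact h2.comp h1

/-- The fibre of `Ω_{A/k}` at a prime `P` agrees with the fibre of `Ω_{A_P/k}` at the closed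
point. -/
theorem finrank_fiber_kaehler_eq (k A : Type u) [Field k] [CommRing A] [Algebra k A]
    (P : Ideal A) [P.IsPrime] :
    Module.finrank P.ResidueField (P.ResidueField ⊗[A] Ω[A⁄k]) =
      Module.finrank (ResidueField (Localization.AtPrime P))
        (ResidueField (Localization.AtPrime P) ⊗[Localization.AtPrime P]
          Ω[Localization.AtPrime P⁄k]) := by
  let Ap := Localization.AtPrime P
  let κ := ResidueField Ap
  let e₁ : Ap ⊗[A] Ω[A⁄k] ≃ₗ[Ap] Ω[Ap⁄k] := tensorKaehlerEquivOfFormallyEtale k A Ap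
  let e₂ : κ ⊗[Ap] (Ap ⊗[A] Ω[A⁄k]) ≃ₗ[κ] κ ⊗[Ap] Ω[Ap⁄k] := e₁.baseChange Ap κ
  let e₃ : κ ⊗[Ap] (Ap ⊗[A] Ω[A⁄k]) ≃ₗ[κ] κ ⊗[A] Ω[A⁄k] :=
    AlgebraTensorModule.cancelBaseChange A Ap κ κ Ω[A⁄k]
  exact (e₃.symm.trans e₂).finrank_eq

/-- Smoothness can be checked at maximal ideals. -/
theorem formallySmooth_of_forall_isMaximal (k A : Type u) [CommRing k] [CommRing A] [Algebra k A]
    [Algebra.FinitePresentation k A]
    (h : ∀ (m : Ideal A) [m.IsMaximal], Algebra.IsSmoothAt k m) : Algebra.FormallySmooth k A := by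
  rw [← Algebra.smoothLocus_eq_univ_iff]
  by_contra hne
  have hopen : IsOpen (Algebra.smoothLocus k A) := Algebra.isOpen_smoothLocus
  obtain ⟨I, hI⟩ := (PrimeSpectrum.isClosed_iff_zeroLocus_ideal _).mp hopen.isClosed_compl
  have hItop : I ≠ ⊤ := by
    rintro rfl
    apply hne
    rw [← Set.compl_empty_iff, hI]
    simp
  obtain ⟨m, hm, hIm⟩ := Ideal.exists_le_maximal I hItop
  have hmem : (⟨m, hm.isPrime⟩ : PrimeSpectrum A) ∈ (Algebra.smoothLocus k A)ᶜ := by
    rw [hI]; exact hIm
  exact hmem (h m)

end Groth.Agent.Lib.Helper65.RegularSmooth
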