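import Mathlib
import Groth.Prelude.Def_MeroDiv

/-!
# Divisors (in the sense of `Mero.Divisor`) on Noetherian schemes whose closed points have
one-dimensional local rings ("absolute curves").

Main results:
* `exists_regSub_of_nzd`: on a locally Noetherian scheme a nonzerodivisor germ is the germ of a
  regular section (so `Mero.regStalk X x = nonZeroDivisors`).
* `local_structure`: a divisor is locally `a / b` with `a`, `b` regular sections.
* `finite_supp`, `eq_one_of_not_isClosed`, `mem_divisorGroup_of_finite`: on an absolute curve the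
  divisors are exactly the families of germs with finite support in the closed points.
-/

universe u
open CategoryTheory AlgebraicGeometry TopologicalSpace Opposite

namespace Groth.Agent.Lib.Helper65.CurveDiv

variable {X : Scheme.{u}}

/-! ### Topology -/

/-- In a Noetherian quasi-sober space, a locally closed set all of whose points are closed is
finite. -/
theorem finite_of_closedPoints {α : Type*} [TopologicalSpace α] [NoetherianSpace α] [QuasiSober α]
    (V K : Set α) (hV : IsOpen V) (hK : IsClosed K) (h : ∀ z ∈ K ∩ V, IsClosed ({z} : Set α)) :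
    (K ∩ V).Finite := by
  obtain ⟨S, hSfin, hSc, hSirr, hS⟩ := NoetherianSpace.exists_finite_set_isClosed_irreducible hK
  have hsub : K ∩ V ⊆ ⋃ t ∈ S, (t ∩ V) := by
    rintro z ⟨hzK, hzV⟩
    rw [hS] at hzK
    obtain ⟨t, htS, hzt⟩ := hzK
    exact Set.mem_biUnion htS ⟨hzt, hzV⟩
  refine (Set.Finite.biUnion hSfin fun t ht => ?_).subset hsub
  apply Set.Subsingleton.finite
  have key : ∀ z ∈ t ∩ V, z = (hSirr t ht).genericPoint := by
    rintro z ⟨hzt, hzV⟩
    have hgen := (hSirr t ht).isGenericPoint_genericPoint (hSc t ht)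
    have hspec : (hSirr t ht).genericPoint ⤳ z := hgen.specializes hzt
    have hηV : (hSirr t ht).genericPoint ∈ V := hspec.mem_open hV hzV
    have hηK : (hSirr t ht).genericPoint ∈ K := by
      rw [hS]; exact ⟨t, ht, hgen.mem⟩
    have hcl := h _ ⟨hηK, hηV⟩
    have : t = {(hSirr t ht).genericPoint} := hgen.def.symm.trans hcl.closure_eq
    rw [this] at hzt
    exact hzt
  intro z hz z' hz'
  rw [key z hz, key z' hz']

/-! ### Dimension of the local rings -/

theorem krullDimLE_zero_of_not_isClosed [IsNoetherian X]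
    (hC : ∀ x : X, IsClosed ({x} : Set X) → ringKrullDim (X.presheaf.stalk x) = 1)
    (x : X) (hx : ¬ IsClosed ({x} : Set X)) : Ring.KrullDimLE 0 (X.presheaf.stalk x) := by
  obtain ⟨y, hy, hyc⟩ := (isClosed_closure (s := ({x} : Set X))).exists_closed_singleton
    ⟨x, subset_closure rfl⟩
  have hxy : x ⤳ y := specializes_iff_mem_closure.mpr hy
  have hne : y ≠ x := by
    rintro rfl
    exact hx hyc
  have hlt : y < x := lt_of_le_not_ge hxy (fun h => hne (Specializes.antisymm h hxy).eq)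
  have h1 := hC y hyc
  rw [AlgebraicGeometry.ringKrullDim_stalk_eq_coheight] at h1
  apply AlgebraicGeometry.krullDimLE_of_coheight_le
  have h2 := Order.coheight_add_one_le hlt
  have h3 : Order.coheight y = 1 := by exact_mod_cast h1
  rw [h3] at h2
  have h4 : Order.coheight x = 0 := by
    generalize Order.coheight x = c at *
    induction c with
    | top => simp at h2
    | coe c =>
      norm_cast at h2 ⊢
      omega
  rw [h4]; simp

theorem isUnit_of_nzd_of_dimLE_zero (z : X)
    (h0 : Ring.KrullDimLE 0 (X.presheaf.stalk z)) (a : X.presheaf.stalk z)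
    (ha : a ∈ nonZeroDivisors (X.presheaf.stalk z)) : IsUnit a := by
  by_contra hnu
  have hnil : IsNilpotent a := Ring.KrullDimLE.isNilpotent_iff_mem_nonunits.mpr hnu
  obtain ⟨n, hn⟩ := hnil
  have : a ^ n ∈ nonZeroDivisors (X.presheaf.stalk z) := pow_mem ha n
  rw [hn] at this
  exact zero_notMem_nonZeroDivisors this

/-- If the local ring at `z` is zero-dimensional, every divisor germ at `z` is trivial. -/
theorem germ_trivial_of_dim_zero (z : X)
    (h0 : Ring.KrullDimLE 0 (X.presheaf.stalk z)) (g : Mero.Germ X z) : g = 1 := by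
  have hU : Mero.regStalk X z ≤ IsUnit.submonoid (X.presheaf.stalk z) := fun a ha =>
    isUnit_of_nzd_of_dimLE_zero z h0 a (Mero.regStalk_le_nonZeroDivisors z ha)
  let e := IsLocalization.atUnits (X.presheaf.stalk z) (Mero.regStalk X z) (S := Mero.KStalk X z) hU
  obtain ⟨u, rfl⟩ := QuotientGroup.mk_surjective g
  rw [QuotientGroup.eq_one_iff]
  have hu : IsUnit (e.symm (u : Mero.KStalk X z)) := u.isUnit.map e.symm
  refine ⟨hu.unit, ?_⟩
  ext
  change algebraMap _ (Mero.KStalk X z) (e.symm (u : Mero.KStalk X z)) = (u : Mero.KStalk X z)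
  rw [← e.commutes, Algebra.algebraMap_self, RingHom.id_apply, e.apply_symm_apply]

/-! ### Regular germs and their classes -/

theorem lmk_eq_mk' (x : X) (a : X.presheaf.stalk x) (s : Mero.regStalk X x) :
    (LocalizedModule.mk a s : Mero.KStalk X x) = IsLocalization.mk' (Mero.KStalk X x) a s := by
  rw [← Localization.mk_eq_mk']
  rfl

/-- the unit of `K_{X,x}` attached to a regular germ. -/
noncomputable def regUnit (x : X) (a : Mero.regStalk X x) : (Mero.KStalk X x)ˣ :=
  (IsLocalization.map_units (Mero.KStalk X x) a).unit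

@[simp] theorem regUnit_val (x : X) (a : Mero.regStalk X x) :
    ((regUnit x a : (Mero.KStalk X x)ˣ) : Mero.KStalk X x) =
      algebraMap _ _ (a : X.presheaf.stalk x) := rfl

/-- class of a regular germ in the group of divisor germs. -/
noncomputable def regClass (x : X) (a : Mero.regStalk X x) : Mero.Germ X x :=
  QuotientGroup.mk (regUnit x a)

theorem regClass_eq_one_of_isUnit (x : X) (a : Mero.regStalk X x)
    (h : IsUnit (a : X.presheaf.stalk x)) : regClass x a = 1 := by
  rw [regClass, QuotientGroup.eq_one_iff]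
  refine ⟨h.unit, ?_⟩
  ext
  rfl

theorem isUnit_of_regClass_eq_one (x : X) (a : Mero.regStalk X x) (h : regClass x a = 1) :
    IsUnit (a : X.presheaf.stalk x) := by
  rw [regClass, QuotientGroup.eq_one_iff] at h
  obtain ⟨v, hv⟩ := h
  have := congrArg Units.val hv
  have h2 : algebraMap (X.presheaf.stalk x) (Mero.KStalk X x) v =
      algebraMap _ _ (a : X.presheaf.stalk x) := this
  have h3 := Mero.algebraMap_KStalk_injective x h2
  rw [← h3]
  exact v.isUnit

theorem regClass_one (x : X) : regClass x (1 : Mero.regStalk X x) = 1 :=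
  regClass_eq_one_of_isUnit x 1 isUnit_one

theorem nzd_of_isUnit_algebraMap (x : X) (a : X.presheaf.stalk x)
    (h1 : IsUnit (algebraMap (X.presheaf.stalk x) (Mero.KStalk X x) a)) :
    a ∈ nonZeroDivisors (X.presheaf.stalk x) := by
  rw [mem_nonZeroDivisors_iff_right]
  intro c hc
  have h2 : algebraMap (X.presheaf.stalk x) (Mero.KStalk X x) c * algebraMap _ _ a = 0 := by
    rw [← map_mul, hc, map_zero]
  have h3 := (h1.mul_left_eq_zero).mp h2
  exact Mero.algebraMap_KStalk_injective x (by rw [h3, map_zero])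

/-- If `mk a s` is a unit of `K_{X,x}` then `a` is a nonzerodivisor. -/
theorem nzd_of_isUnit_mk (x : X) (a : X.presheaf.stalk x) (s : Mero.regStalk X x)
    (h : IsUnit (LocalizedModule.mk a s : Mero.KStalk X x)) :
    a ∈ nonZeroDivisors (X.presheaf.stalk x) := by
  rw [lmk_eq_mk'] at h
  have h1 : IsUnit (algebraMap (X.presheaf.stalk x) (Mero.KStalk X x) a) := by
    have := h.mul (IsLocalization.map_units (Mero.KStalk X x) s)
    rwa [IsLocalization.mk'_spec] at this
  exact nzd_of_isUnit_algebraMap x a h1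

theorem regGerm_res {U V : X.Opens} (hUV : U ≤ V) (a : Mero.regSub X V) (y : U) :
    Mero.regGerm y ⟨X.presheaf.map (homOfLE hUV).op a.1, Mero.regSub_res _ a.2⟩ =
      Mero.regGerm ⟨y.1, hUV y.2⟩ a :=
  Subtype.ext (TopCat.Presheaf.germ_res_apply X.presheaf _ y.1 y.2 a.1)

/-! ### Sections `a / b` of `K_X` -/

/-- the section `a / b` of `K_X` over `V`. -/
noncomputable def fracSec {V : X.Opens} (a : Γ(X, V)) (b : Mero.regSub X V) : Γ(Mero.kmod X, V) :=
  ⟨fun y => LocalizedModule.mk (X.presheaf.germ V y.1 y.2 a) (Mero.regGerm y b),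
    fun y => ⟨V, y.2, 𝟙 _, a, b, fun _ => rfl⟩⟩

theorem fracSec_apply {V : X.Opens} (a : Γ(X, V)) (b : Mero.regSub X V) (y : V) :
    (fracSec a b).1 y = LocalizedModule.mk (X.presheaf.germ V y.1 y.2 a) (Mero.regGerm y b) := rfl

theorem fracSec_mul_swap {V : X.Opens} (a b : Mero.regSub X V) :
    fracSec a.1 b * fracSec b.1 a = 1 := by
  apply Subtype.ext
  funext y
  change (LocalizedModule.mk _ _ : Mero.KStalk X y.1) * LocalizedModule.mk _ _ = 1
  rw [lmk_eq_mk', lmk_eq_mk', ← IsLocalization.mk'_mul]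
  have : (X.presheaf.germ V y.1 y.2 a.1) * (X.presheaf.germ V y.1 y.2 b.1) =
      ((Mero.regGerm y b * Mero.regGerm y a : Mero.regStalk X y.1) : X.presheaf.stalk y.1) := by
    rw [mul_comm]; rfl
  rw [this]
  exact IsLocalization.mk'_self' _

/-- the unit `a / b` of `Γ(V, K_X)` for regular sections `a`, `b`. -/
noncomputable def fracUnit {V : X.Opens} (a b : Mero.regSub X V) : (Γ(Mero.kmod X, V))ˣ :=
  ⟨fracSec a.1 b, fracSec b.1 a, fracSec_mul_swap a b, fracSec_mul_swap b a⟩

theorem germOf_fracUnit {V : X.Opens} (a b : Mero.regSub X V) (y : V) :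
    Mero.germOf (fracUnit a b) y =
      regClass y.1 (Mero.regGerm y a) / regClass y.1 (Mero.regGerm y b) := by
  rw [regClass, regClass, ← QuotientGroup.mk_div]
  refine congrArg _ (Units.ext ?_)
  rw [div_eq_mul_inv, Units.val_mul, Units.eq_mul_inv_iff_mul_eq]
  change (LocalizedModule.mk _ _ : Mero.KStalk X y.1) * _ = _
  rw [lmk_eq_mk']
  simp only [regUnit_val]
  exact IsLocalization.mk'_spec _ _ _

/-! ### Local structure of divisors -/

/-- Local structure of a divisor: near every point it is `a / b` with `a`, `b` regular sections. -/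
theorem local_structure (D : Mero.Divisor X) (x : X) (W : X.Opens) (hxW : x ∈ W) :
    ∃ (V : X.Opens) (_ : x ∈ V) (_ : V ≤ W) (a b : Mero.regSub X V),
      ∀ y : V, D.1 y.1 = regClass y.1 (Mero.regGerm y a) / regClass y.1 (Mero.regGerm y b) := by
  obtain ⟨U, hxU, f, hf⟩ := D.2 x
  obtain ⟨V₀, hxV₀, i, a₀, b₀, hab⟩ := f.1.2 ⟨x, hxU⟩
  have hV₀U : V₀ ≤ U := i.le
  obtain ⟨V, hV⟩ : ∃ V : X.Opens, V = V₀ ⊓ W := ⟨_, rfl⟩
  have hVV₀ : V ≤ V₀ := hV ▸ inf_le_left
  have hVW : V ≤ W := hV ▸ inf_le_right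
  have hVU : V ≤ U := hVV₀.trans hV₀U
  have hxV : x ∈ V := hV ▸ ⟨hxV₀, hxW⟩
  let a : Γ(X, V) := X.presheaf.map (homOfLE hVV₀).op a₀
  let b : Γ(X, V) := X.presheaf.map (homOfLE hVV₀).op b₀.1
  have hb : b ∈ Mero.regSub X V := Mero.regSub_res _ b₀.2
  have hval : ∀ y : V, (f.1.1 ⟨y.1, hVU y.2⟩ : Mero.KStalk X y.1) =
      LocalizedModule.mk (X.presheaf.germ V y.1 y.2 a) (Mero.regGerm y ⟨b, hb⟩) := by
    intro y
    have := hab ⟨y.1, hVV₀ y.2⟩
    refine this.trans ?_
    exact Mero.mk_congr (TopCat.Presheaf.germ_res_apply X.presheaf _ y.1 y.2 a₀).symm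
      (TopCat.Presheaf.germ_res_apply X.presheaf _ y.1 y.2 b₀.1).symm
  have hunit : ∀ y : V, IsUnit (f.1.1 ⟨y.1, hVU y.2⟩ : Mero.KStalk X y.1) := by
    intro y
    exact (f.isUnit.map (Mero.evalK X U ⟨y.1, hVU y.2⟩))
  have ha : a ∈ Mero.regSub X V := by
    intro y
    have := hunit y
    rw [hval y] at this
    exact nzd_of_isUnit_mk y.1 _ _ this
  refine ⟨V, hxV, hVW, ⟨a, ha⟩, ⟨b, hb⟩, fun y => ?_⟩
  rw [hf ⟨y.1, hVU y.2⟩, regClass, regClass, ← QuotientGroup.mk_div]
  refine congrArg _ (Units.ext ?_)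
  rw [div_eq_mul_inv, Units.val_mul, Units.eq_mul_inv_iff_mul_eq]
  change (f.1.1 ⟨y.1, hVU y.2⟩ : Mero.KStalk X y.1) * _ = _
  rw [hval y, lmk_eq_mk']
  simp only [regUnit_val]
  exact IsLocalization.mk'_spec _ _ _

/-! ### Nonzerodivisor germs are germs of regular sections (locally Noetherian case) -/

/-- On a locally Noetherian scheme, a nonzerodivisor germ is the germ of a regular section. -/
theorem exists_regSub_of_nzd [IsLocallyNoetherian X] (x : X) (g : X.presheaf.stalk x)
    (hg : g ∈ nonZeroDivisors (X.presheaf.stalk x)) (W₀ : X.Opens) (hx₀ : x ∈ W₀) :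
    ∃ (V : X.Opens) (hxV : x ∈ V) (_ : V ≤ W₀) (a : Mero.regSub X V),
      X.presheaf.germ V x hxV a.1 = g := by
  obtain ⟨U, hxU, s, rfl⟩ := X.presheaf.exists_germ_eq (x := x) g
  obtain ⟨W, hW, hxW, hWU⟩ := Opens.isBasis_iff_nbhd.mp X.isBasis_affineOpens
    (show x ∈ U ⊓ W₀ from ⟨hxU, hx₀⟩)
  have hW' : IsAffineOpen W := hW
  have hWU' : W ≤ U := hWU.trans inf_le_left
  have : IsNoetherianRing Γ(X, W) := IsLocallyNoetherian.component_noetherian ⟨W, hW⟩
  let a0 : Γ(X, W) := X.presheaf.map (homOfLE hWU').op s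
  have ha0 : X.presheaf.germ W x hxW a0 = X.presheaf.germ U x hxU s :=
    TopCat.Presheaf.germ_res_apply X.presheaf _ x hxW s
  -- the annihilator of a0
  let I : Ideal Γ(X, W) := (Ideal.span {a0}).annihilator
  have hI : ∀ t : Γ(X, W), t ∈ I ↔ t * a0 = 0 := by
    intro t
    rw [Submodule.mem_annihilator_span_singleton]
    rfl
  -- local algebra structure at a point
  have hloc : ∀ (y : X) (hy : y ∈ W),
      let _ : Algebra Γ(X, W) (X.presheaf.stalk y) := X.presheaf.algebra_section_stalk ⟨y, hy⟩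
      IsLocalization.AtPrime (X.presheaf.stalk y) (hW'.primeIdealOf ⟨y, hy⟩).asIdeal :=
    fun y hy => hW'.isLocalization_stalk ⟨y, hy⟩
  -- I_p = 0
  have hsupp : hW'.primeIdealOf ⟨x, hxW⟩ ∉ Module.support Γ(X, W) I := by
    rw [Module.notMem_support_iff']
    rintro ⟨t, ht⟩
    let _ : Algebra Γ(X, W) (X.presheaf.stalk x) := X.presheaf.algebra_section_stalk ⟨x, hxW⟩
    have := hloc x hxW
    have h1 : X.presheaf.germ W x hxW t * X.presheaf.germ U x hxU s = 0 := by
      rw [← ha0, ← map_mul, (hI t).mp ht, map_zero]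
    have h2 : algebraMap Γ(X, W) (X.presheaf.stalk x) t = 0 :=
      (mul_right_mem_nonZeroDivisors_eq_zero_iff hg).mp h1
    obtain ⟨m, hm⟩ := (IsLocalization.map_eq_zero_iff (hW'.primeIdealOf ⟨x, hxW⟩).asIdeal.primeCompl
      (X.presheaf.stalk x) t).mp h2
    refine ⟨m.1, m.2, ?_⟩
    apply Subtype.ext
    exact hm
  rw [Module.mem_support_iff_of_finite, SetLike.not_le_iff_exists] at hsupp
  obtain ⟨h, hhann, hhp⟩ := hsupp
  have hh : ∀ t ∈ I, h * t = 0 := by
    intro t ht
    have := Module.mem_annihilator.mp hhann ⟨t, ht⟩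
    exact congrArg Subtype.val this
  have hxV : x ∈ X.basicOpen h := by
    rw [X.mem_basicOpen h x hxW]
    let _ : Algebra Γ(X, W) (X.presheaf.stalk x) := X.presheaf.algebra_section_stalk ⟨x, hxW⟩
    have := hloc x hxW
    exact (IsLocalization.AtPrime.isUnit_to_map_iff (X.presheaf.stalk x)
      (hW'.primeIdealOf ⟨x, hxW⟩).asIdeal h).mpr hhp
  have hVW : X.basicOpen h ≤ W := X.basicOpen_le h
  refine ⟨X.basicOpen h, hxV, hVW.trans (hWU.trans inf_le_right),
    ⟨X.presheaf.map (homOfLE hVW).op a0, ?_⟩, ?_⟩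
  · rintro ⟨y, hy⟩
    have hyW : y ∈ W := hVW hy
    change X.presheaf.germ (X.basicOpen h) y hy _ ∈ _
    rw [TopCat.Presheaf.germ_res_apply]
    let _ : Algebra Γ(X, W) (X.presheaf.stalk y) := X.presheaf.algebra_section_stalk ⟨y, hyW⟩
    have hl := hloc y hyW
    have hhu : IsUnit (algebraMap Γ(X, W) (X.presheaf.stalk y) h) :=
      (X.mem_basicOpen h y hyW).mp hy
    rw [mem_nonZeroDivisors_iff_right]
    intro c' hc'
    obtain ⟨⟨c, m⟩, hcm⟩ := IsLocalization.surj (hW'.primeIdealOf ⟨y, hyW⟩).asIdeal.primeCompl c'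
    have hmu : IsUnit (algebraMap Γ(X, W) (X.presheaf.stalk y) m) :=
      IsLocalization.map_units _ m
    have h1 : algebraMap Γ(X, W) (X.presheaf.stalk y) (c * a0) = 0 := by
      rw [map_mul, ← hcm]
      change c' * _ * X.presheaf.germ W y hyW a0 = 0
      rw [mul_right_comm, hc', zero_mul]
    obtain ⟨t, ht⟩ := (IsLocalization.map_eq_zero_iff (hW'.primeIdealOf ⟨y, hyW⟩).asIdeal.primeCompl
      (X.presheaf.stalk y) (c * a0)).mp h1
    have htI : (t : Γ(X, W)) * c ∈ I := by
      rw [hI, mul_assoc]; exact ht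
    have h2 := hh _ htI
    have htu : IsUnit (algebraMap Γ(X, W) (X.presheaf.stalk y) t) :=
      IsLocalization.map_units _ t
    have h3 : algebraMap Γ(X, W) (X.presheaf.stalk y) c = 0 := by
      have := congrArg (algebraMap Γ(X, W) (X.presheaf.stalk y)) h2
      rw [map_mul, map_mul, map_zero] at this
      exact (htu.mul_right_eq_zero).mp ((hhu.mul_right_eq_zero).mp this)
    rw [h3] at hcm
    exact (hmu.mul_left_eq_zero).mp hcm
  · change X.presheaf.germ (X.basicOpen h) x hxV (X.presheaf.map (homOfLE hVW).op a0) = _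
    rw [TopCat.Presheaf.germ_res_apply, ha0]

/-- `Mero.regStalk X x` is the set of all nonzerodivisors when `X` is locally Noetherian. -/
theorem regStalk_eq_nonZeroDivisors [IsLocallyNoetherian X] (x : X) :
    Mero.regStalk X x = nonZeroDivisors (X.presheaf.stalk x) := by
  apply le_antisymm (Mero.regStalk_le_nonZeroDivisors x)
  intro g hg
  obtain ⟨V, hxV, -, a, ha⟩ := exists_regSub_of_nzd x g hg ⊤ trivial
  exact ⟨V, hxV, a.1, a.2, ha⟩

/-- every divisor germ is a quotient of classes of regular germs (locally Noetherian case). -/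
theorem exists_regStalk_frac [IsLocallyNoetherian X] (x : X) (γ : Mero.Germ X x) :
    ∃ a s : Mero.regStalk X x, γ = regClass x a / regClass x s := by
  obtain ⟨u, rfl⟩ := QuotientGroup.mk_surjective γ
  obtain ⟨⟨a', s⟩, has⟩ := IsLocalization.surj (Mero.regStalk X x) (u : Mero.KStalk X x)
  have hu : IsUnit (algebraMap (X.presheaf.stalk x) (Mero.KStalk X x) a') := by
    rw [← has]
    exact u.isUnit.mul (IsLocalization.map_units _ s)
  have ha' : a' ∈ Mero.regStalk X x := by
    rw [regStalk_eq_nonZeroDivisors]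
    exact nzd_of_isUnit_algebraMap x a' hu
  refine ⟨⟨a', ha'⟩, s, ?_⟩
  rw [regClass, regClass, ← QuotientGroup.mk_div]
  refine congrArg _ (Units.ext ?_)
  rw [div_eq_mul_inv, Units.val_mul, Units.eq_mul_inv_iff_mul_eq]
  exact has

/-- two regular germs are simultaneously germs of regular sections on a common neighbourhood. -/
theorem exists_common (x : X) (a s : Mero.regStalk X x) (W : X.Opens) (hxW : x ∈ W) :
    ∃ (V : X.Opens) (hxV : x ∈ V) (_ : V ≤ W) (A B : Mero.regSub X V),
      Mero.regGerm ⟨x, hxV⟩ A = a ∧ Mero.regGerm ⟨x, hxV⟩ B = s := by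
  obtain ⟨a, V₁, hx₁, A₀, hA₀, rfl⟩ := a
  obtain ⟨s, V₂, hx₂, B₀, hB₀, rfl⟩ := s
  have h1 : V₁ ⊓ V₂ ⊓ W ≤ V₁ := inf_le_left.trans inf_le_left
  have h2 : V₁ ⊓ V₂ ⊓ W ≤ V₂ := inf_le_left.trans inf_le_right
  refine ⟨V₁ ⊓ V₂ ⊓ W, ⟨⟨hx₁, hx₂⟩, hxW⟩, inf_le_right,
    ⟨X.presheaf.map (homOfLE h1).op A₀, Mero.regSub_res _ hA₀⟩,
    ⟨X.presheaf.map (homOfLE h2).op B₀, Mero.regSub_res _ hB₀⟩, ?_, ?_⟩
  · exact Subtype.ext (TopCat.Presheaf.germ_res_apply X.presheaf _ x _ A₀)
  · exact Subtype.ext (TopCat.Presheaf.germ_res_apply X.presheaf _ x _ B₀)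

/-! ### The non-invertibility locus of a regular section -/

/-- the locus in `V` where the section `a` is not invertible. -/
def badSet (V : X.Opens) (a : Γ(X, V)) : Set X := ((X.basicOpen a : Set X))ᶜ ∩ V

theorem mem_badSet_iff (V : X.Opens) (a : Γ(X, V)) (y : X) :
    y ∈ badSet V a ↔ ∃ hy : y ∈ V, ¬ IsUnit (X.presheaf.germ V y hy a) := by
  constructor
  · rintro ⟨h1, h2⟩
    refine ⟨h2, fun hu => h1 ?_⟩
    exact (X.mem_basicOpen a y h2).mpr hu
  · rintro ⟨hy, hnu⟩
    refine ⟨fun h => hnu ?_, hy⟩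
    exact (X.mem_basicOpen a y hy).mp h

theorem isClosed_of_mem_badSet [IsNoetherian X]
    (hC : ∀ x : X, IsClosed ({x} : Set X) → ringKrullDim (X.presheaf.stalk x) = 1)
    (V : X.Opens) (a : Mero.regSub X V) (z : X) (hz : z ∈ badSet V a.1) :
    IsClosed ({z} : Set X) := by
  by_contra hcl
  obtain ⟨hzV, hnu⟩ := (mem_badSet_iff V a.1 z).mp hz
  exact hnu (isUnit_of_nzd_of_dimLE_zero z (krullDimLE_zero_of_not_isClosed hC z hcl) _
    (a.2 ⟨z, hzV⟩))

theorem finite_badSet [IsNoetherian X]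
    (hC : ∀ x : X, IsClosed ({x} : Set X) → ringKrullDim (X.presheaf.stalk x) = 1)
    (V : X.Opens) (a : Mero.regSub X V) : (badSet V a.1).Finite :=
  finite_of_closedPoints (V : Set X) ((X.basicOpen a.1 : Set X))ᶜ V.isOpen
    (isClosed_compl_iff.mpr (X.basicOpen a.1).isOpen)
    (fun z hz => isClosed_of_mem_badSet hC V a z hz)

/-! ### Divisors on absolute curves -/


theorem eq_one_of_not_isClosed [IsNoetherian X]
    (hC : ∀ x : X, IsClosed ({x} : Set X) → ringKrullDim (X.presheaf.stalk x) = 1)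
    (x : X) (hx : ¬ IsClosed ({x} : Set X)) (γ : Mero.Germ X x) : γ = 1 :=
  germ_trivial_of_dim_zero x (krullDimLE_zero_of_not_isClosed hC x hx) γ

theorem finite_supp [IsNoetherian X]
    (hC : ∀ x : X, IsClosed ({x} : Set X) → ringKrullDim (X.presheaf.stalk x) = 1)
    (D : Mero.Divisor X) : {x : X | D.1 x ≠ 1}.Finite := by
  have hloc := fun x : X => local_structure D x ⊤ trivial
  choose V hxV _ a b hab using hloc
  obtain ⟨t, ht⟩ := isCompact_univ.elim_finite_subcover (fun x => (V x : Set X))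
    (fun x => (V x).isOpen) (fun x _ => Set.mem_iUnion.mpr ⟨x, hxV x⟩)
  have hfin : (⋃ x ∈ t, (badSet (V x) (a x).1 ∪ badSet (V x) (b x).1)).Finite :=
    Set.Finite.biUnion t.finite_toSet
      (fun x _ => (finite_badSet hC (V x) (a x)).union (finite_badSet hC (V x) (b x)))
  refine hfin.subset ?_
  intro y hy
  obtain ⟨x, hxt, hyV⟩ : ∃ x ∈ t, y ∈ V x := by
    have := ht (Set.mem_univ y)
    simpa using this
  refine Set.mem_biUnion hxt ?_
  by_contra hcon
  rw [Set.mem_union, not_or, mem_badSet_iff, mem_badSet_iff] at hcon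
  push Not at hcon
  apply hy
  rw [hab x ⟨y, hyV⟩, regClass_eq_one_of_isUnit _ _ (hcon.1 hyV),
    regClass_eq_one_of_isUnit _ _ (hcon.2 hyV), div_one]



theorem isClosed_of_finite_closedPoints {α : Type*} [TopologicalSpace α] (S : Set α) (hS : S.Finite)
    (h : ∀ z ∈ S, IsClosed ({z} : Set α)) : IsClosed S := by
  rw [← Set.biUnion_of_singleton S]
  exact hS.isClosed_biUnion h

theorem mem_divisorGroup_of_finite [IsNoetherian X]
    (hC : ∀ x : X, IsClosed ({x} : Set X) → ringKrullDim (X.presheaf.stalk x) = 1)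
    (g : ∀ x : X, Mero.Germ X x) (hfin : {x : X | g x ≠ 1}.Finite)
    (hcl : ∀ x : X, ¬ IsClosed ({x} : Set X) → g x = 1) : g ∈ Mero.divisorGroup X := by
  have hScl : ∀ z ∈ {x : X | g x ≠ 1}, IsClosed ({z} : Set X) := by
    intro z hz
    by_contra h
    exact hz (hcl z h)
  intro x
  by_cases hx : g x = 1
  · have hcl' := isClosed_of_finite_closedPoints _ hfin hScl
    refine ⟨⟨{x : X | g x ≠ 1}ᶜ, hcl'.isOpen_compl⟩, ?_, 1, ?_⟩
    · change x ∈ {x : X | g x ≠ 1}ᶜ
      simpa using hx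
    · rintro ⟨y, hy⟩
      have hy' : g y = 1 := by
        have : y ∈ {x : X | g x ≠ 1}ᶜ := hy
        simpa using this
      rw [Mero.germOf, map_one, QuotientGroup.mk_one]
      exact hy'
  · obtain ⟨a, s, has⟩ := exists_regStalk_frac x (g x)
    obtain ⟨V, hxV, -, A, B, hA, hB⟩ := exists_common x a s ⊤ trivial
    -- the bad set
    let Bad : Set X := (badSet V A.1 ∪ badSet V B.1 ∪ {x : X | g x ≠ 1}) \ {x}
    have hBadfin : Bad.Finite :=
      (((finite_badSet hC V A).union (finite_badSet hC V B)).union hfin).subset Set.sdiff_subset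
    have hBadcl : IsClosed Bad := by
      apply isClosed_of_finite_closedPoints _ hBadfin
      rintro z ⟨hz, -⟩
      rcases hz with (hz | hz) | hz
      · exact isClosed_of_mem_badSet hC V A z hz
      · exact isClosed_of_mem_badSet hC V B z hz
      · exact hScl z hz
    let U : X.Opens := V ⊓ ⟨Badᶜ, hBadcl.isOpen_compl⟩
    have hUV : U ≤ V := inf_le_left
    have hxU : x ∈ U := ⟨hxV, fun h => h.2 rfl⟩
    let A' : Mero.regSub X U := ⟨X.presheaf.map (homOfLE hUV).op A.1, Mero.regSub_res _ A.2⟩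
    let B' : Mero.regSub X U := ⟨X.presheaf.map (homOfLE hUV).op B.1, Mero.regSub_res _ B.2⟩
    refine ⟨U, hxU, fracUnit A' B', ?_⟩
    rintro ⟨y, hyU⟩
    rw [germOf_fracUnit, regGerm_res hUV A ⟨y, hyU⟩, regGerm_res hUV B ⟨y, hyU⟩]
    by_cases hyx : y = x
    · subst hyx
      rw [has, ← hA, ← hB]
    · have hyBad : y ∉ Bad := hyU.2
      have h1 : ¬ (y ∈ badSet V A.1 ∪ badSet V B.1 ∪ {x : X | g x ≠ 1}) :=
        fun h => hyBad ⟨h, hyx⟩
      rw [Set.mem_union, Set.mem_union, not_or, not_or, mem_badSet_iff, mem_badSet_iff] at h1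
      push Not at h1
      obtain ⟨⟨h1, h2⟩, h3⟩ := h1
      have hgy : g y = 1 := by simpa using h3
      rw [hgy, regClass_eq_one_of_isUnit _ _ (h1 (hUV hyU)),
        regClass_eq_one_of_isUnit _ _ (h2 (hUV hyU)), div_one]

/-! ### Existence of nontrivial effective germs -/

/-- (after helper12, S5086) a nonzerodivisor of the ring of an affine open is a regular section. -/
theorem mem_regSub_of_nzd (W : X.Opens) (hW : IsAffineOpen W) (b : Γ(X, W))
    (hb : b ∈ nonZeroDivisors Γ(X, W)) : b ∈ Mero.regSub X W := by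
  rintro ⟨y, hy⟩
  let _ : Algebra Γ(X, W) (X.presheaf.stalk y) := X.presheaf.algebra_section_stalk ⟨y, hy⟩
  have hloc : IsLocalization.AtPrime (X.presheaf.stalk y) (hW.primeIdealOf ⟨y, hy⟩).asIdeal :=
    hW.isLocalization_stalk ⟨y, hy⟩
  exact IsLocalization.map_nonZeroDivisors_le (hW.primeIdealOf ⟨y, hy⟩).asIdeal.primeCompl
    (X.presheaf.stalk y) ⟨b, hb, rfl⟩

/-- In a Noetherian ring in which every nonzerodivisor is a unit, there are only finitely many
maximal ideals (they are all associated primes). -/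
theorem finite_maximal_of_nzd_units (A : Type*) [CommRing A] [IsNoetherianRing A]
    (h : ∀ a ∈ nonZeroDivisors A, IsUnit a) : {m : Ideal A | m.IsMaximal}.Finite := by
  refine (associatedPrimes.finite A A).subset ?_
  intro m hm
  have hm' : m.IsMaximal := hm
  by_contra hnot
  have hI : ∀ P ∈ associatedPrimes A A, ¬ m ≤ P := by
    intro P hP hle
    have hPprime : P.IsPrime := hP.1
    have : m = P := hm'.eq_of_le hPprime.ne_top hle
    exact hnot (this ▸ hP)
  -- prime avoidance
  have hex : ∃ b ∈ m, b ∈ nonZeroDivisors A := by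
    by_contra hcon
    push Not at hcon
    have hsub : (m : Set A) ⊆ ⋃ P ∈ ((associatedPrimes.finite A A).toFinset : Set (Ideal A)),
        ((id P : Ideal A) : Set A) := by
      intro b hb
      have hb' : b ∈ ((nonZeroDivisors A : Set A))ᶜ := hcon b hb
      rw [← biUnion_associatedPrimes_eq_compl_nonZeroDivisors] at hb'
      obtain ⟨P, hP, hbP⟩ := Set.mem_iUnion₂.mp hb'
      simp only [Set.Finite.coe_toFinset, id_eq, Set.mem_iUnion, SetLike.mem_coe, exists_prop]
      exact ⟨P, hP, hbP⟩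
    have hsub' := (Ideal.subset_union_prime (s := (associatedPrimes.finite A A).toFinset)
      (f := fun P : Ideal A => P) (⊥ : Ideal A) (⊥ : Ideal A)
      (fun P hP _ _ => by
        have : P ∈ associatedPrimes A A := by simpa using hP
        exact this.1)).mp hsub
    obtain ⟨P, hP, hIP⟩ := hsub'
    exact hI P (by simpa using hP) hIP
  obtain ⟨b, hbm, hbnzd⟩ := hex
  exact hm'.ne_top (Ideal.eq_top_of_isUnit_mem _ hbm (h b hbnzd))

theorem isClosed_of_lt [IsNoetherian X]
    (hC : ∀ x : X, IsClosed ({x} : Set X) → ringKrullDim (X.presheaf.stalk x) = 1)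
    (η y : X) (h : η ⤳ y) (hne : y ≠ η) : IsClosed ({y} : Set X) := by
  by_contra hcl
  have h0 := krullDimLE_zero_of_not_isClosed hC y hcl
  rw [Ring.krullDimLE_iff, AlgebraicGeometry.ringKrullDim_stalk_eq_coheight] at h0
  have hlt : y < η := lt_of_le_not_ge h (fun h' => hne (Specializes.antisymm h' h).eq)
  have h2 := Order.coheight_add_one_le hlt
  have h3 : Order.coheight y ≤ 0 := by exact_mod_cast h0
  have h4 : Order.coheight y = 0 := le_antisymm h3 bot_le
  rw [h4] at h2
  simp at h2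

theorem exists_nonunit_regular [IsNoetherian X]
    (hC : ∀ x : X, IsClosed ({x} : Set X) → ringKrullDim (X.presheaf.stalk x) = 1)
    (hpt : ∀ x : X, ¬ IsOpen ({x} : Set X)) (V : X.Opens) (hV : IsAffineOpen V) (η : X)
    (hηV : η ∈ V) (hgen : ∀ y ∈ V, η ⤳ y) :
    ∃ (a : Mero.regSub X V) (x : X), x ∈ badSet V a.1 := by
  by_contra hno
  push Not at hno
  have : IsNoetherianRing Γ(X, V) := IsLocallyNoetherian.component_noetherian ⟨V, hV⟩
  have hunits : ∀ a ∈ nonZeroDivisors Γ(X, V), IsUnit a := by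
    intro a ha
    have ha' := mem_regSub_of_nzd V hV a ha
    apply RingedSpace.isUnit_of_isUnit_germ X.toRingedSpace V a
    intro x hx
    by_contra hnu
    exact hno ⟨a, ha'⟩ x ((mem_badSet_iff V a x).mpr ⟨hx, hnu⟩)
  have hmax := finite_maximal_of_nzd_units Γ(X, V) hunits
  classical
  let f : X → Ideal Γ(X, V) := fun y =>
    if hy : y ∈ V then (hV.primeIdealOf ⟨y, hy⟩).asIdeal else ⊥
  have hclosed : ∀ y ∈ (V : Set X) \ {η}, IsClosed ({y} : Set X) := by
    rintro y ⟨hyV, hyη⟩
    exact isClosed_of_lt hC η y (hgen y hyV) hyη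
  have hfin : ((V : Set X) \ {η}).Finite := by
    apply Set.Finite.of_finite_image (f := f)
    · apply hmax.subset
      rintro _ ⟨y, hy, rfl⟩
      have hyV : y ∈ V := hy.1
      simp only [f, hyV, dif_pos]
      exact hV.primeIdealOf_isMaximal_of_isClosed ⟨y, hyV⟩ (hclosed y hy)
    · rintro y hy y' hy' hff
      have hyV : y ∈ V := hy.1
      have hyV' : y' ∈ V := hy'.1
      simp only [f, hyV, hyV', dif_pos] at hff
      have h1 : hV.primeIdealOf ⟨y, hyV⟩ = hV.primeIdealOf ⟨y', hyV'⟩ := PrimeSpectrum.ext hff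
      have h2 := congrArg (fun p => hV.fromSpec p) h1
      simp only [hV.fromSpec_primeIdealOf] at h2
      exact h2
  have hcl := isClosed_of_finite_closedPoints _ hfin hclosed
  apply hpt η
  have : ({η} : Set X) = (V : Set X) ∩ ((V : Set X) \ {η})ᶜ := by
    ext y
    simp only [Set.mem_singleton_iff, Set.mem_inter_iff, SetLike.mem_coe, Set.mem_compl_iff,
      Set.mem_sdiff, not_and, not_not]
    constructor
    · rintro rfl
      exact ⟨hηV, fun _ => rfl⟩
    · rintro ⟨h1, h2⟩
      exact h2 h1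
  rw [this]
  exact V.isOpen.inter hcl.isOpen_compl

theorem exists_good_point [IsNoetherian X]
    (hC : ∀ x : X, IsClosed ({x} : Set X) → ringKrullDim (X.presheaf.stalk x) = 1)
    (hpt : ∀ x : X, ¬ IsOpen ({x} : Set X)) (U : X.Opens) (hU : Dense (U : Set X))
    (Z : Set X) (hZ : Z ∈ irreducibleComponents X) :
    ∃ x : X, x ∈ U ∧ x ∈ Z ∧ IsClosed ({x} : Set X) ∧
      ∃ r : Mero.regStalk X x, ¬ IsUnit (r : X.presheaf.stalk x) := by
  have hZirr : IsIrreducible Z := hZ.1
  have hZcl : IsClosed Z := isClosed_of_mem_irreducibleComponents Z hZ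
  obtain ⟨η, hη⟩ : ∃ η, η = hZirr.genericPoint := ⟨_, rfl⟩
  have hgen : IsGenericPoint η Z := hη ▸ hZirr.isGenericPoint_genericPoint hZcl
  have hfin : (irreducibleComponents X).Finite := NoetherianSpace.finite_irreducibleComponents
  let R : Set X := ⋃ Z' ∈ irreducibleComponents X \ {Z}, Z'
  have hRcl : IsClosed R :=
    (hfin.subset Set.sdiff_subset).isClosed_biUnion
      (fun Z' hZ' => isClosed_of_mem_irreducibleComponents Z' hZ'.1)
  have hηR : η ∉ R := by
    intro h
    obtain ⟨Z', hZ', hηZ'⟩ := Set.mem_iUnion₂.mp h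
    have hZ'cl : IsClosed Z' := isClosed_of_mem_irreducibleComponents Z' hZ'.1
    have hle : Z ≤ Z' := by
      rw [← hgen.def]
      exact hZ'cl.closure_subset_iff.mpr (Set.singleton_subset_iff.mpr hηZ')
    have hle' : Z' ≤ Z := hZ.2 hZ'.1.1 hle
    exact hZ'.2 (le_antisymm hle' hle)
  have hRZ : Rᶜ ⊆ Z := by
    intro y hy
    obtain ⟨Z'', hZ'', hyZ''⟩ := exists_mem_irreducibleComponents_subset_of_isIrreducible {y}
      isIrreducible_singleton
    by_cases hEq : Z'' = Z
    · exact hEq ▸ hyZ'' rfl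
    · have hmem : Z'' ∈ irreducibleComponents X \ {Z} := ⟨hZ'', hEq⟩
      have : y ∈ R := Set.mem_biUnion hmem (hyZ'' rfl)
      exact absurd this hy
  have hηU : η ∈ U := by
    obtain ⟨y, hyR, hyU⟩ := hU.inter_open_nonempty Rᶜ hRcl.isOpen_compl ⟨η, hηR⟩
    exact (hgen.specializes (hRZ hyR)).mem_open U.isOpen hyU
  obtain ⟨V, hV, hηV, hVW⟩ := Opens.isBasis_iff_nbhd.mp X.isBasis_affineOpens
    (show η ∈ U ⊓ ⟨Rᶜ, hRcl.isOpen_compl⟩ from ⟨hηU, hηR⟩)
  have hVU : V ≤ U := hVW.trans inf_le_left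
  have hVR : ∀ y ∈ V, y ∈ Rᶜ := fun y hy => (hVW hy).2
  have hgenV : ∀ y ∈ V, η ⤳ y := fun y hy => hgen.specializes (hRZ (hVR y hy))
  obtain ⟨a, x, hx⟩ := exists_nonunit_regular hC hpt V hV η hηV hgenV
  obtain ⟨hxV, hnu⟩ := (mem_badSet_iff V a.1 x).mp hx
  exact ⟨x, hVU hxV, hRZ (hVR x hxV), isClosed_of_mem_badSet hC V a x hx,
    Mero.regGerm ⟨x, hxV⟩ a, hnu⟩

end Groth.Agent.Lib.Helper65.CurveDiv
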