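import Mathlib
import Groth.Prelude.Def_MeroDiv
import Groth.Prelude.Def_CAlg
import Groth.Agent.Lib.Helper65.CurveDiv
import Groth.Agent.Lib.Helper67.Depth
/-!
# Depth-one points and divisors (`Mero.Divisor`) on locally Noetherian schemes

* `mem_span_of_forall_generization`: divisibility `t ∈ s R` in `R = A_p` can be tested at the proper
  generizations of `p` unless the maximal ideal is associated to `R / s R`.
* `depth_eq_one_of_mem_ass`: regular `s` with `m ∈ Ass (R / s R)` forces `depth R = 1`.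
* `regClass_div_eq_iff`, `isEffectiveAt_iff_mem_span`, `exists_affine_model`: affine models `D = a / b`.
* `depth_eq_one_of_not_isEffectiveAt`, `depth_eq_one_of_maximal_mem_supp`: points where a divisor
  first fails to be effective / trivial have depth one.
* `exists_maximal_generization`: maximal generizations inside a set, on a locally Noetherian scheme.
-/
universe u
namespace Groth.Agent.Lib.Helper65.DivDepth

section KeyLemmas
open Pointwise

variable {B : Type u} [CommRing B]

theorem mem_smul_top_iff_mem_span (s a : B) :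
    a ∈ s • (⊤ : Submodule B B) ↔ a ∈ Ideal.span {s} := by
  rw [Submodule.mem_smul_pointwise_iff_exists, Ideal.mem_span_singleton']
  constructor
  · rintro ⟨c, -, hc⟩
    exact ⟨c, by rw [mul_comm]; exact hc⟩
  · rintro ⟨c, hc⟩
    exact ⟨c, Submodule.mem_top, by rw [smul_eq_mul, mul_comm]; exact hc⟩

/-- (after helper56, Serre1) membership in a principal ideal can be checked at the associated primes of the
quotient. -/
theorem mem_span_singleton_of_forall_ass [IsNoetherianRing B] (s a : B)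
    (h : ∀ P ∈ associatedPrimes B (QuotSMulTop s B), ∃ u ∉ P, u * a ∈ Ideal.span {s}) :
    a ∈ Ideal.span {s} := by
  by_contra hcon
  have hne : (Submodule.Quotient.mk a : QuotSMulTop s B) ≠ 0 := by
    rw [Ne, Submodule.Quotient.mk_eq_zero, mem_smul_top_iff_mem_span]
    exact hcon
  obtain ⟨P, hP, hle⟩ := exists_le_isAssociatedPrime_of_isNoetherianRing B _ hne
  obtain ⟨u, huP, hu⟩ := h P hP
  apply huP
  apply hle
  rw [Submodule.mem_colon_singleton, Submodule.mem_bot, ← Submodule.Quotient.mk_smul,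
    Submodule.Quotient.mk_eq_zero, smul_eq_mul, mem_smul_top_iff_mem_span]
  exact hu

end KeyLemmas

/-- Local-global principle for divisibility in a localization at a prime: if `t ∈ s A_q` for all primes
`q ⊊ p` and the maximal ideal of `R = A_p` is not associated to `R / s R`, then `t ∈ s R`. -/
theorem mem_span_of_forall_generization {A : Type u} [CommRing A] (p : Ideal A) [p.IsPrime]
    (R : Type u) [CommRing R] [IsNoetherianRing R] [Algebra A R] [IsLocalization.AtPrime R p]
    (s t : A)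
    (hgen : ∀ q : Ideal A, q.IsPrime → q ≤ p → q ≠ p → ∃ u ∉ q, ∃ c : A, u * t = s * c)
    (hass : Ideal.map (algebraMap A R) p ∉
      associatedPrimes R (QuotSMulTop (algebraMap A R s) R)) :
    algebraMap A R t ∈ Ideal.span {algebraMap A R s} := by
  apply mem_span_singleton_of_forall_ass
  intro P hP
  have hPprime : P.IsPrime := hP.1
  have : IsLocalRing R := IsLocalization.AtPrime.isLocalRing R p
  have hmax : Ideal.map (algebraMap A R) p = IsLocalRing.maximalIdeal R :=
    IsLocalization.AtPrime.map_eq_maximalIdeal p R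
  have hq_le : Ideal.comap (algebraMap A R) P ≤ p := by
    rw [← IsLocalization.AtPrime.under_maximalIdeal R p]
    exact Ideal.comap_mono (IsLocalRing.le_maximalIdeal hPprime.ne_top)
  have hq_ne : Ideal.comap (algebraMap A R) P ≠ p := by
    intro h
    apply hass
    rw [← h, IsLocalization.map_under p.primeCompl R P]
    exact hP
  obtain ⟨u, hu, c, hc⟩ := hgen _ (Ideal.comap_isPrime _ P) hq_le hq_ne
  refine ⟨algebraMap A R u, hu, ?_⟩
  rw [← map_mul, hc, map_mul]
  exact Ideal.mul_mem_right _ _ (Ideal.subset_span rfl)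



theorem exists_mul_eq_of_mem_span {A : Type*} [CommRing A] (p : Ideal A) [p.IsPrime] (R : Type*)
    [CommRing R] [Algebra A R] [IsLocalization.AtPrime R p] (s t : A)
    (h : algebraMap A R t ∈ Ideal.span {algebraMap A R s}) : ∃ u ∉ p, ∃ c, u * t = s * c := by
  rw [Ideal.mem_span_singleton'] at h
  obtain ⟨r, hr⟩ := h
  obtain ⟨⟨c, w⟩, hcw⟩ := IsLocalization.surj p.primeCompl r
  have h1 : algebraMap A R (t * w) = algebraMap A R (s * c) := by
    rw [map_mul, map_mul, ← hr, ← hcw]; ring
  obtain ⟨w', hw'⟩ := (IsLocalization.eq_iff_exists p.primeCompl R).mp h1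
  refine ⟨w' * w, (w' * w).2, w' * c, ?_⟩
  linear_combination hw'

/-- A Noetherian local ring with a regular element `s` such that the maximal ideal is associated to
`R / s R` has depth one. -/
theorem depth_eq_one_of_mem_ass {R : Type u} [CommRing R] [IsNoetherianRing R] [IsLocalRing R]
    (s : R) (hreg : IsSMulRegular R s)
    (hass : IsLocalRing.maximalIdeal R ∈ associatedPrimes R (QuotSMulTop s R)) :
    LocCoh.depth R R = 1 := by
  have hs : s ∈ IsLocalRing.maximalIdeal R := by
    by_contra h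
    have hu : IsUnit s := by
      by_contra h2
      exact h ((IsLocalRing.mem_maximalIdeal s).mpr h2)
    have : Subsingleton (QuotSMulTop s R) := by
      apply Submodule.Quotient.subsingleton_iff.mpr
      rw [eq_top_iff]
      intro r _
      rw [mem_smul_top_iff_mem_span]
      exact Ideal.mem_span_singleton'.mpr ⟨r * hu.unit⁻¹.1, by rw [mul_assoc]; simp⟩
    rw [associatedPrimes.eq_empty_of_subsingleton] at hass
    exact hass
  have h0 : LocCoh.depth R (QuotSMulTop s R) = 0 :=
    (Groth.Agent.Lib.Helper67.depth_eq_zero_iff (QuotSMulTop s R)).mpr hass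
  have h1 := Groth.Agent.Lib.Helper67.idealDepth_quotSMulTop_add_one (IsLocalRing.maximalIdeal R) R
    (Groth.Agent.Lib.Helper67.maximalIdeal_smul_top_ne_top R) s hs hreg
  rw [LocCoh.depth] at h0 ⊢
  rw [← h1, h0, zero_add]



/-! ### Divisors -/

open CategoryTheory AlgebraicGeometry TopologicalSpace Opposite
open Groth.Agent.Lib.Helper65.CurveDiv

variable {X : Scheme.{u}}

theorem regClass_div_eq_iff (x : X) (a b c : Mero.regStalk X x) :
    regClass x a / regClass x b = regClass x c ↔
      ∃ v : (X.presheaf.stalk x)ˣ, (a : X.presheaf.stalk x) * v = b * c := by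
  rw [regClass, regClass, regClass, ← QuotientGroup.mk_div, QuotientGroup.eq]
  constructor
  · rintro ⟨v, hv⟩
    refine ⟨v, ?_⟩
    have h2 : regUnit x a * Units.map (algebraMap (X.presheaf.stalk x) (Mero.KStalk X x)).toMonoidHom v
        = regUnit x b * regUnit x c := by
      rw [hv, inv_div, ← mul_assoc, mul_div_cancel]
    have h := congrArg Units.val h2
    apply Mero.algebraMap_KStalk_injective x
    rw [map_mul, map_mul]
    exact h
  · rintro ⟨v, hv⟩
    refine ⟨v, ?_⟩
    have h2 : regUnit x a * Units.map (algebraMap (X.presheaf.stalk x) (Mero.KStalk X x)).toMonoidHom v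
        = regUnit x b * regUnit x c := by
      ext
      have := congrArg (algebraMap (X.presheaf.stalk x) (Mero.KStalk X x)) hv
      rw [map_mul, map_mul] at this
      exact this
    rw [inv_div, div_mul_eq_mul_div, eq_div_iff_mul_eq', ← h2, mul_comm]

theorem isEffectiveAt_iff_exists (D : Mero.Divisor X) (x : X) :
    Mero.IsEffectiveAt D x ↔ ∃ c : Mero.regStalk X x, D.1 x = regClass x c := Iff.rfl



/-- Affine local model of a divisor. -/
theorem exists_affine_model (D : Mero.Divisor X) (x : X) :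
    ∃ (W : X.Opens) (_ : IsAffineOpen W) (_ : x ∈ W) (a b : Mero.regSub X W),
      ∀ y : W, D.1 y.1 = regClass y.1 (Mero.regGerm y a) / regClass y.1 (Mero.regGerm y b) := by
  obtain ⟨V, hxV, -, a, b, hab⟩ := local_structure D x ⊤ trivial
  obtain ⟨W, hW, hxW, hWV⟩ := Opens.isBasis_iff_nbhd.mp X.isBasis_affineOpens hxV
  refine ⟨W, hW, hxW, ⟨X.presheaf.map (homOfLE hWV).op a.1, Mero.regSub_res _ a.2⟩,
    ⟨X.presheaf.map (homOfLE hWV).op b.1, Mero.regSub_res _ b.2⟩, fun y => ?_⟩
  rw [regGerm_res hWV a y, regGerm_res hWV b y]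
  exact hab ⟨y.1, hWV y.2⟩

/-- In a model `D = a / b`, effectivity at `y` means `a_y ∈ b_y O_y`. -/
theorem isEffectiveAt_iff_mem_span [IsLocallyNoetherian X] (D : Mero.Divisor X) (y : X)
    (a b : Mero.regStalk X y) (hD : D.1 y = regClass y a / regClass y b) :
    Mero.IsEffectiveAt D y ↔ (a : X.presheaf.stalk y) ∈ Ideal.span {(b : X.presheaf.stalk y)} := by
  rw [isEffectiveAt_iff_exists]
  constructor
  · rintro ⟨c, hc⟩
    rw [hD, regClass_div_eq_iff] at hc
    obtain ⟨v, hv⟩ := hc
    rw [Ideal.mem_span_singleton']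
    refine ⟨c * (v⁻¹ : (X.presheaf.stalk y)ˣ), ?_⟩
    have : (a : X.presheaf.stalk y) = b * c * (v⁻¹ : (X.presheaf.stalk y)ˣ) := by
      rw [← hv, mul_assoc, Units.mul_inv, mul_one]
    rw [this]; ring
  · intro h
    rw [Ideal.mem_span_singleton'] at h
    obtain ⟨c, hc⟩ := h
    have hcn : c ∈ nonZeroDivisors (X.presheaf.stalk y) := by
      have ha : (a : X.presheaf.stalk y) ∈ nonZeroDivisors (X.presheaf.stalk y) :=
        Mero.regStalk_le_nonZeroDivisors y a.2
      rw [← hc] at ha
      exact (mul_mem_nonZeroDivisors.mp ha).1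
    rw [← regStalk_eq_nonZeroDivisors] at hcn
    refine ⟨⟨c, hcn⟩, ?_⟩
    rw [hD, regClass_div_eq_iff]
    exact ⟨1, by rw [Units.val_one, mul_one, ← hc, mul_comm]⟩

/-- If `D` is effective at all proper generizations of `z` but not at `z`, then `O_z` has depth one. -/
theorem depth_eq_one_of_not_isEffectiveAt [IsLocallyNoetherian X] (D : Mero.Divisor X) (z : X)
    (hgen : ∀ z' : X, z' ⤳ z → z' ≠ z → Mero.IsEffectiveAt D z')
    (hz : ¬ Mero.IsEffectiveAt D z) :
    LocCoh.depth (X.presheaf.stalk z) (X.presheaf.stalk z) = 1 := by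
  obtain ⟨W, hW, hzW, a, b, hab⟩ := exists_affine_model D z
  have : IsNoetherianRing Γ(X, W) := IsLocallyNoetherian.component_noetherian ⟨W, hW⟩
  let _ : Algebra Γ(X, W) (X.presheaf.stalk z) :=
    TopCat.Presheaf.algebra_section_stalk X.presheaf ⟨z, hzW⟩
  have hloc : IsLocalization.AtPrime (X.presheaf.stalk z) (hW.primeIdealOf ⟨z, hzW⟩).asIdeal :=
    hW.isLocalization_stalk ⟨z, hzW⟩
  have hmaxeq : Ideal.map (algebraMap Γ(X, W) (X.presheaf.stalk z))
      (hW.primeIdealOf ⟨z, hzW⟩).asIdeal = IsLocalRing.maximalIdeal _ :=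
    IsLocalization.AtPrime.map_eq_maximalIdeal _ _
  by_cases hass : IsLocalRing.maximalIdeal (X.presheaf.stalk z) ∈
      associatedPrimes (X.presheaf.stalk z)
        (QuotSMulTop (X.presheaf.germ W z hzW b.1) (X.presheaf.stalk z))
  · refine depth_eq_one_of_mem_ass _ ?_ hass
    have hb : X.presheaf.germ W z hzW b.1 ∈ nonZeroDivisors (X.presheaf.stalk z) := b.2 ⟨z, hzW⟩
    rw [isSMulRegular_iff_right_eq_zero_of_smul]
    intro c hc
    rw [smul_eq_mul, mul_comm] at hc
    exact (mem_nonZeroDivisors_iff_right.mp hb) c hc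
  · exfalso
    apply hz
    rw [isEffectiveAt_iff_mem_span D z (Mero.regGerm ⟨z, hzW⟩ a) (Mero.regGerm ⟨z, hzW⟩ b)
      (hab ⟨z, hzW⟩)]
    refine mem_span_of_forall_generization (hW.primeIdealOf ⟨z, hzW⟩).asIdeal
      (X.presheaf.stalk z) b.1 a.1 ?_ (by rwa [hmaxeq])
    intro q hq hqp hne
    have hz'W : hW.fromSpec ⟨q, hq⟩ ∈ W := by
      have := Set.mem_range_self (f := hW.fromSpec) ⟨q, hq⟩
      rwa [hW.range_fromSpec] at this
    let _ : Algebra Γ(X, W) (X.presheaf.stalk (hW.fromSpec ⟨q, hq⟩)) :=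
      TopCat.Presheaf.algebra_section_stalk X.presheaf ⟨hW.fromSpec ⟨q, hq⟩, hz'W⟩
    have hloc' : IsLocalization.AtPrime (X.presheaf.stalk (hW.fromSpec ⟨q, hq⟩)) q :=
      hW.isLocalization_stalk' ⟨q, hq⟩ hz'W
    have hspec : hW.fromSpec ⟨q, hq⟩ ⤳ z := by
      have h1 : (⟨q, hq⟩ : PrimeSpectrum Γ(X, W)) ⤳ hW.primeIdealOf ⟨z, hzW⟩ :=
        (PrimeSpectrum.le_iff_specializes _ _).mp hqp
      have h2 := h1.map hW.fromSpec.continuous
      rwa [hW.fromSpec_primeIdealOf ⟨z, hzW⟩] at h2
    have hnez : hW.fromSpec ⟨q, hq⟩ ≠ z := by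
      intro h
      have h' : hW.fromSpec ⟨q, hq⟩ = hW.fromSpec (hW.primeIdealOf ⟨z, hzW⟩) :=
        h.trans (hW.fromSpec_primeIdealOf ⟨z, hzW⟩).symm
      have := hW.fromSpec.isOpenEmbedding.injective h'
      apply hne
      rw [← this]
    have heff := hgen _ hspec hnez
    rw [isEffectiveAt_iff_mem_span D _ (Mero.regGerm ⟨_, hz'W⟩ a) (Mero.regGerm ⟨_, hz'W⟩ b)
      (hab ⟨_, hz'W⟩)] at heff
    exact exists_mul_eq_of_mem_span q (X.presheaf.stalk (hW.fromSpec ⟨q, hq⟩)) b.1 a.1 heff



theorem regClass_mul (x : X) (c c' : Mero.regStalk X x) :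
    regClass x (c * c') = regClass x c * regClass x c' := by
  rw [regClass, regClass, regClass, ← QuotientGroup.mk_mul]
  refine congrArg _ (Units.ext ?_)
  simp only [regUnit_val, Units.val_mul]
  exact map_mul _ _ _

theorem isEffectiveAt_of_eq_one (D : Mero.Divisor X) (x : X) (h : D.1 x = 1) :
    Mero.IsEffectiveAt D x := by
  rw [isEffectiveAt_iff_exists]
  exact ⟨1, by rw [h, regClass_one]⟩

theorem inv_apply (D : Mero.Divisor X) (x : X) : (D⁻¹).1 x = (D.1 x)⁻¹ := rfl

theorem eq_one_of_isEffectiveAt_inv (D : Mero.Divisor X) (x : X) (h1 : Mero.IsEffectiveAt D x)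
    (h2 : Mero.IsEffectiveAt D⁻¹ x) : D.1 x = 1 := by
  rw [isEffectiveAt_iff_exists] at h1 h2
  obtain ⟨c, hc⟩ := h1
  obtain ⟨c', hc'⟩ := h2
  rw [inv_apply, hc] at hc'
  have h3 : regClass x (c * c') = 1 := by
    rw [regClass_mul, ← hc', mul_inv_cancel]
  have h4 := isUnit_of_regClass_eq_one x _ h3
  have h5 : IsUnit (c : X.presheaf.stalk x) := by
    have : ((c * c' : Mero.regStalk X x) : X.presheaf.stalk x) = c * c' := rfl
    rw [this] at h4
    exact isUnit_of_mul_isUnit_left h4
  rw [hc]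
  exact regClass_eq_one_of_isUnit x c h5

/-- A maximal point of the support of a divisor on a locally Noetherian scheme has a local ring of
depth one. -/
theorem depth_eq_one_of_maximal_mem_supp [IsLocallyNoetherian X] (D : Mero.Divisor X)
    (x : X) (hx : x ∈ Mero.supp D) (hmax : ∀ z : X, z ∈ Mero.supp D → z ⤳ x → z = x) :
    LocCoh.depth (X.presheaf.stalk x) (X.presheaf.stalk x) = 1 := by
  have hone : ∀ z' : X, z' ⤳ x → z' ≠ x → D.1 z' = 1 := by
    intro z' hz' hne
    by_contra h
    exact hne (hmax z' h hz')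
  by_cases h : Mero.IsEffectiveAt D x
  · have h2 : ¬ Mero.IsEffectiveAt D⁻¹ x := fun h2 => hx (eq_one_of_isEffectiveAt_inv D x h h2)
    refine depth_eq_one_of_not_isEffectiveAt D⁻¹ x (fun z' hz' hne => ?_) h2
    apply isEffectiveAt_of_eq_one
    rw [inv_apply, hone z' hz' hne, inv_one]
  · exact depth_eq_one_of_not_isEffectiveAt D x
      (fun z' hz' hne => isEffectiveAt_of_eq_one D z' (hone z' hz' hne)) h

/-- In a locally Noetherian scheme, every point of a set `S` has a generization in `S` which is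
maximal (no proper generization of it lies in `S`). -/
theorem exists_maximal_generization [IsLocallyNoetherian X] (S : Set X) (x : X) (hx : x ∈ S) :
    ∃ z ∈ S, z ⤳ x ∧ ∀ z' ∈ S, z' ⤳ z → z' = z := by
  obtain ⟨W, hW', hxW, -⟩ := Opens.isBasis_iff_nbhd.mp X.isBasis_affineOpens
    (show x ∈ (⊤ : X.Opens) from trivial)
  have hW : IsAffineOpen W := hW'
  have : IsNoetherianRing Γ(X, W) := IsLocallyNoetherian.component_noetherian ⟨W, hW⟩
  let T : Set (PrimeSpectrum Γ(X, W)) := {q | hW.fromSpec q ∈ S ∧ hW.fromSpec q ⤳ x}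
  have hT : T.Nonempty := ⟨hW.primeIdealOf ⟨x, hxW⟩, by
    change hW.fromSpec (hW.primeIdealOf ⟨x, hxW⟩) ∈ S ∧ hW.fromSpec (hW.primeIdealOf ⟨x, hxW⟩) ⤳ x
    rw [hW.fromSpec_primeIdealOf ⟨x, hxW⟩]
    exact ⟨hx, specializes_rfl⟩⟩
  obtain ⟨q, hqT, hqmin⟩ := (InvImage.wf (fun q : PrimeSpectrum Γ(X, W) => q.asIdeal.height)
    (wellFounded_lt (α := ℕ∞))).has_min T hT
  refine ⟨hW.fromSpec q, hqT.1, hqT.2, fun z' hz'S hz' => ?_⟩
  have hzW : hW.fromSpec q ∈ W := by
    have := Set.mem_range_self (f := hW.fromSpec) q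
    rwa [hW.range_fromSpec] at this
  have hz'W : z' ∈ W := hz'.mem_open W.isOpen hzW
  have e : hW.fromSpec (hW.primeIdealOf ⟨z', hz'W⟩) = z' := hW.fromSpec_primeIdealOf ⟨z', hz'W⟩
  have hq'T : hW.primeIdealOf ⟨z', hz'W⟩ ∈ T := by
    change hW.fromSpec (hW.primeIdealOf ⟨z', hz'W⟩) ∈ S ∧ hW.fromSpec (hW.primeIdealOf ⟨z', hz'W⟩) ⤳ x
    rw [e]
    exact ⟨hz'S, hz'.trans hqT.2⟩
  have hle : hW.primeIdealOf ⟨z', hz'W⟩ ≤ q := by
    rw [PrimeSpectrum.le_iff_specializes]
    refine (hW.fromSpec.isOpenEmbedding.toIsInducing.specializes_iff).mp ?_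
    rw [e]
    exact hz'
  have hnlt := hqmin _ hq'T
  rcases hle.eq_or_lt with h | h
  · rw [← e, h]
  · exfalso
    apply hnlt
    change (hW.primeIdealOf ⟨z', hz'W⟩).asIdeal.height < q.asIdeal.height
    exact Ideal.height_strict_mono_of_isPrime_of_isPrime h

end Groth.Agent.Lib.Helper65.DivDepth
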