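import Mathlib
import Groth.Agent.Lib.Helper65.RegularSmooth
import Groth.Agent.Lib.Helper76.RegularLocal

/-!
# Generic smoothness plus projective differentials implies smoothness (helper65)

Main result `formallySmooth_of_generic`: a local algebra `B` essentially of finite type over a
field `k` with `Ω[B/k]` projective, which is formally smooth at one minimal prime, is formally
smooth over `k`.  The proof presents `B = R/J` with `R` a regular local ring formally smooth
over `k`, picks `f_i ∈ J` whose differentials form a basis of the image of `J` in `κ ⊗ Ω[R/k]`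
(`exists_family`), shows `R/(f_i)` is formally smooth, hence a regular domain
(`formallySmooth_quotient_span`), shows every `j ∈ J` is congruent modulo `(f_i)` to an element
with `dj ∈ J·Ω[R/k]` (`exists_sub_tmul_D_eq_zero`, Nakayama on a direct summand) and concludes
`J = (f_i)` by the Jacobian criterion at the generic point (`ker_eq_of_generic`).
-/

set_option autoImplicit false
set_option linter.style.haveILetI false
set_option linter.unusedSectionVars false
universe u
namespace Groth.Agent.Lib.Helper65.GenericSmooth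
open IsLocalRing TensorProduct KaehlerDifferential Groth.Agent.Lib.Helper65.RegularSmooth

theorem quot_one_tmul_eq_zero_iff {R : Type*} [CommRing R] (I : Ideal R) {X : Type*}
    [AddCommGroup X] [Module R X] (x : X) :
    (1 : R ⧸ I) ⊗ₜ[R] x = 0 ↔ x ∈ I • (⊤ : Submodule R X) := by
  have h1 : TensorProduct.quotTensorEquivQuotSMul X I ((1 : R ⧸ I) ⊗ₜ[R] x) =
      Submodule.Quotient.mk x := by
    have : (1 : R ⧸ I) = Ideal.Quotient.mk I 1 := rfl
    rw [this, TensorProduct.quotTensorEquivQuotSMul_mk_tmul, one_smul]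
  rw [← (TensorProduct.quotTensorEquivQuotSMul X I).map_eq_zero_iff, h1,
    Submodule.Quotient.mk_eq_zero]

theorem residue_one_tmul_eq_zero_iff {R : Type*} [CommRing R] [IsLocalRing R] {X : Type*}
    [AddCommGroup X] [Module R X] (x : X) :
    (1 : ResidueField R) ⊗ₜ[R] x = 0 ↔ x ∈ maximalIdeal R • (⊤ : Submodule R X) := by
  rw [← quot_one_tmul_eq_zero_iff]
  let e := TensorProduct.congr (residueFieldEquivQuot R) (LinearEquiv.refl R X)
  have h1 : e ((1 : ResidueField R) ⊗ₜ[R] x) = (1 : R ⧸ maximalIdeal R) ⊗ₜ[R] x := by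
    simp only [e, TensorProduct.congr_tmul, LinearEquiv.refl_apply]
    rfl
  rw [← e.map_eq_zero_iff, h1]

section

variable (k R : Type u) [Field k] [CommRing R] [Algebra k R] [IsLocalRing R]
  [Module.Finite R Ω[R⁄k]] (J : Ideal R)

/-- Step A: a finite family in `J` whose differentials are independent in `κ ⊗ Ω` and span the
image of `J`. -/
theorem exists_family :
    ∃ (ι : Type u) (_ : Fintype ι) (f : ι → R), (∀ i, f i ∈ J) ∧
      LinearIndependent (ResidueField R)
        (fun i => (1 : ResidueField R) ⊗ₜ[R] D k R (f i)) ∧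
      ∀ j ∈ J, (1 : ResidueField R) ⊗ₜ[R] D k R j ∈
        Submodule.span (ResidueField R)
          (Set.range fun i => (1 : ResidueField R) ⊗ₜ[R] D k R (f i)) := by
  classical
  let t : Set (ResidueField R ⊗[R] Ω[R⁄k]) :=
    Set.range fun j : J => (1 : ResidueField R) ⊗ₜ[R] D k R (j : R)
  obtain ⟨b, hbt, hspan, hli⟩ := exists_linearIndependent (ResidueField R) t
  have hfin : b.Finite := hli.setFinite
  have hpre : ∀ x : b, ∃ j : J, (1 : ResidueField R) ⊗ₜ[R] D k R (j : R) = (x : _) :=
    fun x => hbt x.2
  choose g hg using hpre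
  have := hfin.fintype
  refine ⟨b, inferInstance, fun x => (g x : R), fun x => (g x).2, ?_, ?_⟩
  · simp_rw [hg]
    exact hli
  · intro j hj
    simp_rw [hg]
    rw [Subtype.range_coe, hspan]
    exact Submodule.subset_span ⟨⟨j, hj⟩, rfl⟩

end



section

variable (k R : Type u) [Field k] [CommRing R] [Algebra k R] [IsLocalRing R] [IsNoetherianRing R]
  [Algebra.FormallySmooth k R] [Module.Free R Ω[R⁄k]] [Module.Finite R Ω[R⁄k]]

omit [IsNoetherianRing R] [Algebra.FormallySmooth k R] [Module.Free R Ω[R⁄k]]
  [Module.Finite R Ω[R⁄k]] in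
theorem one_tmul_D_sum {ι : Type*} [Fintype ι] (f r : ι → R) (hf : ∀ i, f i ∈ maximalIdeal R) :
    (1 : ResidueField R) ⊗ₜ[R] D k R (∑ i, r i * f i) =
      ∑ i, residue R (r i) • ((1 : ResidueField R) ⊗ₜ[R] D k R (f i)) := by
  rw [map_sum, TensorProduct.tmul_sum]
  refine Finset.sum_congr rfl fun i _ => ?_
  rw [Derivation.leibniz, TensorProduct.tmul_add, TensorProduct.tmul_smul, TensorProduct.tmul_smul]
  have h1 : f i • ((1 : ResidueField R) ⊗ₜ[R] D k R (r i)) = 0 := by
    rw [TensorProduct.smul_tmul', Algebra.smul_def, mul_one]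
    have : algebraMap R (ResidueField R) (f i) = 0 := (residue_eq_zero_iff _).mpr (hf i)
    rw [this, TensorProduct.zero_tmul]
  rw [h1, add_zero, TensorProduct.smul_tmul', TensorProduct.smul_tmul', Algebra.smul_def, mul_one,
    smul_eq_mul, mul_one]
  rfl

/-- Step B: Jacobian criterion for a quotient by elements with independent differentials. -/
theorem formallySmooth_quotient_span {ι : Type*} [Fintype ι] (f : ι → R)
    (hf : ∀ i, f i ∈ maximalIdeal R)
    (hli : LinearIndependent (ResidueField R)
      (fun i => (1 : ResidueField R) ⊗ₜ[R] D k R (f i))) :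
    Algebra.FormallySmooth k (R ⧸ Ideal.span (Set.range f)) := by
  have hJ'le : Ideal.span (Set.range f) ≤ maximalIdeal R := by
    rw [Ideal.span_le]; rintro _ ⟨i, rfl⟩; exact hf i
  have hJ' : Ideal.span (Set.range f) ≠ ⊤ := by
    intro h; rw [h] at hJ'le
    exact (maximalIdeal.isMaximal R).ne_top (top_le_iff.mp hJ'le)
  rw [formallySmooth_quotient_iff_injective k R _ hJ']
  letI := quotResidueAlgebra R _ hJ'
  haveI : IsScalarTower R (R ⧸ Ideal.span (Set.range f)) (ResidueField R) :=
    .of_algebraMap_eq' rfl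
  rw [injective_iff_map_eq_zero]
  intro x hx
  obtain ⟨n, rfl⟩ := exists_one_tmul_eq x
  have hn : (n : R) ∈ Ideal.span (Set.range f) := by
    have h1 : algebraMap R (R ⧸ Ideal.span (Set.range f)) (n : R) = 0 := n.2
    exact Ideal.Quotient.eq_zero_iff_mem.mp h1
  obtain ⟨r, hr⟩ := (Ideal.mem_span_range_iff_exists_fun).mp hn
  rw [cotangentComplexBaseChange_tmul, one_smul, kerToTensor_apply] at hx
  have hx' : (1 : ResidueField R) ⊗ₜ[R] D k R (∑ i, r i * f i) = 0 := by
    rw [hr]; exact hx
  rw [one_tmul_D_sum k R f r hf] at hx'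
  have hr0 : ∀ i, residue R (r i) = 0 := Fintype.linearIndependent_iff.mp hli _ hx'
  rw [one_tmul_eq_zero_iff, ← hr]
  refine Ideal.sum_mem _ fun i _ => Ideal.mul_mem_mul ((residue_eq_zero_iff _).mp (hr0 i)) ?_
  rw [RingHom.mem_ker]
  exact Ideal.Quotient.eq_zero_iff_mem.mpr (Ideal.subset_span ⟨i, rfl⟩)

end



/-- Nakayama for the kernel of a surjection onto a projective module. -/
theorem ker_le_of_projective {S : Type*} [CommRing S] [IsLocalRing S] {M Q : Type*}
    [AddCommGroup M] [Module S M] [Module.Finite S M]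
    [AddCommGroup Q] [Module S Q] [Module.Projective S Q] (g : M →ₗ[S] Q)
    (hg : Function.Surjective g) (W₀ : Submodule S M)
    (h : ∀ w ∈ LinearMap.ker g, ∃ w₀ ∈ W₀, w - w₀ ∈ LinearMap.ker g ∧
      w - w₀ ∈ maximalIdeal S • (⊤ : Submodule S M)) :
    LinearMap.ker g ≤ W₀ := by
  obtain ⟨s, hs⟩ := Module.projective_lifting_property g LinearMap.id hg
  let π : M →ₗ[S] M := LinearMap.id - s ∘ₗ g
  have hgs : ∀ y, g (s y) = y := fun y => LinearMap.congr_fun hs y
  have hπW : ∀ x, π x ∈ LinearMap.ker g := by
    intro x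
    simp [π, hgs]
  have hπid : ∀ w ∈ LinearMap.ker g, π w = w := by
    intro w hw
    simp [π, LinearMap.mem_ker.mp hw]
  have hW : LinearMap.ker g = Submodule.map π ⊤ := by
    apply le_antisymm
    · intro w hw
      exact ⟨w, trivial, hπid w hw⟩
    · rintro _ ⟨x, -, rfl⟩
      exact hπW x
  have hFG : (LinearMap.ker g).FG := by
    rw [hW]
    exact Submodule.FG.map _ Module.Finite.fg_top
  refine Submodule.le_of_le_smul_of_le_jacobson_bot hFG
    (IsLocalRing.maximalIdeal_le_jacobson ⊥) ?_
  intro w hw
  obtain ⟨w₀, hw₀, hker, hm⟩ := h w hw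
  have : w = w₀ + (w - w₀) := by abel
  rw [this]
  refine Submodule.add_mem_sup hw₀ ?_
  have h2 : π (w - w₀) ∈ Submodule.map π (maximalIdeal S • (⊤ : Submodule S M)) :=
    ⟨_, hm, rfl⟩
  rw [hπid _ hker, Submodule.map_smul'', ← hW] at h2
  exact h2


theorem alg_one_tmul_D_sum (k R T : Type*) [CommRing k] [CommRing R] [Algebra k R] [CommRing T]
    [Algebra R T] {ι : Type*} [Fintype ι] (f r : ι → R)
    (hf : ∀ i, algebraMap R T (f i) = 0) :
    (1 : T) ⊗ₜ[R] D k R (∑ i, r i * f i) =
      ∑ i, algebraMap R T (r i) • ((1 : T) ⊗ₜ[R] D k R (f i)) := by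
  rw [map_sum, TensorProduct.tmul_sum]
  refine Finset.sum_congr rfl fun i _ => ?_
  rw [Derivation.leibniz, TensorProduct.tmul_add, TensorProduct.tmul_smul, TensorProduct.tmul_smul]
  have h1 : f i • ((1 : T) ⊗ₜ[R] D k R (r i)) = 0 := by
    rw [TensorProduct.smul_tmul', Algebra.smul_def, mul_one, hf i, TensorProduct.zero_tmul]
  rw [h1, add_zero, TensorProduct.smul_tmul', TensorProduct.smul_tmul', Algebra.smul_def, mul_one,
    smul_eq_mul, mul_one]

section

variable (k R B : Type u) [Field k] [CommRing R] [Algebra k R] [IsLocalRing R]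
  [Module.Finite R Ω[R⁄k]] [CommRing B] [Algebra k B] [Algebra R B] [IsScalarTower k R B]
  [IsLocalRing B] (hsurj : Function.Surjective (algebraMap R B))

include hsurj in
/-- Step C. -/
theorem exists_sub_tmul_D_eq_zero [Module.Projective B Ω[B⁄k]]
    {ι : Type*} [Fintype ι] (f : ι → R) (hfJ : ∀ i, f i ∈ RingHom.ker (algebraMap R B))
    (hspan : ∀ j ∈ RingHom.ker (algebraMap R B), (1 : ResidueField R) ⊗ₜ[R] D k R j ∈
        Submodule.span (ResidueField R)
          (Set.range fun i => (1 : ResidueField R) ⊗ₜ[R] D k R (f i))) :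
    ∀ j ∈ RingHom.ker (algebraMap R B),
      ∃ a : ι → R, (1 : B) ⊗ₜ[R] D k R (j - ∑ i, a i * f i) = 0 := by
  have hJ : RingHom.ker (algebraMap R B) ≠ ⊤ := RingHom.ker_ne_top _
  have hfJ0 : ∀ i, algebraMap R B (f i) = 0 := fun i => hfJ i
  have hfm : ∀ i, algebraMap R (ResidueField R) (f i) = 0 := fun i =>
    (residue_eq_zero_iff _).mpr (IsLocalRing.le_maximalIdeal hJ (hfJ i))
  let g := KaehlerDifferential.mapBaseChange k R B
  have hg : Function.Surjective g := KaehlerDifferential.mapBaseChange_surjective k R B hsurj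
  let W₀ : Submodule B (B ⊗[R] Ω[R⁄k]) :=
    Submodule.span B (Set.range fun i => (1 : B) ⊗ₜ[R] D k R (f i))
  have hD0 : ∀ j ∈ RingHom.ker (algebraMap R B), (1 : B) ⊗ₜ[R] D k R j ∈ LinearMap.ker g := by
    intro j hj
    simp only [g, LinearMap.mem_ker, KaehlerDifferential.mapBaseChange_tmul, one_smul,
      KaehlerDifferential.map_D]
    rw [RingHom.mem_ker.mp hj, map_zero]
  have hmk : ∀ r ∈ maximalIdeal R, algebraMap R B r ∈ maximalIdeal B := by
    intro r hr
    rw [mem_maximalIdeal, mem_nonunits_iff] at hr ⊢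
    intro hu
    have : IsLocalHom (algebraMap R B) := Function.Surjective.isLocalHom _ hsurj
    exact hr (isUnit_of_map_unit (algebraMap R B) r hu)
  have key : LinearMap.ker g ≤ W₀ := by
    refine ker_le_of_projective g hg W₀ ?_
    intro w hw
    obtain ⟨x, rfl⟩ :=
      (KaehlerDifferential.exact_kerCotangentToTensor_mapBaseChange k R B hsurj w).mp hw
    obtain ⟨⟨j, hj⟩, rfl⟩ := Ideal.toCotangent_surjective _ x
    rw [KaehlerDifferential.kerCotangentToTensor_toCotangent]
    obtain ⟨c, hc⟩ := (Submodule.mem_span_range_iff_exists_fun _).mp (hspan j hj)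
    choose a ha using fun i => residue_surjective (c i)
    have hy : D k R j - D k R (∑ i, a i * f i) ∈ maximalIdeal R • (⊤ : Submodule R Ω[R⁄k]) := by
      rw [← residue_one_tmul_eq_zero_iff, TensorProduct.tmul_sub,
        alg_one_tmul_D_sum k R (ResidueField R) f a hfm, ← hc, sub_eq_zero]
      refine Finset.sum_congr rfl fun i _ => ?_
      rw [← ha i]; rfl
    refine ⟨(1 : B) ⊗ₜ[R] D k R (∑ i, a i * f i), ?_, ?_, ?_⟩
    · rw [alg_one_tmul_D_sum k R B f a hfJ0]
      exact Submodule.sum_mem _ fun i _ => Submodule.smul_mem _ _ (Submodule.subset_span ⟨i, rfl⟩)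
    · refine Submodule.sub_mem _ (hD0 j hj) (hD0 _ ?_)
      exact Ideal.sum_mem _ fun i _ => Ideal.mul_mem_left _ _ (hfJ i)
    · rw [← TensorProduct.tmul_sub]
      refine Submodule.smul_induction_on hy ?_ ?_
      · intro r hr z _
        have : (1 : B) ⊗ₜ[R] (r • z) = algebraMap R B r • ((1 : B) ⊗ₜ[R] z) := by
          rw [TensorProduct.tmul_smul, TensorProduct.smul_tmul', TensorProduct.smul_tmul',
            smul_eq_mul, mul_one, Algebra.smul_def, mul_one]
        rw [this]
        exact Submodule.smul_mem_smul (hmk r hr) trivial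
      · intro x y hx hy
        rw [TensorProduct.tmul_add]
        exact Submodule.add_mem _ hx hy
  intro j hj
  have h1 := key (hD0 j hj)
  obtain ⟨b, hb⟩ := (Submodule.mem_span_range_iff_exists_fun _).mp h1
  choose a ha using fun i => hsurj (b i)
  refine ⟨a, ?_⟩
  rw [map_sub, TensorProduct.tmul_sub, alg_one_tmul_D_sum k R B f a hfJ0, ← hb, sub_eq_zero]
  refine Finset.sum_congr rfl fun i _ => ?_
  rw [← ha i]

end


theorem alg_one_tmul_eq_zero_iff {R B : Type*} [CommRing R] [CommRing B] [Algebra R B]
    (hsurj : Function.Surjective (algebraMap R B)) {X : Type*}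
    [AddCommGroup X] [Module R X] (x : X) :
    (1 : B) ⊗ₜ[R] x = 0 ↔ x ∈ RingHom.ker (algebraMap R B) • (⊤ : Submodule R X) := by
  have hsurj' : Function.Surjective (Algebra.ofId R B) := hsurj
  let e := Ideal.quotientKerAlgEquivOfSurjective hsurj'
  let E := TensorProduct.congr e.toLinearEquiv (LinearEquiv.refl R X)
  have h1 : E ((1 : R ⧸ RingHom.ker (Algebra.ofId R B)) ⊗ₜ[R] x) = (1 : B) ⊗ₜ[R] x := by
    simp only [E, TensorProduct.congr_tmul, LinearEquiv.refl_apply, AlgEquiv.toLinearEquiv_apply,
      map_one]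
  rw [← h1, E.map_eq_zero_iff, quot_one_tmul_eq_zero_iff]
  rfl


section

variable (k R B : Type u) [Field k] [CommRing R] [Algebra k R] [IsNoetherianRing R]
  [Algebra.FormallySmooth k R] [Algebra.EssFiniteType k R]
  [CommRing B] [Algebra R B] (hsurj : Function.Surjective (algebraMap R B))

include hsurj in
/-- Step D. -/
theorem ker_eq_of_generic (J' : Ideal R) (hJ'J : J' ≤ RingHom.ker (algebraMap R B)) [J'.IsPrime]
    (P : Ideal R) [P.IsPrime]
    (hJP : RingHom.ker (algebraMap R B) ≤ P)
    (hmap : (RingHom.ker (algebraMap R B)).map (algebraMap R (Localization.AtPrime P)) =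
      maximalIdeal (Localization.AtPrime P))
    [Algebra.FormallySmooth k (ResidueField (Localization.AtPrime P))]
    (h : ∀ j ∈ RingHom.ker (algebraMap R B), ∃ j' ∈ J', (1 : B) ⊗ₜ[R] D k R (j - j') = 0) :
    RingHom.ker (algebraMap R B) = J' := by
  set J := RingHom.ker (algebraMap R B) with hJdef
  let T := Localization.AtPrime P
  haveI : Algebra.FormallySmooth R T := Algebra.FormallySmooth.of_isLocalization P.primeCompl
  haveI : Algebra.FormallySmooth k T := Algebra.FormallySmooth.comp k R T
  haveI : Algebra.EssFiniteType R T := Algebra.EssFiniteType.of_isLocalization T P.primeCompl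
  haveI : Algebra.EssFiniteType k T := Algebra.EssFiniteType.comp k R T
  haveI : Module.Finite T Ω[T⁄k] := inferInstance
  haveI : Module.Projective T Ω[T⁄k] := inferInstance
  haveI : Module.Free T Ω[T⁄k] := Module.free_of_flat_of_isLocalRing
  haveI : IsNoetherianRing T := IsLocalization.isNoetherianRing P.primeCompl T inferInstance
  have hinj := (formallySmooth_residueField_iff_injective k T).mp inferInstance
  -- key: elements of `J` with vanishing differential land in `m²`
  have hsq : ∀ g ∈ J, (1 : B) ⊗ₜ[R] D k R g = 0 →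
      algebraMap R T g ∈ maximalIdeal T * maximalIdeal T := by
    intro g hg h0
    have h1 : D k R g ∈ J • (⊤ : Submodule R Ω[R⁄k]) := (alg_one_tmul_eq_zero_iff hsurj _).mp h0
    have h2 : D k T (algebraMap R T g) ∈ maximalIdeal T • (⊤ : Submodule T Ω[T⁄k]) := by
      rw [← KaehlerDifferential.map_D k k R T]
      refine Submodule.smul_induction_on h1 ?_ ?_
      · intro r hr z _
        rw [map_smul, ← algebraMap_smul T r]
        refine Submodule.smul_mem_smul ?_ trivial
        rw [← hmap]
        exact Ideal.mem_map_of_mem _ hr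
      · intro x y hx hy
        rw [map_add]
        exact Submodule.add_mem _ hx hy
    have hgm : algebraMap R T g ∈ RingHom.ker (algebraMap T (ResidueField T)) := by
      rw [ker_algebraMap_residueField, ← hmap]
      exact Ideal.mem_map_of_mem _ hg
    have h3 : cotangentComplexBaseChange k (ResidueField T) T (ResidueField T)
        ((1 : ResidueField T) ⊗ₜ[T] ⟨algebraMap R T g, hgm⟩) = 0 := by
      rw [cotangentComplexBaseChange_tmul, one_smul, kerToTensor_apply]
      exact (residue_one_tmul_eq_zero_iff _).mpr h2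
    have h4 := (injective_iff_map_eq_zero _).mp hinj _ h3
    rw [one_tmul_eq_zero_iff] at h4
    have h5 : algebraMap R T g ∈ maximalIdeal T * RingHom.ker (algebraMap T (ResidueField T)) := h4
    rwa [ker_algebraMap_residueField] at h5
  -- Nakayama
  have hle : maximalIdeal T ≤ J'.map (algebraMap R T) := by
    refine Submodule.le_of_le_smul_of_le_jacobson_bot (IsNoetherian.noetherian _)
      (IsLocalRing.maximalIdeal_le_jacobson ⊥) ?_
    conv_lhs => rw [← hmap]
    rw [Ideal.map_le_iff_le_comap]
    intro j hj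
    obtain ⟨j', hj', h0⟩ := h j hj
    rw [Ideal.mem_comap]
    have : algebraMap R T j = algebraMap R T j' + algebraMap R T (j - j') := by
      rw [← map_add]; congr 1; ring
    rw [this]
    refine Submodule.add_mem_sup (Ideal.mem_map_of_mem _ hj') ?_
    rw [smul_eq_mul]
    exact hsq _ (Ideal.sub_mem _ hj (hJ'J hj')) h0
  have hdisj : Disjoint (P.primeCompl : Set R) J' := by
    rw [Set.disjoint_left]
    intro x hx hxJ'
    exact hx (hJP (hJ'J hxJ'))
  have h1 : P ≤ J' := by
    rw [← IsLocalization.AtPrime.under_maximalIdeal T P,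
      ← IsLocalization.under_map_of_isPrime_disjoint P.primeCompl T ‹J'.IsPrime› hdisj]
    exact Ideal.comap_mono hle
  exact le_antisymm (hJP.trans h1) hJ'J

end



/-- the local ring at a minimal prime is a field as soon as it is formally smooth (ess. f.t.). -/
theorem maximalIdeal_eq_bot_of_minimal_of_formallySmooth (k B : Type u) [Field k] [CommRing B]
    [Algebra k B] [Algebra.EssFiniteType k B] (p : Ideal B) [p.IsPrime] (hp : p ∈ minimalPrimes B)
    [Algebra.FormallySmooth k (Localization.AtPrime p)] :
    maximalIdeal (Localization.AtPrime p) = ⊥ := by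
  haveI : Algebra.EssFiniteType B (Localization.AtPrime p) :=
    Algebra.EssFiniteType.of_isLocalization _ p.primeCompl
  haveI : Algebra.EssFiniteType k (Localization.AtPrime p) := Algebra.EssFiniteType.comp k B _
  have hreg := isRegularLocalRing_of_formallySmooth k (Localization.AtPrime p)
  have hdom := Groth.Agent.Lib.Helper76.isDomain_of_isRegularLocalRing (Localization.AtPrime p)
  have hss := IsLocalization.subsingleton_primeSpectrum_of_mem_minimalPrimes p hp
    (Localization.AtPrime p)
  have : (⟨⊥, Ideal.isPrime_bot⟩ : PrimeSpectrum (Localization.AtPrime p)) =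
      ⟨maximalIdeal _, inferInstance⟩ := Subsingleton.elim _ _
  rw [PrimeSpectrum.ext_iff] at this
  exact this.symm

theorem map_ker_eq_maximalIdeal {R B : Type*} [CommRing R] [CommRing B] [Algebra R B]
    (hsurj : Function.Surjective (algebraMap R B)) (p : Ideal B) [p.IsPrime]
    (hbot : maximalIdeal (Localization.AtPrime p) = ⊥) :
    (RingHom.ker (algebraMap R B)).map
        (algebraMap R (Localization.AtPrime (p.comap (algebraMap R B)))) =
      maximalIdeal (Localization.AtPrime (p.comap (algebraMap R B))) := by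
  set P := p.comap (algebraMap R B) with hP
  apply le_antisymm
  · rw [Ideal.map_le_iff_le_comap]
    intro j hj
    rw [Ideal.mem_comap, IsLocalization.AtPrime.to_map_mem_maximal_iff _ P]
    rw [hP, Ideal.mem_comap, RingHom.mem_ker.mp hj]
    exact p.zero_mem
  · intro x hx
    obtain ⟨r, s, rfl⟩ := IsLocalization.exists_mk'_eq P.primeCompl x
    rw [IsLocalization.AtPrime.mk'_mem_maximal_iff _ P] at hx
    rw [IsLocalization.mk'_mem_iff]
    have h1 : algebraMap B (Localization.AtPrime p) (algebraMap R B r) ∈
        maximalIdeal (Localization.AtPrime p) := by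
      rw [IsLocalization.AtPrime.to_map_mem_maximal_iff _ p]
      exact hx
    rw [hbot, Ideal.mem_bot, IsLocalization.map_eq_zero_iff p.primeCompl] at h1
    obtain ⟨⟨t, ht⟩, h2⟩ := h1
    obtain ⟨t', rfl⟩ := hsurj t
    have ht' : t' ∈ P.primeCompl := fun h => ht h
    have h3 : t' * r ∈ RingHom.ker (algebraMap R B) := by
      rw [RingHom.mem_ker, map_mul]; exact h2
    have h4 := Ideal.mem_map_of_mem (algebraMap R (Localization.AtPrime P)) h3
    rw [map_mul] at h4
    exact (Ideal.unit_mul_mem_iff_mem _
      (IsLocalization.map_units (Localization.AtPrime P) ⟨t', ht'⟩)).mp h4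



theorem formallySmooth_residueField_comap (k R B : Type u) [Field k] [CommRing R] [CommRing B]
    [Algebra k R] [Algebra k B] [Algebra R B] [IsScalarTower k R B]
    (hsurj : Function.Surjective (algebraMap R B)) (p : Ideal B) [p.IsPrime]
    (hbot : maximalIdeal (Localization.AtPrime p) = ⊥)
    [Algebra.FormallySmooth k (Localization.AtPrime p)] :
    Algebra.FormallySmooth k
      (ResidueField (Localization.AtPrime (p.comap (algebraMap R B)))) := by
  set P := p.comap (algebraMap R B) with hP
  haveI : p.LiesOver P := ⟨rfl⟩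
  letI := Localization.AtPrime.algebraOfLiesOver P p
  let T := Localization.AtPrime P
  let C := Localization.AtPrime p
  let φ : T →ₐ[k] C := IsScalarTower.toAlgHom k T C
  have hφ : Function.Surjective φ :=
    RingHom.surjective_localRingHom_of_surjective (algebraMap R B) hsurj p
  have hCfield : IsField C := (IsLocalRing.isField_iff_maximalIdeal_eq).mpr hbot
  have hker : RingHom.ker φ = maximalIdeal T := by
    letI := hCfield.toField
    haveI : (RingHom.ker φ).IsMaximal := RingHom.ker_isMaximal_of_surjective φ hφ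
    exact IsLocalRing.eq_maximalIdeal inferInstance
  let e : (T ⧸ maximalIdeal T) ≃ₐ[k] C :=
    (Ideal.quotientEquivAlgOfEq k hker).symm.trans (Ideal.quotientKerAlgEquivOfSurjective hφ)
  have : Algebra.FormallySmooth k (T ⧸ maximalIdeal T) := Algebra.FormallySmooth.of_equiv e.symm
  exact this


/-- **Generic smoothness + projective differentials ⇒ smooth** (local form).
Let `B` be a local algebra essentially of finite type over a field `k` with `Ω[B/k]` projective.
If `B` is formally smooth over `k` at one minimal prime, then `B` is formally smooth over `k`. -/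
theorem formallySmooth_of_generic (k B : Type u) [Field k] [CommRing B] [Algebra k B]
    [IsLocalRing B] [Algebra.EssFiniteType k B] [Module.Projective B Ω[B⁄k]]
    (p : Ideal B) [p.IsPrime] (hp : p ∈ minimalPrimes B)
    [Algebra.FormallySmooth k (Localization.AtPrime p)] : Algebra.FormallySmooth k B := by
  obtain ⟨R, _, _, _, _, _, _, _, ψ, hψ⟩ := exists_presentation k B
  letI : Algebra R B := ψ.toRingHom.toAlgebra
  haveI : IsScalarTower k R B := IsScalarTower.of_algebraMap_eq' ψ.comp_algebraMap.symm
  have hsurj : Function.Surjective (algebraMap R B) := hψ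
  have hJtop : RingHom.ker (algebraMap R B) ≠ ⊤ := RingHom.ker_ne_top _
  obtain ⟨ι, _, f, hfJ, hli, hspan⟩ := exists_family k R (RingHom.ker (algebraMap R B))
  have hfm : ∀ i, f i ∈ maximalIdeal R := fun i => IsLocalRing.le_maximalIdeal hJtop (hfJ i)
  have hJ'J : Ideal.span (Set.range f) ≤ RingHom.ker (algebraMap R B) := by
    rw [Ideal.span_le]; rintro _ ⟨i, rfl⟩; exact hfJ i
  have hJ'top : Ideal.span (Set.range f) ≠ ⊤ := fun h => hJtop (top_le_iff.mp (h ▸ hJ'J))
  -- `R/J'` is formally smooth, hence regular, hence a domain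
  haveI hsm' := formallySmooth_quotient_span k R f hfm hli
  haveI : Nontrivial (R ⧸ Ideal.span (Set.range f)) := Ideal.Quotient.nontrivial_iff.mpr hJ'top
  haveI : IsLocalRing (R ⧸ Ideal.span (Set.range f)) :=
    IsLocalRing.of_surjective' _ Ideal.Quotient.mk_surjective
  haveI : Algebra.EssFiniteType k (R ⧸ Ideal.span (Set.range f)) :=
    Algebra.EssFiniteType.comp k R _
  haveI hreg' := isRegularLocalRing_of_formallySmooth k (R ⧸ Ideal.span (Set.range f))
  haveI hdom' := Groth.Agent.Lib.Helper76.isDomain_of_isRegularLocalRing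
    (R ⧸ Ideal.span (Set.range f))
  haveI hprime : (Ideal.span (Set.range f)).IsPrime := (Ideal.Quotient.isDomain_iff_prime _).mp hdom'
  -- Step C
  have hC := exists_sub_tmul_D_eq_zero k R B hsurj f hfJ hspan
  -- generic data
  have hbot := maximalIdeal_eq_bot_of_minimal_of_formallySmooth k B p hp
  have hmap := map_ker_eq_maximalIdeal hsurj p hbot
  haveI := formallySmooth_residueField_comap k R B hsurj p hbot
  have hJP : RingHom.ker (algebraMap R B) ≤ p.comap (algebraMap R B) := by
    intro j hj
    rw [Ideal.mem_comap, RingHom.mem_ker.mp hj]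
    exact p.zero_mem
  have hD := ker_eq_of_generic k R B hsurj (Ideal.span (Set.range f)) hJ'J
    (p.comap (algebraMap R B)) hJP hmap (fun j hj => by
      obtain ⟨a, ha⟩ := hC j hj
      exact ⟨∑ i, a i * f i,
        Ideal.sum_mem _ fun i _ => Ideal.mul_mem_left _ _ (Ideal.subset_span ⟨i, rfl⟩), ha⟩)
  -- conclude
  have hker : RingHom.ker ψ = Ideal.span (Set.range f) := hD
  let e : (R ⧸ Ideal.span (Set.range f)) ≃ₐ[k] B :=
    (Ideal.quotientEquivAlgOfEq k hker).symm.trans (Ideal.quotientKerAlgEquivOfSurjective hψ)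
  exact Algebra.FormallySmooth.of_equiv e


/-- If the residue field of a local `k`-algebra `C` is formally smooth over `k`, then
`m/m² → κ ⊗ Ω[C/k]` is injective. -/
theorem kerCotangentToTensor_injective_of_formallySmooth_residueField (k C : Type u) [Field k]
    [CommRing C] [Algebra k C] [IsLocalRing C] [Algebra.FormallySmooth k (ResidueField C)] :
    Function.Injective (kerCotangentToTensor k C (ResidueField C)) := by
  have hsurj : Function.Surjective (algebraMap C (ResidueField C)) := residue_surjective
  let pr := (IsScalarTower.toAlgHom k C (ResidueField C)).kerSquareLift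
  have hpr : Function.Surjective pr := by
    intro x
    obtain ⟨y, rfl⟩ := hsurj x
    exact ⟨Ideal.Quotient.mk _ y, rfl⟩
  have hnil : IsNilpotent (RingHom.ker pr.toRingHom) := by
    refine ⟨2, ?_⟩
    have h1 := AlgHom.ker_kerSquareLift (IsScalarTower.toAlgHom k C (ResidueField C))
    have h2 : RingHom.ker pr.toRingHom =
        (RingHom.ker (IsScalarTower.toAlgHom k C (ResidueField C)).toRingHom).cotangentIdeal := h1
    rw [h2, Ideal.cotangentIdeal_square]
    rfl
  let g := Algebra.FormallySmooth.liftOfSurjective (AlgHom.id k (ResidueField C)) pr hpr hnil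
  have hg : pr.comp g = AlgHom.id k (ResidueField C) :=
    Algebra.FormallySmooth.comp_liftOfSurjective _ _ hpr hnil
  obtain ⟨l, hl⟩ := (retractionKerCotangentToTensorEquivSection (R := k) hsurj).symm ⟨g, hg⟩
  exact Function.LeftInverse.injective (g := l) (fun x => LinearMap.congr_fun hl x)

/-- If `f ∈ m ∖ m²` and the residue field is formally smooth over `k`, then `df ∉ m Ω`. -/
theorem D_notMem_smul_top (k C : Type u) [Field k]
    [CommRing C] [Algebra k C] [IsLocalRing C] [Algebra.FormallySmooth k (ResidueField C)]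
    (f : C) (hf : f ∈ maximalIdeal C) (hf2 : f ∉ maximalIdeal C ^ 2) :
    D k C f ∉ maximalIdeal C • (⊤ : Submodule C Ω[C⁄k]) := by
  intro h
  have hfk : f ∈ RingHom.ker (algebraMap C (ResidueField C)) := by
    rw [ker_algebraMap_residueField]; exact hf
  have h1 : kerCotangentToTensor k C (ResidueField C) (Ideal.toCotangent _ ⟨f, hfk⟩) = 0 := by
    rw [kerCotangentToTensor_toCotangent]
    exact (residue_one_tmul_eq_zero_iff _).mpr h
  have h2 := (injective_iff_map_eq_zero _).mp
    (kerCotangentToTensor_injective_of_formallySmooth_residueField k C) _ h1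
  rw [Ideal.toCotangent_eq_zero] at h2
  apply hf2
  have h3 : f ∈ RingHom.ker (algebraMap C (ResidueField C)) ^ 2 := h2
  rwa [ker_algebraMap_residueField] at h3


/-- In characteristic zero, a local `k`-algebra with nil maximal ideal and finite free
differentials is a field. -/
theorem maximalIdeal_eq_bot_of_charZero (k C : Type u) [Field k] [CharZero k] [CommRing C]
    [Algebra k C] [IsLocalRing C] [IsNoetherianRing C]
    [Algebra.FormallySmooth k (ResidueField C)] [Module.Free C Ω[C⁄k]] [Module.Finite C Ω[C⁄k]]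
    (hnil : maximalIdeal C ≤ nilradical C) : maximalIdeal C = ⊥ := by
  classical
  by_contra hne
  have hsq : ¬ maximalIdeal C ≤ maximalIdeal C ^ 2 := by
    intro hle
    apply hne
    refine Submodule.eq_bot_of_le_smul_of_le_jacobson_bot (maximalIdeal C) (maximalIdeal C)
      (IsNoetherian.noetherian _) ?_ (IsLocalRing.maximalIdeal_le_jacobson ⊥)
    rwa [smul_eq_mul, ← pow_two]
  obtain ⟨f, hf, hf2⟩ := SetLike.not_le_iff_exists.mp hsq
  have hD := D_notMem_smul_top k C f hf hf2
  let b := Module.Free.chooseBasis C Ω[C⁄k]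
  have hex : ∃ i, b.repr (D k C f) i ∉ maximalIdeal C := by
    by_contra hall
    simp only [not_exists, not_not] at hall
    apply hD
    rw [← b.sum_repr (D k C f)]
    exact Submodule.sum_mem _ fun i _ => Submodule.smul_mem_smul (hall i) trivial
  obtain ⟨i, hi⟩ := hex
  have hcu : IsUnit (b.repr (D k C f) i) := by
    by_contra hnu
    exact hi ((mem_maximalIdeal _).mpr hnu)
  let D' : Derivation k C C := (b.coord i).compDer (D k C)
  have hD'f : D' f = b.repr (D k C f) i := rfl
  have hfnil : IsNilpotent f := hnil hf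
  have hn := Nat.find_spec hfnil
  set n := Nat.find hfnil with hndef
  have hn0 : n ≠ 0 := by
    intro h0
    rw [h0, pow_zero] at hn
    exact one_ne_zero hn
  obtain ⟨n', hn'⟩ := Nat.exists_eq_succ_of_ne_zero hn0
  have h1 : D' (f ^ n) = 0 := by rw [hn, map_zero]
  rw [Derivation.leibniz_pow, hn', Nat.succ_sub_one, hD'f, nsmul_eq_mul, smul_eq_mul] at h1
  have hnu : IsUnit ((n'.succ : ℕ) : C) := by
    have h2 : ((n'.succ : ℕ) : C) = algebraMap k C ((n'.succ : ℕ) : k) := by simp
    rw [h2]
    exact (IsUnit.mk0 _ (Nat.cast_ne_zero.mpr (Nat.succ_ne_zero n'))).map _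
  have h3 : f ^ n' = 0 := by
    have := (hnu.mul_right_eq_zero).mp h1
    exact (hcu.mul_left_eq_zero).mp this
  exact Nat.find_min hfnil (by rw [← hndef, hn']; exact Nat.lt_succ_self n') h3

end Groth.Agent.Lib.Helper65.GenericSmooth
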