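import Mathlib
import Groth.Agent.Lib.Helper65.GenericSmooth

/-!
# Smoothness via small extensions of Artinian local rings (helper65)

`core`: for a presentation `P → S` (with `P` Noetherian) and a prime `q` of `S`, if `S` has the
lifting property against small extensions of Artinian local rings along maps pulling the maximal
ideal back to `q`, then every `f` in the kernel `K` of `P_Q → S_q` with `df ∈ m Ω` lies in `m K`
(which is the Jacobian criterion for formal smoothness of `S_q`).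
-/

set_option autoImplicit false
set_option linter.style.haveILetI false
set_option linter.unusedVariables false
universe u

namespace Groth.Agent.Lib.Helper65.SmallExt

open IsLocalRing Algebra TensorProduct KaehlerDifferential Groth.Agent.Lib.Helper65.GenericSmooth


/-- hyperplane-type ideal: between `𝔞₀ ≤ U` with `m U ≤ 𝔞₀` and `f ∈ U ∖ 𝔞₀`, there is an ideal
`𝔞` not containing `f` with `U ≤ 𝔞 + (f)`. -/
theorem exists_hyperplane_ideal {T : Type*} [CommRing T] [IsLocalRing T] [IsNoetherianRing T]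
    (𝔞₀ U : Ideal T) (h0U : 𝔞₀ ≤ U) (hm : maximalIdeal T * U ≤ 𝔞₀) (f : T)
    (hf0 : f ∉ 𝔞₀) :
    ∃ 𝔞 : Ideal T, 𝔞₀ ≤ 𝔞 ∧ 𝔞 ≤ U ∧ f ∉ 𝔞 ∧ U ≤ 𝔞 ⊔ Ideal.span {f} := by
  let Sset : Set (Ideal T) := {𝔞 | 𝔞₀ ≤ 𝔞 ∧ 𝔞 ≤ U ∧ f ∉ 𝔞}
  have hne : Sset.Nonempty := ⟨𝔞₀, le_rfl, h0U, hf0⟩
  obtain ⟨𝔞, h𝔞S, hmax⟩ := set_has_maximal_iff_noetherian.mpr
    (inferInstance : IsNoetherian T T) Sset hne
  obtain ⟨h1, h2, h3⟩ := h𝔞S
  refine ⟨𝔞, h1, h2, h3, ?_⟩
  intro u hu
  by_cases hu𝔞 : u ∈ 𝔞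
  · exact Ideal.mem_sup_left hu𝔞
  · have hlt : 𝔞 < 𝔞 ⊔ Ideal.span {u} := by
      refine lt_of_le_of_ne le_sup_left ?_
      intro h
      apply hu𝔞
      rw [h]
      exact Ideal.mem_sup_right (Ideal.mem_span_singleton_self u)
    have hnotS : 𝔞 ⊔ Ideal.span {u} ∉ Sset := fun h => hmax _ h hlt
    have hf : f ∈ 𝔞 ⊔ Ideal.span {u} := by
      by_contra hfn
      exact hnotS ⟨h1.trans le_sup_left,
        sup_le h2 ((Ideal.span_singleton_le_iff_mem _).mpr hu), hfn⟩
    obtain ⟨a, ha, y, hy, hay⟩ := Submodule.mem_sup.mp hf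
    obtain ⟨c, rfl⟩ := Ideal.mem_span_singleton'.mp hy
    have hcu : IsUnit c := by
      by_contra hc
      apply h3
      rw [← hay]
      refine Ideal.add_mem _ ha (h1 (hm ?_))
      exact Ideal.mul_mem_mul ((mem_maximalIdeal _).mpr hc) hu
    obtain ⟨c', rfl⟩ := hcu
    have : u = (↑c'⁻¹ : T) * (f - a) := by
      rw [← hay, add_sub_cancel_left, ← mul_assoc, Units.inv_mul, one_mul]
    rw [this]
    refine Ideal.mul_mem_left _ _ (Ideal.sub_mem _ ?_ (Ideal.mem_sup_left ha))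
    exact Ideal.mem_sup_right (Ideal.mem_span_singleton_self f)



/-- Krull intersection modulo an ideal. -/
theorem mem_of_forall_mem_sup_pow {T : Type*} [CommRing T] [IsLocalRing T] [IsNoetherianRing T]
    (L : Ideal T) (f : T) (h : ∀ N : ℕ, 1 ≤ N → f ∈ L ⊔ maximalIdeal T ^ N) : f ∈ L := by
  set m := maximalIdeal T
  have hkr : (⨅ i : ℕ, m ^ i • (⊤ : Submodule T (T ⧸ L))) = ⊥ :=
    Ideal.iInf_pow_smul_eq_bot_of_isLocalRing (R := T) (M := T ⧸ L) m
      (IsLocalRing.maximalIdeal.isMaximal T).ne_top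
  have hmem : (Ideal.Quotient.mk L f : T ⧸ L) ∈
      (⨅ i : ℕ, m ^ i • (⊤ : Submodule T (T ⧸ L))) := by
    rw [Submodule.mem_iInf]
    intro N
    rcases Nat.eq_zero_or_pos N with rfl | hN
    · simp
    · obtain ⟨y, hy, z, hz, rfl⟩ := Submodule.mem_sup.mp (h N hN)
      rw [map_add, Ideal.Quotient.eq_zero_iff_mem.mpr hy, zero_add]
      have : (Ideal.Quotient.mk L z : T ⧸ L) = z • (1 : T ⧸ L) := by
        rw [Algebra.smul_def, mul_one]; rfl
      rw [this]
      exact Submodule.smul_mem_smul hz Submodule.mem_top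
  rw [hkr, Submodule.mem_bot] at hmem
  exact Ideal.Quotient.eq_zero_iff_mem.mp hmem


/-- The test ideal. -/
theorem exists_test_ideal {T : Type*} [CommRing T] [IsLocalRing T] [IsNoetherianRing T]
    (K : Ideal T) (hK : K ≤ maximalIdeal T) (f : T) (hfK : f ∈ K)
    (hf : f ∉ maximalIdeal T * K) :
    ∃ 𝔞 : Ideal T, 𝔞 ≤ maximalIdeal T ∧ (∃ N : ℕ, maximalIdeal T ^ N ≤ 𝔞) ∧ f ∉ 𝔞 ∧
      K ≤ 𝔞 ⊔ Ideal.span {f} ∧ maximalIdeal T * Ideal.span {f} ≤ 𝔞 := by
  set m := maximalIdeal T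
  obtain ⟨N, hN1, hfN⟩ : ∃ N : ℕ, 1 ≤ N ∧ f ∉ m * K ⊔ m ^ N := by
    by_contra h
    push Not at h
    exact hf (mem_of_forall_mem_sup_pow _ f h)
  have hmU : m * (K ⊔ m ^ N) ≤ m * K ⊔ m ^ N := by
    rw [Ideal.mul_sup]
    exact sup_le_sup le_rfl Ideal.mul_le_right
  obtain ⟨𝔞, h1, h2, h3, h4⟩ := exists_hyperplane_ideal (m * K ⊔ m ^ N) (K ⊔ m ^ N)
    (sup_le_sup Ideal.mul_le_right le_rfl) hmU f hfN
  have hUm : K ⊔ m ^ N ≤ m := sup_le hK (Ideal.pow_le_self (by omega))
  refine ⟨𝔞, h2.trans hUm, ⟨N, le_sup_right.trans h1⟩, h3, le_sup_left.trans h4, ?_⟩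
  refine le_trans ?_ (hmU.trans h1)
  exact Ideal.mul_mono_right ((Ideal.span_singleton_le_iff_mem _).mpr (le_sup_left (a := K) hfK))

/-- No lift: the contradiction. -/
theorem eq_zero_of_lift {R T : Type*} [CommRing R] [CommRing T] [Algebra R T] [IsLocalRing T]
    (𝔞 : Ideal T) (f : T) (hfm : f ∈ maximalIdeal T)
    (hmf : maximalIdeal T * Ideal.span {f} ≤ 𝔞)
    (hDf : D R T f ∈ maximalIdeal T • (⊤ : Submodule T Ω[T⁄R]))
    (h : T →ₐ[R] T ⧸ 𝔞)
    (h1 : ∀ x, h x - Ideal.Quotient.mk 𝔞 x ∈ Ideal.span {Ideal.Quotient.mk 𝔞 f})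
    (h2 : h f = 0) : f ∈ 𝔞 := by
  set I : Ideal (T ⧸ 𝔞) := Ideal.span {Ideal.Quotient.mk 𝔞 f} with hI
  have hkill : ∀ a ∈ maximalIdeal T, ∀ y ∈ I, Ideal.Quotient.mk 𝔞 a * y = 0 := by
    intro a ha y hy
    obtain ⟨c, rfl⟩ := Ideal.mem_span_singleton'.mp hy
    have : a * f ∈ 𝔞 := hmf (Ideal.mul_mem_mul ha (Ideal.mem_span_singleton_self f))
    calc Ideal.Quotient.mk 𝔞 a * (c * Ideal.Quotient.mk 𝔞 f)
        = c * Ideal.Quotient.mk 𝔞 (a * f) := by rw [map_mul]; ring
      _ = 0 := by rw [Ideal.Quotient.eq_zero_iff_mem.mpr this, mul_zero]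
  have hIsq : I ^ 2 = ⊥ := by
    rw [hI, Ideal.span_singleton_pow, pow_two, ← map_mul,
      Ideal.Quotient.eq_zero_iff_mem.mpr
        (hmf (Ideal.mul_mem_mul hfm (Ideal.mem_span_singleton_self f)))]
    simp
  have e : (Ideal.Quotient.mkₐ R I).comp h = IsScalarTower.toAlgHom R T ((T ⧸ 𝔞) ⧸ I) := by
    ext x
    have := h1 x
    rw [← Ideal.Quotient.eq] at this
    exact this
  let d := derivationToSquareZeroOfLift I hIsq h e
  have hdf : (d f : T ⧸ 𝔞) = - Ideal.Quotient.mk 𝔞 f := by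
    rw [derivationToSquareZeroOfLift_apply, h2, zero_sub]; rfl
  have hl : d.liftKaehlerDifferential (D R T f) = d f := Derivation.liftKaehlerDifferential_comp_D d f
  have hzero : d.liftKaehlerDifferential (D R T f) = 0 := by
    refine Submodule.smul_induction_on hDf ?_ ?_
    · intro a ha z _
      rw [map_smul]
      ext
      have : ((a • d.liftKaehlerDifferential z : I) : T ⧸ 𝔞) =
          Ideal.Quotient.mk 𝔞 a * (d.liftKaehlerDifferential z : T ⧸ 𝔞) := by
        rw [Submodule.coe_smul_of_tower, Algebra.smul_def]; rfl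
      rw [this]
      exact hkill a ha _ (d.liftKaehlerDifferential z).2
    · intro x y hx hy
      rw [map_add, hx, hy, add_zero]
  rw [hl] at hzero
  have : (d f : T ⧸ 𝔞) = 0 := by rw [hzero]; rfl
  rw [hdf, neg_eq_zero] at this
  exact Ideal.Quotient.eq_zero_iff_mem.mp this



theorem alg_exists_one_tmul_eq {T κ : Type*} [CommRing T] [CommRing κ] [Algebra T κ]
    (hsurj : Function.Surjective (algebraMap T κ)) {N : Type*} [AddCommGroup N]
    [Module T N] (u : κ ⊗[T] N) : ∃ n : N, u = (1 : κ) ⊗ₜ[T] n := by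
  induction u using TensorProduct.induction_on with
  | zero => exact ⟨0, by simp⟩
  | tmul a n =>
    obtain ⟨r, rfl⟩ := hsurj a
    refine ⟨r • n, ?_⟩
    rw [← TensorProduct.smul_tmul, Algebra.smul_def, mul_one]
  | add u v hu hv =>
    obtain ⟨n, rfl⟩ := hu
    obtain ⟨n', rfl⟩ := hv
    exact ⟨n + n', by rw [TensorProduct.tmul_add]⟩

/-- Criterion for injectivity of the base-changed conormal map. -/
theorem injective_cotangentComplexBaseChange_of_forall {R T C : Type*} [CommRing R] [CommRing T]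
    [CommRing C] [Algebra R T] [Algebra T C] [Algebra R C] [IsScalarTower R T C]
    [IsLocalRing T] [IsLocalRing C]
    (hsurj : Function.Surjective (algebraMap T C))
    (H : ∀ f ∈ RingHom.ker (algebraMap T C), D R T f ∈ maximalIdeal T • (⊤ : Submodule T Ω[T⁄R]) →
      f ∈ maximalIdeal T * RingHom.ker (algebraMap T C)) :
    Function.Injective (cotangentComplexBaseChange R C T (ResidueField C)) := by
  have hloc : IsLocalHom (algebraMap T C) := Function.Surjective.isLocalHom _ hsurj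
  have hsurjκ : Function.Surjective (algebraMap T (ResidueField C)) := by
    rw [IsScalarTower.algebraMap_eq T C (ResidueField C)]
    exact residue_surjective.comp hsurj
  have hkerκ : RingHom.ker (algebraMap T (ResidueField C)) = maximalIdeal T := by
    ext x
    rw [RingHom.mem_ker, IsScalarTower.algebraMap_apply T C (ResidueField C)]
    change residue C _ = 0 ↔ _
    rw [residue_eq_zero_iff, mem_maximalIdeal, mem_maximalIdeal, mem_nonunits_iff,
      mem_nonunits_iff, isUnit_map_iff]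
  rw [injective_iff_map_eq_zero]
  intro x hx
  obtain ⟨k, rfl⟩ := alg_exists_one_tmul_eq hsurjκ x
  rw [cotangentComplexBaseChange_tmul, one_smul, kerToTensor_apply,
    alg_one_tmul_eq_zero_iff hsurjκ] at hx
  have hx' : D R T (k : T) ∈ RingHom.ker (algebraMap T (ResidueField C)) •
      (⊤ : Submodule T Ω[T⁄R]) := hx
  rw [hkerκ] at hx'
  have hk := H k.1 k.2 hx'
  rw [alg_one_tmul_eq_zero_iff hsurjκ, hkerκ, Submodule.mem_smul_top_iff]
  exact hk



/-- properties of the test extension `T/𝔞 → (T/𝔞)/(f)` -/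
theorem test_ext_props {T : Type*} [CommRing T] [IsLocalRing T] [IsNoetherianRing T]
    (𝔞 : Ideal T) (h𝔞m : 𝔞 ≤ maximalIdeal T) (N : ℕ) (hN : maximalIdeal T ^ N ≤ 𝔞) (f : T)
    (hfm : f ∈ maximalIdeal T) (hmf : maximalIdeal T * Ideal.span {f} ≤ 𝔞) :
    ∃ (_ : IsLocalRing (T ⧸ 𝔞)) (_ : IsArtinianRing (T ⧸ 𝔞))
      (_ : IsLocalRing ((T ⧸ 𝔞) ⧸ Ideal.span {Ideal.Quotient.mk 𝔞 f}))
      (_ : IsArtinianRing ((T ⧸ 𝔞) ⧸ Ideal.span {Ideal.Quotient.mk 𝔞 f})),
      (∀ a ∈ maximalIdeal (T ⧸ 𝔞), a * Ideal.Quotient.mk 𝔞 f = 0) ∧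
      Ideal.span {Ideal.Quotient.mk 𝔞 f} ≤ maximalIdeal (T ⧸ 𝔞) := by
  have h𝔞top : 𝔞 ≠ ⊤ := fun h => (IsLocalRing.maximalIdeal.isMaximal T).ne_top
    (top_le_iff.mp (h ▸ h𝔞m))
  haveI : Nontrivial (T ⧸ 𝔞) := Ideal.Quotient.nontrivial_iff.mpr h𝔞top
  haveI hloc : IsLocalRing (T ⧸ 𝔞) := IsLocalRing.of_surjective' _ Ideal.Quotient.mk_surjective
  have hmap : (maximalIdeal T).map (Ideal.Quotient.mk 𝔞) = maximalIdeal (T ⧸ 𝔞) :=
    IsLocalRing.map_maximalIdeal_of_surjective _ Ideal.Quotient.mk_surjective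
  haveI hart : IsArtinianRing (T ⧸ 𝔞) := by
    rw [isArtinianRing_iff_isNilpotent_maximalIdeal]
    refine ⟨N, ?_⟩
    rw [← hmap, ← Ideal.map_pow, Ideal.zero_eq_bot, eq_bot_iff, Ideal.map_le_iff_le_comap]
    intro x hx
    rw [Ideal.mem_comap, Ideal.mem_bot, Ideal.Quotient.eq_zero_iff_mem]
    exact hN hx
  have hIle : Ideal.span {Ideal.Quotient.mk 𝔞 f} ≤ maximalIdeal (T ⧸ 𝔞) := by
    rw [Ideal.span_singleton_le_iff_mem, ← hmap]
    exact Ideal.mem_map_of_mem _ hfm
  have hItop : Ideal.span {Ideal.Quotient.mk 𝔞 f} ≠ ⊤ := fun h =>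
    (IsLocalRing.maximalIdeal.isMaximal (T ⧸ 𝔞)).ne_top (top_le_iff.mp (h ▸ hIle))
  haveI : Nontrivial ((T ⧸ 𝔞) ⧸ Ideal.span {Ideal.Quotient.mk 𝔞 f}) :=
    Ideal.Quotient.nontrivial_iff.mpr hItop
  haveI hloc2 : IsLocalRing ((T ⧸ 𝔞) ⧸ Ideal.span {Ideal.Quotient.mk 𝔞 f}) :=
    IsLocalRing.of_surjective' _ Ideal.Quotient.mk_surjective
  haveI hart2 : IsArtinianRing ((T ⧸ 𝔞) ⧸ Ideal.span {Ideal.Quotient.mk 𝔞 f}) :=
    inferInstance
  refine ⟨hloc, hart, hloc2, hart2, ?_, hIle⟩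
  intro a ha
  rw [← hmap] at ha
  obtain ⟨a₀, ha₀, rfl⟩ := (Ideal.mem_map_iff_of_surjective _ Ideal.Quotient.mk_surjective).mp ha
  rw [← map_mul, Ideal.Quotient.eq_zero_iff_mem]
  exact hmf (Ideal.mul_mem_mul ha₀ (Ideal.mem_span_singleton_self f))


/-- the core step, with test objects `B'` restricted by a predicate `Pr` which holds for all
quotients of `P_Q` by ideals containing a power of the maximal ideal. -/
theorem core' {R S P : Type u} [CommRing R] [CommRing S] [CommRing P] [Algebra R S] [Algebra R P]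
    [Algebra P S] [IsScalarTower R P S] [IsNoetherianRing P]
    (hφ : Function.Surjective (algebraMap P S)) (q : Ideal S) [q.IsPrime]
    (Pr : ∀ (B' : Type u) [CommRing B'] [Algebra R B'], Prop)
    (hPr : ∀ (𝔞 : Ideal (Localization.AtPrime (q.under P))) (N : ℕ),
      𝔞 ≤ maximalIdeal (Localization.AtPrime (q.under P)) →
      maximalIdeal (Localization.AtPrime (q.under P)) ^ N ≤ 𝔞 →
      Pr (Localization.AtPrime (q.under P) ⧸ 𝔞))
    (H : ∀ (B' B : Type u) [CommRing B'] [CommRing B] [IsLocalRing B'] [IsLocalRing B]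
        [IsArtinianRing B'] [IsArtinianRing B] [Algebra R B'] [Algebra R B] (π : B' →ₐ[R] B),
        Pr B' → Function.Surjective π →
        (∃ t : B', RingHom.ker π.toRingHom = Ideal.span {t} ∧
          ∀ a ∈ IsLocalRing.maximalIdeal B', a * t = 0) →
        ∀ g : S →ₐ[R] B, (IsLocalRing.maximalIdeal B).comap g = q →
          ∃ g' : S →ₐ[R] B', π.comp g' = g) :
    letI := Localization.AtPrime.algebraOfLiesOver (q.under P) q
    ∀ f ∈ RingHom.ker (algebraMap (Localization.AtPrime (q.under P)) (Localization.AtPrime q)),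
      D R (Localization.AtPrime (q.under P)) f ∈ maximalIdeal (Localization.AtPrime (q.under P)) •
        (⊤ : Submodule (Localization.AtPrime (q.under P)) Ω[Localization.AtPrime (q.under P)⁄R]) →
      f ∈ maximalIdeal (Localization.AtPrime (q.under P)) *
        RingHom.ker (algebraMap (Localization.AtPrime (q.under P)) (Localization.AtPrime q)) := by
  letI := Localization.AtPrime.algebraOfLiesOver (q.under P) q
  set Q := q.under P with hQ
  set T := Localization.AtPrime Q with hT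
  set Sq := Localization.AtPrime q with hSq
  have hsurj : Function.Surjective (algebraMap T Sq) :=
    RingHom.surjective_localRingHom_of_surjective (algebraMap P S) hφ q
  haveI : IsNoetherianRing T := IsLocalization.isNoetherianRing Q.primeCompl T inferInstance
  intro f hfK hDf
  by_contra hfn
  have hloc : IsLocalHom (algebraMap T Sq) := .of_surjective _ hsurj
  have hK : RingHom.ker (algebraMap T Sq) ≤ maximalIdeal T := by
    intro x hx
    rw [mem_maximalIdeal, mem_nonunits_iff]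
    intro hu
    have := hu.map (algebraMap T Sq)
    rw [RingHom.mem_ker.mp hx] at this
    exact not_isUnit_zero this
  obtain ⟨𝔞, h𝔞m, ⟨N, hN⟩, hf𝔞, hK𝔞, hmf⟩ := exists_test_ideal _ hK f hfK hfn
  have hfm := hK hfK
  obtain ⟨hloc1, hart1, hloc2, hart2, hkill, hIle⟩ := test_ext_props 𝔞 h𝔞m N hN f hfm hmf
  apply hf𝔞
  let π : (T ⧸ 𝔞) →ₐ[R] (T ⧸ 𝔞) ⧸ Ideal.span {Ideal.Quotient.mk 𝔞 f} :=
    Ideal.Quotient.mkₐ R _
  have hπ : Function.Surjective π := Ideal.Quotient.mk_surjective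
  let ρ : T →ₐ[R] (T ⧸ 𝔞) ⧸ Ideal.span {Ideal.Quotient.mk 𝔞 f} :=
    π.comp (Ideal.Quotient.mkₐ R 𝔞)
  have hρ : Function.Surjective ρ := hπ.comp Ideal.Quotient.mk_surjective
  let g₀ : P →ₐ[R] (T ⧸ 𝔞) ⧸ Ideal.span {Ideal.Quotient.mk 𝔞 f} :=
    ρ.comp (IsScalarTower.toAlgHom R P T)
  have hρK : ∀ x ∈ RingHom.ker (algebraMap T Sq), ρ x = 0 := by
    intro x hx
    obtain ⟨a, ha, y, hy, rfl⟩ := Submodule.mem_sup.mp (hK𝔞 hx)
    obtain ⟨c, rfl⟩ := Ideal.mem_span_singleton'.mp hy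
    change π (Ideal.Quotient.mk 𝔞 (a + c * f)) = 0
    rw [map_add, Ideal.Quotient.eq_zero_iff_mem.mpr ha, zero_add, map_mul]
    change Ideal.Quotient.mk _ (_ * _) = 0
    rw [Ideal.Quotient.eq_zero_iff_mem]
    exact Ideal.mul_mem_left _ _ (Ideal.mem_span_singleton_self _)
  have hPK : ∀ p : P, algebraMap P S p = 0 → algebraMap P T p ∈ RingHom.ker (algebraMap T Sq) := by
    intro p hp
    rw [RingHom.mem_ker, ← IsScalarTower.algebraMap_apply P T Sq,
      IsScalarTower.algebraMap_apply P S Sq, hp, map_zero]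
  let φ : P →ₐ[R] S := IsScalarTower.toAlgHom R P S
  have hφs : Function.Surjective φ := hφ
  have hg₀ker : RingHom.ker φ.toRingHom ≤ RingHom.ker g₀.toRingHom := by
    intro p hp
    have hp' : algebraMap P S p = 0 := hp
    exact hρK _ (hPK p hp')
  let g : S →ₐ[R] (T ⧸ 𝔞) ⧸ Ideal.span {Ideal.Quotient.mk 𝔞 f} :=
    AlgHom.liftOfSurjective φ hφs g₀ hg₀ker
  have hgφ : ∀ p : P, g (algebraMap P S p) = ρ (algebraMap P T p) := fun p =>
    AlgHom.liftOfSurjective_apply φ hφs g₀ hg₀ker p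
  have hρloc : IsLocalHom ρ.toRingHom := .of_surjective _ hρ
  have hρcomap : (maximalIdeal ((T ⧸ 𝔞) ⧸ Ideal.span {Ideal.Quotient.mk 𝔞 f})).comap ρ.toRingHom =
      maximalIdeal T := IsLocalRing.maximalIdeal_comap ρ.toRingHom
  have hgcomap : (maximalIdeal ((T ⧸ 𝔞) ⧸ Ideal.span {Ideal.Quotient.mk 𝔞 f})).comap g = q := by
    ext x
    obtain ⟨p, rfl⟩ := hφ x
    rw [Ideal.mem_comap, hgφ]
    have h1 : ρ (algebraMap P T p) ∈ maximalIdeal _ ↔ algebraMap P T p ∈ maximalIdeal T := by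
      rw [← hρcomap]; rfl
    rw [h1, IsLocalization.AtPrime.to_map_mem_maximal_iff T Q, hQ, Ideal.under_def, Ideal.mem_comap]
  have hkerπ : RingHom.ker π.toRingHom = Ideal.span {Ideal.Quotient.mk 𝔞 f} := Ideal.mk_ker
  obtain ⟨g', hg'⟩ := H (T ⧸ 𝔞) _ π (hPr 𝔞 N h𝔞m hN) hπ ⟨_, hkerπ, hkill⟩ g hgcomap
  have hπg' : ∀ s, π (g' s) = g s := fun s => DFunLike.congr_fun hg' s
  have hπloc : IsLocalHom π.toRingHom := .of_surjective _ hπ
  let h₁ : P →ₐ[R] T ⧸ 𝔞 := g'.comp φ
  have hunits : ∀ y : Q.primeCompl, IsUnit (h₁ y) := by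
    intro y
    apply isUnit_of_map_unit π.toRingHom
    change IsUnit (π (g' (algebraMap P S y)))
    rw [hπg', hgφ]
    exact (IsLocalization.map_units T y).map ρ
  let h : T →ₐ[R] T ⧸ 𝔞 := IsLocalization.liftAlgHom (M := Q.primeCompl) (f := h₁) hunits
  have hhP : ∀ p : P, h (algebraMap P T p) = g' (algebraMap P S p) := fun p =>
    IsLocalization.lift_eq _ _
  refine eq_zero_of_lift 𝔞 f hfm hmf hDf h ?_ ?_
  · -- h ≡ mk modulo I
    have heq : (π.comp h).toRingHom = ρ.toRingHom := by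
      refine IsLocalization.ringHom_ext Q.primeCompl ?_
      ext p
      change π (h (algebraMap P T p)) = ρ (algebraMap P T p)
      rw [hhP, hπg', hgφ]
    intro x
    rw [← Ideal.Quotient.eq]
    exact RingHom.congr_fun heq x
  · -- h kills K
    have hunits' : ∀ y : q.primeCompl, IsUnit (g' y) := by
      intro y
      obtain ⟨p, hp⟩ := hφ y
      have hpQ : p ∈ Q.primeCompl := by
        intro hpQ
        apply y.2
        rw [← hp]
        exact hpQ
      have := hunits ⟨p, hpQ⟩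
      rw [← hp]
      exact this
    let g'q : Sq →ₐ[R] T ⧸ 𝔞 := IsLocalization.liftAlgHom (M := q.primeCompl) (f := g') hunits'
    have heq : (g'q.comp (IsScalarTower.toAlgHom R T Sq)).toRingHom = h.toRingHom := by
      refine IsLocalization.ringHom_ext Q.primeCompl ?_
      ext p
      change g'q (algebraMap T Sq (algebraMap P T p)) = h (algebraMap P T p)
      rw [hhP, ← IsScalarTower.algebraMap_apply P T Sq, IsScalarTower.algebraMap_apply P S Sq]
      exact IsLocalization.lift_eq _ _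
    have := RingHom.congr_fun heq f
    change g'q (algebraMap T Sq f) = h f at this
    rw [← this, RingHom.mem_ker.mp hfK, map_zero]


/-- the core step: given a presentation `P → S` and the lifting property against small
extensions, the conormal criterion holds at `q`. -/
theorem core {R S P : Type u} [CommRing R] [CommRing S] [CommRing P] [Algebra R S] [Algebra R P]
    [Algebra P S] [IsScalarTower R P S] [IsNoetherianRing P]
    (hφ : Function.Surjective (algebraMap P S)) (q : Ideal S) [q.IsPrime]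
    (H : ∀ (B' B : Type u) [CommRing B'] [CommRing B] [IsLocalRing B'] [IsLocalRing B]
        [IsArtinianRing B'] [IsArtinianRing B] [Algebra R B'] [Algebra R B] (π : B' →ₐ[R] B),
        Function.Surjective π →
        (∃ t : B', RingHom.ker π.toRingHom = Ideal.span {t} ∧
          ∀ a ∈ IsLocalRing.maximalIdeal B', a * t = 0) →
        ∀ g : S →ₐ[R] B, (IsLocalRing.maximalIdeal B).comap g = q →
          ∃ g' : S →ₐ[R] B', π.comp g' = g) :
    letI := Localization.AtPrime.algebraOfLiesOver (q.under P) q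
    ∀ f ∈ RingHom.ker (algebraMap (Localization.AtPrime (q.under P)) (Localization.AtPrime q)),
      D R (Localization.AtPrime (q.under P)) f ∈ maximalIdeal (Localization.AtPrime (q.under P)) •
        (⊤ : Submodule (Localization.AtPrime (q.under P)) Ω[Localization.AtPrime (q.under P)⁄R]) →
      f ∈ maximalIdeal (Localization.AtPrime (q.under P)) *
        RingHom.ker (algebraMap (Localization.AtPrime (q.under P)) (Localization.AtPrime q)) := by
  exact core' hφ q (fun _ _ _ => True) (fun _ _ _ _ => trivial)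
    (fun B' B _ _ _ _ _ _ _ _ π _ hπ ht g hg => H B' B π hπ ht g hg)

end Groth.Agent.Lib.Helper65.SmallExt
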