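import Mathlib
import Groth.Agent.Lib.Helper65.SmallExt

/-!
# Annihilator of top exterior power of differentials and the singular locus of a hypersurface
(helper65)

* `annihilator_exteriorPower_le`, `exists_notMem_annihilator_exteriorPower`:
  `Ann(⋀ⁿ M) ≤ p ↔ n ≤ dim κ(p) ⊗ M` for a finite module `M`.
* `isSmoothAt_hypersurface_iff`: Jacobian criterion for a hypersurface `R = B/(g)` in a smooth
  algebra, in the form `1 ⊗ dg ≠ 0` in `κ(p) ⊗ Ω[B/A]`.
-/

set_option autoImplicit false
set_option linter.style.haveILetI false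
set_option linter.unusedVariables false
set_option linter.unusedSectionVars false
set_option linter.unnecessarySimpa false
universe u

namespace Groth.Agent.Lib.Helper65.ExtPowerAnn

open TensorProduct KaehlerDifferential IsLocalRing
open Groth.Agent.Lib.Helper65.SmallExt Groth.Agent.Lib.Helper65.GenericSmooth

/-- `κ ⊗ M` is spanned by the pure tensors `1 ⊗ m`. -/
theorem span_one_tmul {R M K : Type*} [CommRing R] [AddCommGroup M] [Module R M] [Field K]
    [Algebra R K] : Submodule.span K (Set.range fun m : M => (1 : K) ⊗ₜ[R] m) = ⊤ := by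
  rw [eq_top_iff]
  rintro x -
  induction x using TensorProduct.induction_on with
  | zero => exact Submodule.zero_mem _
  | tmul a m =>
    have : a ⊗ₜ[R] m = a • ((1 : K) ⊗ₜ[R] m) := by
      rw [TensorProduct.smul_tmul', smul_eq_mul, mul_one]
    rw [this]
    exact Submodule.smul_mem _ _ (Submodule.subset_span ⟨m, rfl⟩)
  | add x y hx hy => exact Submodule.add_mem _ hx hy

/-- choose a basis of `K ⊗ M` among pure tensors -/
theorem exists_basis_one_tmul {R M K : Type*} [CommRing R] [AddCommGroup M] [Module R M] [Field K]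
    [Algebra R K] [Module.Finite R M] :
    ∃ (f : Fin (Module.finrank K (K ⊗[R] M)) → M)
      (b : Module.Basis (Fin (Module.finrank K (K ⊗[R] M))) K (K ⊗[R] M)),
      ∀ i, b i = (1 : K) ⊗ₜ[R] f i := by
  classical
  obtain ⟨b, hb, hbspan, hbli⟩ := exists_linearIndependent K
    (Set.range fun m : M => (1 : K) ⊗ₜ[R] m)
  have hbtop : Submodule.span K b = ⊤ := by rw [hbspan, span_one_tmul]
  have hbfin : b.Finite := hbli.setFinite
  have hlift : ∀ x : b, ∃ m : M, (1 : K) ⊗ₜ[R] m = (x : K ⊗[R] M) := by
    intro x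
    obtain ⟨m, hm⟩ := hb x.2
    exact ⟨m, hm⟩
  choose f hf using hlift
  haveI : Fintype b := hbfin.fintype
  let hbasis := Module.Basis.mk (v := (Subtype.val : b → K ⊗[R] M))
    hbli (by rw [Subtype.range_coe]; exact hbtop.ge)
  have hcard : Fintype.card b = Module.finrank K (K ⊗[R] M) :=
    (Module.finrank_eq_card_basis hbasis).symm
  let e : Fin (Module.finrank K (K ⊗[R] M)) ≃ b := (Fintype.equivFinOfCardEq hcard).symm
  refine ⟨fun i => f (e i), hbasis.reindex e.symm, fun i => ?_⟩
  rw [Module.Basis.reindex_apply, Equiv.symm_symm, Module.Basis.mk_apply, hf]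

theorem annihilator_exteriorPower_le {R M : Type*} [CommRing R] [AddCommGroup M] [Module R M]
    (K : Type*) [Field K] [Algebra R K] (n : ℕ) [Module.Finite R M]
    (h : n ≤ Module.finrank K (K ⊗[R] M)) :
    (⋀[R]^n M).annihilator ≤ RingHom.ker (algebraMap R K) := by
  classical
  obtain ⟨f, b, hb⟩ := exists_basis_one_tmul (R := R) (M := M) (K := K)
  let V := K ⊗[R] M
  let GK : V →ₗ[K] (Fin n → K) := LinearMap.pi fun i => b.coord (Fin.castLE h i)
  let ΔK : V [⋀^Fin n]→ₗ[K] K := (Matrix.detRowAlternating (R := K) (n := Fin n)).compLinearMap GK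
  let Δ : M [⋀^Fin n]→ₗ[R] K :=
    { toMultilinearMap := (ΔK.toMultilinearMap.restrictScalars R).compLinearMap
        (fun _ => TensorProduct.mk R K M 1)
      map_eq_zero_of_eq' := fun v i j hv hij => by
        refine ΔK.map_eq_zero_of_eq _ ?_ hij
        simp only [hv] }
  let F : ⋀[R]^n M →ₗ[R] K := exteriorPower.alternatingMapLinearEquiv Δ
  let m : Fin n → M := fun i => f (Fin.castLE h i)
  have hF : F (exteriorPower.ιMulti R n m) = 1 := by
    rw [exteriorPower.alternatingMapLinearEquiv_apply_ιMulti]
    change Matrix.det (Matrix.of fun i => GK ((1 : K) ⊗ₜ[R] m i)) = 1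
    have : (Matrix.of fun i => GK ((1 : K) ⊗ₜ[R] m i)) = (1 : Matrix (Fin n) (Fin n) K) := by
      ext i j
      simp only [Matrix.of_apply, GK, LinearMap.pi_apply, m, ← hb, Module.Basis.coord_apply,
        Module.Basis.repr_self, Matrix.one_apply]
      rw [Finsupp.single_apply]
      simp only [Fin.castLE_inj]
    rw [this, Matrix.det_one]
  intro a ha
  rw [RingHom.mem_ker]
  have h0 : a • exteriorPower.ιMulti R n m = 0 := Module.mem_annihilator.mp ha _
  have := congrArg F h0
  rw [map_smul, hF, map_zero, Algebra.smul_def, mul_one] at this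
  exact this

/-- The `n`-th exterior power of a module generated by fewer than `n` elements vanishes. -/
theorem subsingleton_exteriorPower_of_span {R N : Type*} [CommRing R] [AddCommGroup N] [Module R N]
    {r n : ℕ} (hrn : r < n) (g : Fin r → N) (hg : Submodule.span R (Set.range g) = ⊤) :
    Subsingleton (⋀[R]^n N) := by
  classical
  rcases subsingleton_or_nontrivial R with hR | hR
  · haveI : Subsingleton N := Module.subsingleton R N
    exact Module.subsingleton R _
  let q : (Fin r → R) →ₗ[R] N := Fintype.linearCombination R g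
  have hq : Function.Surjective q := by
    rw [← LinearMap.range_eq_top, Fintype.range_linearCombination, hg]
  have hsurj := exteriorPower.map_surjective (n := n) hq
  have h0 : Module.finrank R (⋀[R]^n (Fin r → R)) = 0 := by
    rw [exteriorPower.finrank_eq, Module.finrank_pi, Fintype.card_fin, Nat.choose_eq_zero_of_lt hrn]
  haveI : Subsingleton (⋀[R]^n (Fin r → R)) := by
    exact (Module.finrank_eq_zero_iff_of_free R _).mp h0
  exact hsurj.subsingleton

theorem exists_notMem_annihilator_exteriorPower {R M : Type*} [CommRing R] [AddCommGroup M]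
    [Module R M] (p : Ideal R) [p.IsPrime] (n : ℕ) [Module.Finite R M]
    (h : Module.finrank p.ResidueField (p.ResidueField ⊗[R] M) < n) :
    ∃ a ∈ (⋀[R]^n M).annihilator, a ∉ p := by
  classical
  obtain ⟨f, b, hb⟩ := exists_basis_one_tmul (R := R) (M := M) (K := p.ResidueField)
  let N : Submodule R M := Submodule.span R (Set.range f)
  -- κ(p) ⊗ (M/N) = 0
  have hQP : Subsingleton (p.ResidueField ⊗[R] (M ⧸ N)) := by
    have hsurj : Function.Surjective (LinearMap.baseChange p.ResidueField N.mkQ) :=
      LinearMap.lTensor_surjective p.ResidueField (Submodule.mkQ_surjective N)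
    refine ⟨fun x y => ?_⟩
    suffices ∀ z : p.ResidueField ⊗[R] (M ⧸ N), z = 0 by rw [this x, this y]
    intro z
    obtain ⟨w, rfl⟩ := hsurj z
    have hw : w ∈ Submodule.span p.ResidueField (Set.range b) := by
      rw [b.span_eq]; exact Submodule.mem_top
    refine Submodule.span_induction ?_ ?_ ?_ ?_ hw
    · rintro _ ⟨i, rfl⟩
      rw [hb, LinearMap.baseChange_tmul]
      have : N.mkQ (f i) = 0 := by
        rw [Submodule.mkQ_apply, Submodule.Quotient.mk_eq_zero]
        exact Submodule.subset_span ⟨i, rfl⟩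
      rw [this, TensorProduct.tmul_zero]
    · exact map_zero _
    · intro x y _ _ hx hy; rw [map_add, hx, hy, add_zero]
    · intro a x _ hx; rw [map_smul, hx, smul_zero]
  have hPsupp : (⟨p, inferInstance⟩ : PrimeSpectrum R) ∉ Module.support R (M ⧸ N) := by
    rw [Module.mem_support_iff_nontrivial_residueField_tensorProduct]
    exact not_nontrivial_iff_subsingleton.mpr hQP
  rw [Module.support_eq_zeroLocus, PrimeSpectrum.mem_zeroLocus, SetLike.coe_subset_coe,
    SetLike.not_le_iff_exists] at hPsupp
  obtain ⟨s, hsann, hsp⟩ := hPsupp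
  have hsN : ∀ x : M, s • x ∈ N := by
    intro x
    have := Module.mem_annihilator.mp hsann (N.mkQ x)
    rw [← map_smul, Submodule.mkQ_apply, Submodule.Quotient.mk_eq_zero] at this
    exact this
  -- ⋀^n N = 0
  haveI hNsub : Subsingleton (⋀[R]^n N) := by
    refine subsingleton_exteriorPower_of_span h (fun i => (⟨f i, Submodule.subset_span ⟨i, rfl⟩⟩ : N))
      ?_
    rw [eq_top_iff]
    rintro ⟨x, hx⟩ -
    refine Submodule.span_induction (p := fun x hx => (⟨x, hx⟩ : N) ∈ Submodule.span R
      (Set.range fun i => (⟨f i, Submodule.subset_span ⟨i, rfl⟩⟩ : N))) ?_ ?_ ?_ ?_ hx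
    · rintro _ ⟨i, rfl⟩
      exact Submodule.subset_span ⟨i, rfl⟩
    · exact Submodule.zero_mem _
    · intro x y hx hy hx' hy'
      exact Submodule.add_mem _ hx' hy'
    · intro a x hx hx'
      exact Submodule.smul_mem _ a hx'
  refine ⟨s ^ n, ?_, fun hmem => hsp (‹p.IsPrime›.mem_of_pow_mem n hmem)⟩
  rw [Module.mem_annihilator]
  intro x
  have hx : x ∈ Submodule.span R (Set.range (exteriorPower.ιMulti R n (M := M))) := by
    rw [exteriorPower.ιMulti_span]; trivial
  induction hx using Submodule.span_induction with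
  | mem w hw =>
    obtain ⟨v, rfl⟩ := hw
    have h1 : s ^ n • exteriorPower.ιMulti R n v = exteriorPower.ιMulti R n (fun i => s • v i) := by
      have := (exteriorPower.ιMulti R n (M := M)).toMultilinearMap.map_smul_univ (fun _ => s) v
      simp only [Finset.prod_const, Finset.card_univ, Fintype.card_fin] at this
      exact this.symm
    rw [h1]
    have h2 : exteriorPower.ιMulti R n (fun i => s • v i) =
        exteriorPower.map n N.subtype (exteriorPower.ιMulti R n (fun i => (⟨s • v i, hsN (v i)⟩ : N))) := by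
      rw [exteriorPower.map_apply_ιMulti]
      rfl
    rw [h2, Subsingleton.elim (exteriorPower.ιMulti R n _) 0, map_zero]
  | zero => simp
  | add w w' _ _ hw hw' => rw [smul_add, hw, hw', add_zero]
  | smul c w _ hw => rw [smul_comm, hw, smul_zero]

/-- A derivation killing the kernel of a surjection descends to the quotient. -/
theorem exists_derivation_of_surjective {A B R V : Type*} [CommRing A] [CommRing B] [CommRing R]
    [Algebra A B] [Algebra B R] [Algebra A R] [IsScalarTower A B R]
    [AddCommGroup V] [Module A V] [Module B V] [Module R V] [IsScalarTower A B V]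
    [IsScalarTower B R V] [IsScalarTower A R V]
    (hsurj : Function.Surjective (algebraMap B R)) (d : Derivation A B V)
    (hd : ∀ b ∈ RingHom.ker (algebraMap B R), d b = 0) :
    ∃ d' : Derivation A R V, ∀ b, d' (algebraMap B R b) = d b := by
  let φ : B →ₗ[A] R := (IsScalarTower.toAlgHom A B R).toLinearMap
  have hφ : Function.Surjective φ := hsurj
  have hle : LinearMap.ker φ ≤ LinearMap.ker (d : B →ₗ[A] V) := by
    intro b hb
    rw [LinearMap.mem_ker] at hb ⊢
    exact hd b hb
  let l : R →ₗ[A] V := (LinearMap.ker φ).liftQ (d : B →ₗ[A] V) hle ∘ₗ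
    (φ.quotKerEquivOfSurjective hφ).symm.toLinearMap
  have hl : ∀ b, l (algebraMap B R b) = d b := by
    intro b
    have : (φ.quotKerEquivOfSurjective hφ).symm (algebraMap B R b) =
        Submodule.Quotient.mk b := by
      rw [LinearEquiv.symm_apply_eq]
      rfl
    simp only [l, LinearMap.comp_apply, LinearEquiv.coe_coe, this, Submodule.liftQ_apply]
    rfl
  refine ⟨Derivation.mk' l ?_, hl⟩
  intro r r'
  obtain ⟨b, rfl⟩ := hsurj r
  obtain ⟨b', rfl⟩ := hsurj r'
  rw [← map_mul, hl, hl, hl, Derivation.leibniz, algebraMap_smul, algebraMap_smul]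

theorem finrank_fiber_of_rankAtStalk {B R M : Type*} [CommRing B] [CommRing R] [Algebra B R]
    [AddCommGroup M] [Module B M] [Module.Finite B M] [Module.Flat B M] (n : ℕ)
    (hn : ∀ q : PrimeSpectrum B, Module.rankAtStalk M q = n) (p : Ideal R) [p.IsPrime] :
    Module.finrank p.ResidueField (p.ResidueField ⊗[B] M) = n := by
  have h1 : Module.rankAtStalk (R ⊗[B] M) ⟨p, inferInstance⟩ = n := by
    rw [Module.rankAtStalk_baseChange, hn]
  rw [Module.rankAtStalk_eq] at h1
  rw [← h1]
  exact (AlgebraTensorModule.cancelBaseChange B R p.ResidueField p.ResidueField M).symm.finrank_eq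

section

variable (A B R : Type u) [CommRing A] [CommRing B] [CommRing R]
    [Algebra A B] [Algebra B R] [Algebra A R] [IsScalarTower A B R]
    (g : B) (hsurj : Function.Surjective (algebraMap B R))
    (hker : RingHom.ker (algebraMap B R) = Ideal.span {g}) (p : Ideal R) [p.IsPrime]

/-- the natural map on fibres of differentials -/
noncomputable def fiberMap : p.ResidueField ⊗[B] Ω[B⁄A] →ₗ[p.ResidueField] p.ResidueField ⊗[R] Ω[R⁄A] :=
  LinearMap.liftBaseChange p.ResidueField
    (((TensorProduct.mk R p.ResidueField Ω[R⁄A] 1).restrictScalars B) ∘ₗ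
      (KaehlerDifferential.map A A B R))

theorem fiberMap_one_tmul (ω : Ω[B⁄A]) :
    fiberMap A B R p ((1 : p.ResidueField) ⊗ₜ[B] ω) =
      (1 : p.ResidueField) ⊗ₜ[R] KaehlerDifferential.map A A B R ω := by
  simp [fiberMap]

include hsurj in
theorem fiberMap_surjective : Function.Surjective (fiberMap A B R p) := by
  rw [← LinearMap.range_eq_top, eq_top_iff, ← span_one_tmul (R := R) (M := Ω[R⁄A]),
    Submodule.span_le]
  rintro _ ⟨ω', rfl⟩
  obtain ⟨ω, rfl⟩ := KaehlerDifferential.map_surjective_of_surjective A A B R hsurj ω'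
  exact ⟨(1 : p.ResidueField) ⊗ₜ[B] ω, fiberMap_one_tmul A B R p ω⟩

include hsurj in
theorem finrank_lt_of_ne_zero [Module.Finite B Ω[B⁄A]] (n : ℕ)
    (hV : Module.finrank p.ResidueField (p.ResidueField ⊗[B] Ω[B⁄A]) = n)
    (hg0 : algebraMap B R g = 0)
    (hne : (1 : p.ResidueField) ⊗ₜ[B] D A B g ≠ 0) :
    Module.finrank p.ResidueField (p.ResidueField ⊗[R] Ω[R⁄A]) < n := by
  have hk : ((1 : p.ResidueField) ⊗ₜ[B] D A B g) ∈ LinearMap.ker (fiberMap A B R p) := by
    rw [LinearMap.mem_ker, fiberMap_one_tmul, map_D, hg0, map_zero, tmul_zero]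
  have h1 := LinearMap.finrank_range_add_finrank_ker (fiberMap A B R p)
  rw [LinearMap.range_eq_top.mpr (fiberMap_surjective A B R hsurj p), finrank_top, hV] at h1
  have h2 : 0 < Module.finrank p.ResidueField (LinearMap.ker (fiberMap A B R p)) := by
    exact (Module.finrank_pos_iff_exists_ne_zero (R := p.ResidueField)
      (M := LinearMap.ker (fiberMap A B R p))).mpr
      ⟨⟨_, hk⟩, fun h => hne (congrArg Subtype.val h)⟩
  omega

include hsurj hker in
theorem le_finrank_of_eq_zero [Module.Finite R Ω[R⁄A]] (n : ℕ)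
    (hV : Module.finrank p.ResidueField (p.ResidueField ⊗[B] Ω[B⁄A]) = n)
    (h0 : (1 : p.ResidueField) ⊗ₜ[B] D A B g = 0) :
    n ≤ Module.finrank p.ResidueField (p.ResidueField ⊗[R] Ω[R⁄A]) := by
  have hg0 : algebraMap B R g = 0 := by
    rw [← RingHom.mem_ker, hker]; exact Ideal.mem_span_singleton_self g
  let dB : Derivation A B (p.ResidueField ⊗[B] Ω[B⁄A]) :=
    (TensorProduct.mk B p.ResidueField Ω[B⁄A] 1).compDer (D A B)
  have hdB : ∀ b, dB b = (1 : p.ResidueField) ⊗ₜ[B] D A B b := fun b => rfl
  have hgK : algebraMap B p.ResidueField g = 0 := by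
    rw [IsScalarTower.algebraMap_apply B R p.ResidueField, hg0, map_zero]
  have hd : ∀ b ∈ RingHom.ker (algebraMap B R), dB b = 0 := by
    intro b hb
    rw [hker, Ideal.mem_span_singleton'] at hb
    obtain ⟨c, rfl⟩ := hb
    rw [hdB, Derivation.leibniz, tmul_add, tmul_smul, tmul_smul, h0, smul_zero, zero_add,
      TensorProduct.smul_tmul', Algebra.smul_def, mul_one, hgK, zero_tmul]
  obtain ⟨d', hd'⟩ := exists_derivation_of_surjective hsurj dB hd
  let ψ : p.ResidueField ⊗[R] Ω[R⁄A] →ₗ[p.ResidueField] p.ResidueField ⊗[B] Ω[B⁄A] :=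
    LinearMap.liftBaseChange p.ResidueField d'.liftKaehlerDifferential
  have hψ : ∀ b, ψ ((1 : p.ResidueField) ⊗ₜ[R] D A R (algebraMap B R b)) =
      (1 : p.ResidueField) ⊗ₜ[B] D A B b := by
    intro b
    simp [ψ, hd', hdB]
  have hψsurj : Function.Surjective ψ := by
    rw [← LinearMap.range_eq_top, eq_top_iff, ← span_one_tmul (R := B) (M := Ω[B⁄A]),
      Submodule.span_le]
    rintro _ ⟨ω, rfl⟩
    change (1 : p.ResidueField) ⊗ₜ[B] ω ∈ LinearMap.range ψ
    have hω : ω ∈ Submodule.span B (Set.range (D A B)) := by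
      rw [KaehlerDifferential.span_range_derivation]; trivial
    induction hω using Submodule.span_induction with
    | mem w hw =>
      obtain ⟨b, rfl⟩ := hw
      exact ⟨_, hψ b⟩
    | zero => rw [tmul_zero]; exact Submodule.zero_mem _
    | add w w' _ _ h h' => rw [tmul_add]; exact Submodule.add_mem _ h h'
    | smul b w _ h =>
      rw [tmul_smul, ← algebraMap_smul p.ResidueField b]
      exact Submodule.smul_mem _ _ h
  have := LinearMap.finrank_range_le ψ
  rw [LinearMap.range_eq_top.mpr hψsurj, finrank_top, hV] at this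
  exact this

end

theorem isSmoothAt_hypersurface_iff (A B R : Type u) [CommRing A] [CommRing B] [CommRing R]
    [Algebra A B] [Algebra B R] [Algebra A R] [IsScalarTower A B R] [Algebra.Smooth A B]
    (g : B) (hg : IsSMulRegular B g) (hsurj : Function.Surjective (algebraMap B R))
    (hker : RingHom.ker (algebraMap B R) = Ideal.span {g}) (p : Ideal R) [p.IsPrime] :
    Algebra.IsSmoothAt A p ↔ (1 : p.ResidueField) ⊗ₜ[B] D A B g ≠ 0 := by
  set 𝔮 : Ideal B := p.comap (algebraMap B R) with h𝔮
  haveI : p.LiesOver 𝔮 := ⟨rfl⟩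
  letI := Localization.AtPrime.algebraOfLiesOver 𝔮 p
  let T := Localization.AtPrime 𝔮
  let S := Localization.AtPrime p
  have hsurj' : Function.Surjective (algebraMap T S) :=
    RingHom.surjective_localRingHom_of_surjective (algebraMap B R) hsurj p
  have hkerT : RingHom.ker (algebraMap T S) = Ideal.span {algebraMap B T g} := by
    have hT : Submonoid.map (algebraMap B R) 𝔮.primeCompl = p.primeCompl :=
      Submonoid.map_comap_eq_of_surjective hsurj p.primeCompl
    have := IsLocalization.ker_map (S := T) S (algebraMap B R) hT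
    rw [hker, Ideal.map_span, Set.image_singleton] at this
    exact this
  have hg𝔮 : g ∈ 𝔮 := by
    rw [h𝔮, Ideal.mem_comap]
    have : algebraMap B R g = 0 := by
      rw [← RingHom.mem_ker, hker]; exact Ideal.mem_span_singleton_self g
    rw [this]; exact p.zero_mem
  have hgm : algebraMap B T g ∈ maximalIdeal T :=
    (IsLocalization.AtPrime.to_map_mem_maximal_iff T 𝔮 g).mpr hg𝔮
  have hg0 : algebraMap B T g ≠ 0 := by
    intro h0
    obtain ⟨⟨s, hs⟩, hsg⟩ := (IsLocalization.map_eq_zero_iff 𝔮.primeCompl T g).mp h0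
    have : s = 0 := hg (by simpa [mul_comm] using hsg)
    exact hs (this ▸ 𝔮.zero_mem)
  haveI : Algebra.FormallyEtale B T := Algebra.FormallyEtale.of_isLocalization 𝔮.primeCompl
  haveI : Algebra.FormallySmooth A T := Algebra.FormallySmooth.comp A B T
  haveI : Algebra.EssFiniteType B T := Algebra.EssFiniteType.of_isLocalization T 𝔮.primeCompl
  haveI : Algebra.EssFiniteType A T := Algebra.EssFiniteType.comp A B T
  haveI : Module.Free T Ω[T⁄A] := Module.free_of_flat_of_isLocalRing
  have hfg : (RingHom.ker (algebraMap T S)).FG := by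
    rw [hkerT]; exact ⟨{algebraMap B T g}, by simp⟩
  change Algebra.FormallySmooth A S ↔ _
  rw [Algebra.FormallySmooth.iff_injective_cotangentComplexBaseChange_residueField (R := A) (S := S)
    T hsurj' hfg]
  have hsurjκ : Function.Surjective (algebraMap T (ResidueField S)) := by
    rw [IsScalarTower.algebraMap_eq T S (ResidueField S)]
    exact residue_surjective.comp hsurj'
  have hloc : IsLocalHom (algebraMap T S) := Function.Surjective.isLocalHom _ hsurj'
  have hkerκ : RingHom.ker (algebraMap T (ResidueField S)) = maximalIdeal T := by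
    ext x
    rw [RingHom.mem_ker, IsScalarTower.algebraMap_apply T S (ResidueField S)]
    change residue S _ = 0 ↔ _
    rw [residue_eq_zero_iff, mem_maximalIdeal, mem_maximalIdeal, mem_nonunits_iff,
      mem_nonunits_iff, isUnit_map_iff]
  have hconv : (1 : p.ResidueField) ⊗ₜ[B] D A B g = 0 ↔
      D A T (algebraMap B T g) ∈ maximalIdeal T • (⊤ : Submodule T Ω[T⁄A]) := by
    let e₁ : T ⊗[B] Ω[B⁄A] ≃ₗ[T] Ω[T⁄A] := tensorKaehlerEquivOfFormallyEtale A B T
    let e₂ : ResidueField S ⊗[T] (T ⊗[B] Ω[B⁄A]) ≃ₗ[ResidueField S] ResidueField S ⊗[T] Ω[T⁄A] :=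
      e₁.baseChange T (ResidueField S)
    let e₃ : ResidueField S ⊗[T] (T ⊗[B] Ω[B⁄A]) ≃ₗ[ResidueField S] ResidueField S ⊗[B] Ω[B⁄A] :=
      AlgebraTensorModule.cancelBaseChange B T (ResidueField S) (ResidueField S) Ω[B⁄A]
    have he : (e₃.symm.trans e₂) ((1 : ResidueField S) ⊗ₜ[B] D A B g) =
        (1 : ResidueField S) ⊗ₜ[T] D A T (algebraMap B T g) := by
      simp only [LinearEquiv.trans_apply, e₃, e₂, e₁,
        AlgebraTensorModule.cancelBaseChange_symm_tmul, LinearEquiv.baseChange_tmul,
        tensorKaehlerEquivOfFormallyEtale_apply, mapBaseChange_tmul, one_smul, map_D]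
    change (1 : ResidueField S) ⊗ₜ[B] D A B g = 0 ↔ _
    rw [← (e₃.symm.trans e₂).map_eq_zero_iff, he, alg_one_tmul_eq_zero_iff hsurjκ, hkerκ]
  rw [ne_eq, hconv]
  constructor
  · -- smooth ⇒ dg ∉ m Ω
    intro hinj hD
    have hgker : algebraMap B T g ∈ RingHom.ker (algebraMap T S) := by
      rw [hkerT]; exact Ideal.mem_span_singleton_self _
    have h1 : cotangentComplexBaseChange A S T (ResidueField S)
        ((1 : ResidueField S) ⊗ₜ[T] ⟨algebraMap B T g, hgker⟩) = 0 := by
      rw [cotangentComplexBaseChange_tmul]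
      simp only [kerToTensor_apply, one_smul]
      exact (alg_one_tmul_eq_zero_iff hsurjκ _).mpr (by rw [hkerκ]; exact hD)
    have h2 := (injective_iff_map_eq_zero _).mp hinj _ h1
    rw [alg_one_tmul_eq_zero_iff hsurjκ, hkerκ, Submodule.mem_smul_top_iff] at h2
    change algebraMap B T g ∈ maximalIdeal T • RingHom.ker (algebraMap T S) at h2
    rw [hkerT, smul_eq_mul, Ideal.mem_mul_span_singleton] at h2
    obtain ⟨m, hm, hmg⟩ := h2
    have hu : IsUnit (1 - m) := by
      by_contra hnu
      have h1m : 1 - m ∈ maximalIdeal T := (mem_maximalIdeal _).mpr hnu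
      have : (1 : T) ∈ maximalIdeal T := by
        have := Ideal.add_mem _ h1m hm
        simpa using this
      exact (Ideal.ne_top_iff_one _).mp (IsLocalRing.maximalIdeal.isMaximal T).ne_top this
    have h3 : (1 - m) * algebraMap B T g = 0 := by rw [sub_mul, one_mul, hmg, sub_self]
    exact hg0 ((hu.mul_right_eq_zero).mp h3)
  · intro hD
    apply injective_cotangentComplexBaseChange_of_forall hsurj'
    intro f hf hDf
    rw [hkerT, Ideal.mem_span_singleton'] at hf
    obtain ⟨t, rfl⟩ := hf
    by_cases ht : t ∈ maximalIdeal T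
    · rw [hkerT]
      exact Ideal.mul_mem_mul ht (Ideal.mem_span_singleton_self _)
    · exfalso
      apply hD
      have htu : IsUnit t := by
        by_contra hnu
        exact ht ((mem_maximalIdeal t).mpr hnu)
      rw [Derivation.leibniz] at hDf
      have h2 : algebraMap B T g • D A T t ∈ maximalIdeal T • (⊤ : Submodule T Ω[T⁄A]) :=
        Submodule.smul_mem_smul hgm Submodule.mem_top
      have h3 : t • D A T (algebraMap B T g) ∈ maximalIdeal T • (⊤ : Submodule T Ω[T⁄A]) := by
        have := Submodule.sub_mem _ hDf h2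
        simpa using this
      obtain ⟨u, rfl⟩ := htu
      have := Submodule.smul_mem _ (↑u⁻¹ : T) h3
      rwa [smul_smul, Units.inv_mul, one_smul] at this

end Groth.Agent.Lib.Helper65.ExtPowerAnn
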