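import Mathlib

set_option autoImplicit false
set_option linter.style.haveILetI false
universe u
namespace Groth.Agent.Lib.Helper65.FiberRank
open IsLocalRing TensorProduct

/-- Upper semicontinuity of fibre dimension for a finite module, along a specialization. -/
theorem finrank_fiber_le_of_le {A : Type*} [CommRing A] (M : Type*) [AddCommGroup M] [Module A M]
    [Module.Finite A M] (q P : Ideal A) [q.IsPrime] [P.IsPrime] (h : q ≤ P) :
    Module.finrank q.ResidueField (q.ResidueField ⊗[A] M) ≤
      Module.finrank P.ResidueField (P.ResidueField ⊗[A] M) := by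
  classical
  -- choose a basis of κ(P) ⊗ M among the pure tensors 1 ⊗ m
  have hspan : Submodule.span P.ResidueField
      (Set.range fun m : M => (1 : P.ResidueField) ⊗ₜ[A] m) = ⊤ := by
    rw [eq_top_iff]
    rintro x -
    induction x using TensorProduct.induction_on with
    | zero => exact Submodule.zero_mem _
    | tmul a m =>
      have : a ⊗ₜ[A] m = a • ((1 : P.ResidueField) ⊗ₜ[A] m) := by
        rw [TensorProduct.smul_tmul', smul_eq_mul, mul_one]
      rw [this]
      exact Submodule.smul_mem _ _ (Submodule.subset_span ⟨m, rfl⟩)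
    | add x y hx hy => exact Submodule.add_mem _ hx hy
  obtain ⟨b, hb, hbspan, hbli⟩ := exists_linearIndependent P.ResidueField
    (Set.range fun m : M => (1 : P.ResidueField) ⊗ₜ[A] m)
  have hbtop : Submodule.span P.ResidueField b = ⊤ := by rw [hbspan, hspan]
  have hbfin : b.Finite := by
    have := hbli.setFinite
    exact this
  -- lift the basis elements to M
  have hlift : ∀ x : b, ∃ m : M, (1 : P.ResidueField) ⊗ₜ[A] m = (x : P.ResidueField ⊗[A] M) := by
    intro x
    obtain ⟨m, hm⟩ := hb x.2
    exact ⟨m, hm⟩
  choose f hf using hlift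
  haveI : Fintype b := hbfin.fintype
  let N : Submodule A M := Submodule.span A (Set.range f)
  -- κ(P) ⊗ (M/N) = 0
  have hQP : Subsingleton (P.ResidueField ⊗[A] (M ⧸ N)) := by
    have hsurj : Function.Surjective (LinearMap.baseChange P.ResidueField N.mkQ) := by
      have := LinearMap.lTensor_surjective P.ResidueField (Submodule.mkQ_surjective N)
      exact this
    refine ⟨fun x y => ?_⟩
    suffices ∀ z : P.ResidueField ⊗[A] (M ⧸ N), z = 0 by rw [this x, this y]
    intro z
    obtain ⟨w, rfl⟩ := hsurj z
    have hw : w ∈ Submodule.span P.ResidueField b := hbtop ▸ Submodule.mem_top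
    refine Submodule.span_induction ?_ ?_ ?_ ?_ hw
    · intro x hx
      have hx' : x = (1 : P.ResidueField) ⊗ₜ[A] f ⟨x, hx⟩ := (hf ⟨x, hx⟩).symm
      rw [hx', LinearMap.baseChange_tmul]
      have : N.mkQ (f ⟨x, hx⟩) = 0 := by
        rw [Submodule.mkQ_apply, Submodule.Quotient.mk_eq_zero]
        exact Submodule.subset_span ⟨⟨x, hx⟩, rfl⟩
      rw [this, TensorProduct.tmul_zero]
    · exact map_zero _
    · intro x y _ _ hx hy; rw [map_add, hx, hy, add_zero]
    · intro a x _ hx; rw [map_smul, hx, smul_zero]
  -- support argument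
  have hPsupp : (⟨P, inferInstance⟩ : PrimeSpectrum A) ∉ Module.support A (M ⧸ N) := by
    rw [Module.mem_support_iff_nontrivial_residueField_tensorProduct]
    exact not_nontrivial_iff_subsingleton.mpr hQP
  have hqsupp : (⟨q, inferInstance⟩ : PrimeSpectrum A) ∉ Module.support A (M ⧸ N) := by
    intro hq
    exact hPsupp (Module.mem_support_mono h hq)
  have hQq : Subsingleton (q.ResidueField ⊗[A] (M ⧸ N)) := by
    rw [Module.mem_support_iff_nontrivial_residueField_tensorProduct] at hqsupp
    exact not_nontrivial_iff_subsingleton.mp hqsupp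
  -- κ(q) ⊗ M is spanned by the 1 ⊗ f x
  have hspanq : Submodule.span q.ResidueField
      (Set.range fun x : b => (1 : q.ResidueField) ⊗ₜ[A] f x) = ⊤ := by
    rw [eq_top_iff]
    rintro z -
    -- the range of κ(q) ⊗ N → κ(q) ⊗ M is everything
    have hex := lTensor_exact q.ResidueField (LinearMap.exact_subtype_mkQ N)
      (Submodule.mkQ_surjective N)
    have hz : LinearMap.lTensor q.ResidueField N.mkQ z = 0 := Subsingleton.elim _ _
    obtain ⟨w, rfl⟩ := (hex z).mp hz
    clear hz
    induction w using TensorProduct.induction_on with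
    | zero => rw [map_zero]; exact Submodule.zero_mem _
    | tmul a n =>
      rw [LinearMap.lTensor_tmul]
      obtain ⟨n, hn⟩ := n
      refine Submodule.span_induction ?_ ?_ ?_ ?_ hn
      · rintro _ ⟨x, rfl⟩
        have : a ⊗ₜ[A] (f x) = a • ((1 : q.ResidueField) ⊗ₜ[A] f x) := by
          rw [TensorProduct.smul_tmul', smul_eq_mul, mul_one]
        change a ⊗ₜ[A] (f x) ∈ _
        rw [this]
        exact Submodule.smul_mem _ _ (Submodule.subset_span ⟨x, rfl⟩)
      · change a ⊗ₜ[A] (0 : M) ∈ _
        rw [TensorProduct.tmul_zero]; exact Submodule.zero_mem _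
      · intro x y _ _ hx hy
        change a ⊗ₜ[A] (x + y) ∈ _
        rw [TensorProduct.tmul_add]; exact Submodule.add_mem _ hx hy
      · intro r x _ hx
        change a ⊗ₜ[A] (r • x) ∈ _
        rw [TensorProduct.tmul_smul]
        have : r • (a ⊗ₜ[A] x) = (algebraMap A q.ResidueField r) • (a ⊗ₜ[A] x) := by
          rw [algebraMap_smul]
        rw [this]
        exact Submodule.smul_mem _ _ hx
    | add x y hx hy => rw [map_add]; exact Submodule.add_mem _ hx hy
  calc Module.finrank q.ResidueField (q.ResidueField ⊗[A] M)
      ≤ Fintype.card b := by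
        have := finrank_range_le_card (R := q.ResidueField)
          (fun x : b => (1 : q.ResidueField) ⊗ₜ[A] f x)
        rw [Set.finrank, hspanq] at this
        simpa using this
    _ = Module.finrank P.ResidueField (P.ResidueField ⊗[A] M) := by
        have hbasis := Module.Basis.mk (v := (Subtype.val : b → P.ResidueField ⊗[A] M))
          hbli (by rw [Subtype.range_coe]; exact hbtop.ge)
        exact (Module.finrank_eq_card_basis hbasis).symm

end Groth.Agent.Lib.Helper65.FiberRank
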