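import Mathlib
import Groth.Agent.Lib.Lead.Hilbert90

/-!
# Hilbert 90 for `GL_n` over a flat local algebra (helper65, for lead's S20007)
-/

set_option autoImplicit false
set_option linter.style.haveILetI false
universe u
open TensorProduct Groth.Agent.Lib.Lead.Hilbert90

namespace Groth.Agent.Lib.Helper65.Hilbert90Mat

variable {R A : Type u} [CommRing R] [CommRing A] [Algebra R A] {n : ℕ}

/-- The twisted differential `v ↦ (1 ⊗ v i - ∑ k, M i k * (v k ⊗ 1))_i`. -/
noncomputable def ddM (M : Matrix (Fin n) (Fin n) (A ⊗[R] A)) :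
    (Fin n → A) →ₗ[R] (Fin n → A ⊗[R] A) :=
  LinearMap.pi fun i =>
    (Algebra.TensorProduct.includeRight : A →ₐ[R] A ⊗[R] A).toLinearMap ∘ₗ LinearMap.proj i -
      ∑ k, (LinearMap.mulLeft R (M i k)) ∘ₗ
        (Algebra.TensorProduct.includeLeft : A →ₐ[R] A ⊗[R] A).toLinearMap ∘ₗ LinearMap.proj k

theorem ddM_apply (M : Matrix (Fin n) (Fin n) (A ⊗[R] A)) (v : Fin n → A) (i : Fin n) :
    ddM M v i = (1 : A) ⊗ₜ[R] v i - ∑ k, M i k * (v k ⊗ₜ[R] (1 : A)) := by
  simp [ddM]

/-- `x ↦ (single k) ⊗ id` on `A ⊗ A`. -/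
noncomputable def cK (k : Fin n) : A ⊗[R] A →ₗ[R] (Fin n → A) ⊗[R] A :=
  (LinearMap.single R (fun _ : Fin n => A) k).rTensor A

/-- `x ↦ (single i) ⊗ id` on `(A ⊗ A) ⊗ A`. -/
noncomputable def cQ (i : Fin n) : (A ⊗[R] A) ⊗[R] A →ₗ[R] (Fin n → A ⊗[R] A) ⊗[R] A :=
  (LinearMap.single R (fun _ : Fin n => A ⊗[R] A) i).rTensor A

theorem ddM_single (M : Matrix (Fin n) (Fin n) (A ⊗[R] A)) (k : Fin n) (a : A) :
    ddM M (Pi.single k a) =
      Pi.single k ((1 : A) ⊗ₜ[R] a) - ∑ i, Pi.single i (M i k * (a ⊗ₜ[R] (1 : A))) := by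
  ext i
  rw [ddM_apply]
  simp only [Pi.sub_apply, Finset.sum_apply]
  congr 1
  · by_cases h : i = k
    · subst h; simp
    · simp [Pi.single_eq_of_ne h]
  · trans M i k * (a ⊗ₜ[R] (1 : A))
    · rw [Finset.sum_eq_single k]
      · simp
      · intro b _ hb; simp [Pi.single_eq_of_ne hb]
      · simp
    · symm
      rw [Finset.sum_eq_single i]
      · simp
      · intro b _ hb; simp [Pi.single_eq_of_ne (Ne.symm hb)]
      · simp

theorem rTensor_ddM (M : Matrix (Fin n) (Fin n) (A ⊗[R] A)) (k : Fin n) (x : A ⊗[R] A) :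
    (ddM M).rTensor A (cK k x) =
      cQ k (J23 R A x) - ∑ i, cQ i (J12 R A (M i k) * J13 R A x) := by
  induction x using TensorProduct.induction_on with
  | zero => simp
  | add x y hx hy =>
    simp only [map_add, hx, hy, mul_add, Finset.sum_add_distrib]; abel
  | tmul a b =>
    simp only [cK, cQ, LinearMap.rTensor_tmul, LinearMap.coe_single, ddM_single,
      TensorProduct.sub_tmul, TensorProduct.sum_tmul]
    congr 1
    refine Finset.sum_congr rfl fun i _ => ?_
    have : J12 R A (M i k) * J13 R A (a ⊗ₜ[R] b) = (M i k * (a ⊗ₜ[R] (1 : A))) ⊗ₜ[R] b := by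
      simp [J12, J13, Algebra.TensorProduct.tmul_mul_tmul]
    rw [this, LinearMap.rTensor_tmul, LinearMap.coe_single]

/-- `v ⊗ a ↦ a • v`. -/
noncomputable def mult : (Fin n → A) ⊗[R] A →ₗ[R] (Fin n → A) :=
  TensorProduct.lift (LinearMap.mk₂ R (fun (v : Fin n → A) (a : A) => a • v)
    (fun v v' a => smul_add a v v') (fun c v a => smul_comm a c v)
    (fun v a a' => add_smul a a' v) (fun c v a => smul_assoc c a v))

theorem mult_tmul (v : Fin n → A) (a : A) : mult (v ⊗ₜ[R] a) = a • v := rfl

theorem mult_cK (k : Fin n) (x : A ⊗[R] A) :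
    mult (cK k x) = Pi.single k (Algebra.TensorProduct.lmul' R x) := by
  induction x using TensorProduct.induction_on with
  | zero => simp
  | add x y hx hy => simp only [map_add, hx, hy, Pi.single_add]
  | tmul a b =>
    rw [cK, LinearMap.rTensor_tmul, LinearMap.coe_single, mult_tmul,
      Algebra.TensorProduct.lmul'_apply_tmul]
    ext i
    by_cases h : i = k
    · subst h; simp [mul_comm]
    · simp [Pi.single_eq_of_ne h]

theorem mult_mem (K : Submodule R (Fin n → A)) (z : K ⊗[R] A) :
    mult (K.subtype.rTensor A z) ∈ Submodule.span A (K : Set (Fin n → A)) := by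
  induction z using TensorProduct.induction_on with
  | zero => simp
  | add x y hx hy => simp only [map_add]; exact Submodule.add_mem _ hx hy
  | tmul m a =>
    rw [LinearMap.rTensor_tmul, mult_tmul]
    exact Submodule.smul_mem _ a (Submodule.subset_span m.2)

theorem m12_comp_J23 : (m12 R A).toRingHom.comp (J23 R A).toRingHom = RingHom.id _ := by
  have : (m12 R A).comp (J23 R A) = AlgHom.id R (A ⊗[R] A) := by
    ext a
    · simp [m12, J23]
    · simp [m12, J23]
  exact congrArg AlgHom.toRingHom this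

theorem m12_comp_J13 : (m12 R A).toRingHom.comp (J13 R A).toRingHom = RingHom.id _ := by
  have : (m12 R A).comp (J13 R A) = AlgHom.id R (A ⊗[R] A) := by
    ext a
    · simp [m12, J13]
    · simp [m12, J13]
  exact congrArg AlgHom.toRingHom this

theorem m12_comp_J12 : (m12 R A).toRingHom.comp (J12 R A).toRingHom =
    (Algebra.TensorProduct.includeLeft : A →ₐ[R] A ⊗[R] A).toRingHom.comp
      (Algebra.TensorProduct.lmul' R : A ⊗[R] A →ₐ[R] A).toRingHom := by
  have : (m12 R A).comp (J12 R A) =
      (Algebra.TensorProduct.includeLeft : A →ₐ[R] A ⊗[R] A).comp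
        (Algebra.TensorProduct.lmul' R : A ⊗[R] A →ₐ[R] A) := by
    ext a
    · simp [m12, J12]
    · simp [m12, J12]
  exact congrArg AlgHom.toRingHom this

theorem lmul'_comp_includeLeft :
    (Algebra.TensorProduct.lmul' R : A ⊗[R] A →ₐ[R] A).toRingHom.comp
      (Algebra.TensorProduct.includeLeft : A →ₐ[R] A ⊗[R] A).toRingHom = RingHom.id A := by
  ext a; simp

theorem mapMatrix_lmul'_eq_one (M N : Matrix (Fin n) (Fin n) (A ⊗[R] A)) (hNM : N * M = 1)
    (hcoc : (J23 R A).toRingHom.mapMatrix M * (J12 R A).toRingHom.mapMatrix M =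
      (J13 R A).toRingHom.mapMatrix M) :
    (Algebra.TensorProduct.lmul' R : A ⊗[R] A →ₐ[R] A).toRingHom.mapMatrix M = 1 := by
  have h1 : (m12 R A).toRingHom.mapMatrix ((J23 R A).toRingHom.mapMatrix M) = M := by
    rw [← RingHom.comp_apply, RingHom.mapMatrix_comp, m12_comp_J23, RingHom.mapMatrix_id]; rfl
  have h2 : (m12 R A).toRingHom.mapMatrix ((J13 R A).toRingHom.mapMatrix M) = M := by
    rw [← RingHom.comp_apply, RingHom.mapMatrix_comp, m12_comp_J13, RingHom.mapMatrix_id]; rfl
  have h3 : (m12 R A).toRingHom.mapMatrix ((J12 R A).toRingHom.mapMatrix M) =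
      (Algebra.TensorProduct.includeLeft : A →ₐ[R] A ⊗[R] A).toRingHom.mapMatrix
        ((Algebra.TensorProduct.lmul' R : A ⊗[R] A →ₐ[R] A).toRingHom.mapMatrix M) := by
    rw [← RingHom.comp_apply, RingHom.mapMatrix_comp, m12_comp_J12, ← RingHom.mapMatrix_comp]; rfl
  have h4 := congrArg ((m12 R A).toRingHom.mapMatrix (m := Fin n)) hcoc
  rw [map_mul, h1, h2, h3] at h4
  have h5 : (Algebra.TensorProduct.includeLeft : A →ₐ[R] A ⊗[R] A).toRingHom.mapMatrix
      ((Algebra.TensorProduct.lmul' R : A ⊗[R] A →ₐ[R] A).toRingHom.mapMatrix M) = 1 := by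
    have := congrArg (fun X => N * X) h4
    simp only [← Matrix.mul_assoc, hNM, Matrix.one_mul] at this
    exact this
  have h6 := congrArg
    ((Algebra.TensorProduct.lmul' R : A ⊗[R] A →ₐ[R] A).toRingHom.mapMatrix (m := Fin n)) h5
  rw [← RingHom.comp_apply, RingHom.mapMatrix_comp, lmul'_comp_includeLeft, RingHom.mapMatrix_id,
    map_one] at h6
  exact h6

theorem span_ker_eq_top [Module.Flat R A] (M N : Matrix (Fin n) (Fin n) (A ⊗[R] A))
    (hMN : M * N = 1)
    (hcoc : (J23 R A).toRingHom.mapMatrix M * (J12 R A).toRingHom.mapMatrix M =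
      (J13 R A).toRingHom.mapMatrix M) :
    Submodule.span A ((LinearMap.ker (ddM M) : Submodule R (Fin n → A)) : Set (Fin n → A)) = ⊤ := by
  classical
  have hNM : N * M = 1 := _root_.mul_eq_one_comm.mp hMN
  -- `μ N = 1`
  have hμM := mapMatrix_lmul'_eq_one M N hNM hcoc
  have hμN : (Algebra.TensorProduct.lmul' R : A ⊗[R] A →ₐ[R] A).toRingHom.mapMatrix N = 1 := by
    have := congrArg
      ((Algebra.TensorProduct.lmul' R : A ⊗[R] A →ₐ[R] A).toRingHom.mapMatrix (m := Fin n)) hMN
    rw [map_mul, hμM, Matrix.one_mul, map_one] at this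
    exact this
  -- the cocycle identity for `N`
  have hN : (J23 R A).toRingHom.mapMatrix N =
      (J12 R A).toRingHom.mapMatrix M * (J13 R A).toRingHom.mapMatrix N := by
    have e1 : (J23 R A).toRingHom.mapMatrix N * (J23 R A).toRingHom.mapMatrix M = 1 := by
      rw [← map_mul, hNM, map_one]
    have e2 : (J13 R A).toRingHom.mapMatrix M * (J13 R A).toRingHom.mapMatrix N = 1 := by
      rw [← map_mul, hMN, map_one]
    calc (J23 R A).toRingHom.mapMatrix N
        = (J23 R A).toRingHom.mapMatrix N * ((J13 R A).toRingHom.mapMatrix M *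
            (J13 R A).toRingHom.mapMatrix N) := by rw [e2, Matrix.mul_one]
      _ = (J23 R A).toRingHom.mapMatrix N * (((J23 R A).toRingHom.mapMatrix M *
            (J12 R A).toRingHom.mapMatrix M) * (J13 R A).toRingHom.mapMatrix N) := by rw [hcoc]
      _ = ((J23 R A).toRingHom.mapMatrix N * (J23 R A).toRingHom.mapMatrix M) *
            ((J12 R A).toRingHom.mapMatrix M * (J13 R A).toRingHom.mapMatrix N) := by
          simp only [Matrix.mul_assoc]
      _ = _ := by rw [e1, Matrix.one_mul]
  set K := LinearMap.ker (ddM M) with hK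
  have hex : Function.Exact (K.subtype.rTensor A) ((ddM M).rTensor A) :=
    Module.Flat.rTensor_exact A (LinearMap.exact_subtype_ker_map (ddM M))
  -- each basis vector lies in the span
  have hmem : ∀ j : Fin n, (Pi.single j (1 : A) : Fin n → A) ∈
      Submodule.span A (K : Set (Fin n → A)) := by
    intro j
    set x : (Fin n → A) ⊗[R] A := ∑ k, cK k (N k j) with hx
    have hx0 : (ddM M).rTensor A x = 0 := by
      rw [hx, map_sum]
      simp only [rTensor_ddM]
      rw [Finset.sum_sub_distrib, Finset.sum_comm, ← Finset.sum_sub_distrib]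
      refine Finset.sum_eq_zero fun i _ => ?_
      rw [← map_sum, ← map_sub]
      have : J23 R A (N i j) - ∑ k, J12 R A (M i k) * J13 R A (N k j) = 0 := by
        have := congrFun (congrFun hN i) j
        simp only [RingHom.mapMatrix_apply, Matrix.map_apply, Matrix.mul_apply] at this
        rw [sub_eq_zero]; exact this
      rw [this, map_zero]
    obtain ⟨z, hz⟩ := (hex x).mp hx0
    have hmx : mult x = Pi.single j (1 : A) := by
      rw [hx, map_sum]
      simp only [mult_cK]
      have : ∀ k, Algebra.TensorProduct.lmul' R (N k j) = (1 : Matrix (Fin n) (Fin n) A) k j := by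
        intro k
        have := congrFun (congrFun hμN k) j
        simpa [RingHom.mapMatrix_apply, Matrix.map_apply] using this
      simp only [this]
      ext i
      simp only [Finset.sum_apply]
      rw [Finset.sum_eq_single j]
      · simp
      · intro b _ hb; simp [Matrix.one_apply_ne hb]
      · simp
    rw [← hmx, ← hz]
    exact mult_mem K z
  rw [eq_top_iff]
  intro v _
  have hv : v = ∑ j, v j • (Pi.single j (1 : A) : Fin n → A) := by
    ext i
    simp only [Finset.sum_apply, Pi.smul_apply, smul_eq_mul]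
    rw [Finset.sum_eq_single i]
    · simp
    · intro b _ hb; simp [Pi.single_eq_of_ne (Ne.symm hb)]
    · simp
  rw [hv]
  exact Submodule.sum_mem _ fun j _ => Submodule.smul_mem _ _ (hmem j)

/-- Over a local ring, a set of vectors spanning `A^n` contains the columns of an invertible
matrix. -/
theorem exists_matrix_of_span_eq_top [IsLocalRing A] (T : Set (Fin n → A))
    (hT : Submodule.span A T = ⊤) :
    ∃ v : Fin n → (Fin n → A), (∀ j, v j ∈ T) ∧
      IsUnit (Matrix.of (fun i j => v j i) : Matrix (Fin n) (Fin n) A).det := by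
  classical
  let κ := IsLocalRing.ResidueField A
  let π : (Fin n → A) →ₗ[A] (Fin n → κ) := (Algebra.linearMap A κ).compLeft (Fin n)
  have hπ : ∀ v i, π v i = IsLocalRing.residue A (v i) := fun v i => rfl
  have hπs : Function.Surjective π := by
    intro w
    choose f hf using fun i => IsLocalRing.residue_surjective (w i)
    exact ⟨f, funext fun i => (hπ f i).trans (hf i)⟩
  -- the images span
  have hspan : Submodule.span κ (π '' T) = ⊤ := by
    rw [eq_top_iff]
    intro w _
    obtain ⟨v, rfl⟩ := hπs w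
    have hv : v ∈ Submodule.span A T := by rw [hT]; trivial
    have h1 : π v ∈ Submodule.map π (Submodule.span A T) := Submodule.mem_map_of_mem hv
    rw [Submodule.map_span] at h1
    exact Submodule.span_le_restrictScalars A κ (π '' T) h1
  obtain ⟨b, hbT, hbspan, hbli⟩ := exists_linearIndependent κ (π '' T)
  rw [hspan] at hbspan
  let B : Module.Basis b κ (Fin n → κ) := Module.Basis.mk hbli (by rw [Subtype.range_coe]; exact hbspan.ge)
  haveI : Finite b := Module.Finite.finite_basis B
  haveI : Fintype b := Fintype.ofFinite b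
  have hcard : Fintype.card b = n := by
    rw [← Module.finrank_eq_card_basis B, Module.finrank_fin_fun]
  let e : b ≃ Fin n := Fintype.equivFinOfCardEq hcard
  let g : Fin n → (Fin n → κ) := fun j => ((e.symm j : b) : Fin n → κ)
  have hg : LinearIndependent κ g := hbli.comp e.symm e.symm.injective
  have hgT : ∀ j, ∃ v ∈ T, π v = g j := fun j => hbT (e.symm j).2
  choose v hvT hvg using hgT
  refine ⟨v, hvT, ?_⟩
  let G : Matrix (Fin n) (Fin n) κ := Matrix.of (fun i j => g j i)
  have hGu : IsUnit G := by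
    rw [← Matrix.linearIndependent_cols_iff_isUnit]
    exact hg
  have hGdet : IsUnit G.det := (Matrix.isUnit_iff_isUnit_det G).mp hGu
  have hmap : (IsLocalRing.residue A).mapMatrix (Matrix.of (fun i j => v j i)) = G := by
    ext i j
    simp only [RingHom.mapMatrix_apply, Matrix.map_apply, Matrix.of_apply, G]
    rw [← hvg j]
    exact (hπ (v j) i).symm
  have hdet : IsLocalRing.residue A (Matrix.of (fun i j => v j i) : Matrix (Fin n) (Fin n) A).det
      = G.det := by
    rw [RingHom.map_det, hmap]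
  rw [← hdet] at hGdet
  exact isUnit_of_map_unit (IsLocalRing.residue A) _ hGdet

/-- Hilbert 90 for `GL_n`: a matrix cocycle of a flat local algebra is a coboundary. -/
theorem exists_matrix {R A : Type u} [CommRing R] [CommRing A] [Algebra R A] [Module.Flat R A]
    [IsLocalRing A] (n : ℕ) (M N : Matrix (Fin n) (Fin n) (A ⊗[R] A)) (hMN : M * N = 1)
    (hcoc : (J23 R A).toRingHom.mapMatrix M * (J12 R A).toRingHom.mapMatrix M =
      (J13 R A).toRingHom.mapMatrix M) :
    ∃ h h' : Matrix (Fin n) (Fin n) A, h * h' = 1 ∧ h' * h = 1 ∧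
      (Algebra.TensorProduct.includeRight : A →ₐ[R] A ⊗[R] A).toRingHom.mapMatrix h =
        M * (Algebra.TensorProduct.includeLeft : A →ₐ[R] A ⊗[R] A).toRingHom.mapMatrix h := by
  classical
  obtain ⟨v, hvK, hdet⟩ := exists_matrix_of_span_eq_top _ (span_ker_eq_top M N hMN hcoc)
  refine ⟨Matrix.of (fun i j => v j i), (Matrix.of (fun i j => v j i))⁻¹,
    Matrix.mul_nonsing_inv _ hdet, Matrix.nonsing_inv_mul _ hdet, ?_⟩
  ext i j
  have h1 : ddM M (v j) i = 0 := by
    have : ddM M (v j) = 0 := hvK j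
    rw [this]; rfl
  rw [ddM_apply, sub_eq_zero] at h1
  simp only [RingHom.mapMatrix_apply, Matrix.map_apply, Matrix.of_apply, Matrix.mul_apply]
  exact h1

end Groth.Agent.Lib.Helper65.Hilbert90Mat
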