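import Mathlib
import Groth.Agent.Lib.Helper30.SmoothRegular
import Groth.Agent.Lib.Helper76.RegularLocal

/-!
# Local rings of algebras smooth over a regular ring are domains (helper65)
-/

universe u
open IsLocalRing

namespace Groth.Agent.Lib.Helper65.JacobiDomain

theorem isDomain_localization_of_isSmoothAt (R B : Type u) [CommRing R] [CommRing B] [Algebra R B]
    [IsRegularRing R] [Algebra.FinitePresentation R B] (𝔓 : Ideal B) [𝔓.IsPrime]
    (h : Algebra.IsSmoothAt R 𝔓) : IsDomain (Localization.AtPrime 𝔓) := by
  haveI : Algebra.IsSmoothAt R 𝔓 := h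
  obtain ⟨f, hf, hsm⟩ := Algebra.IsSmoothAt.exists_notMem_smooth R 𝔓
  let S' := Localization.Away f
  let q' := 𝔓.map (algebraMap B S')
  have disj : Disjoint (Submonoid.powers f : Set B) (𝔓 : Set B) :=
    (Ideal.disjoint_powers_iff_notMem_of_isPrime _).mpr hf
  have : q'.IsPrime := IsLocalization.isPrime_of_isPrime_disjoint (.powers f) _ _ ‹_› disj
  have hcomap : q'.comap (algebraMap B S') = 𝔓 :=
    IsLocalization.under_map_of_isPrime_disjoint (.powers f) _ ‹_› disj
  have : IsLocalization.AtPrime (Localization.AtPrime q') 𝔓 := by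
    convert IsLocalization.isLocalization_isLocalization_atPrime_isLocalization (.powers f)
      (Localization.AtPrime q') q'
    exact hcomap.symm
  have hreg : IsRegularLocalRing (Localization.AtPrime q') :=
    Groth.Agent.Lib.Helper30.SmoothRegular.regular_of_smooth R S' q' inferInstance
  haveI : IsDomain (Localization.AtPrime q') :=
    Groth.Agent.Lib.Helper76.isDomain_of_isRegularLocalRing _
  exact MulEquiv.isDomain (Localization.AtPrime q')
    (IsLocalization.algEquiv 𝔓.primeCompl (Localization.AtPrime 𝔓)
      (Localization.AtPrime q')).toRingEquiv.toMulEquiv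


end Groth.Agent.Lib.Helper65.JacobiDomain
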