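import Mathlib

/-!
# Jacobian criterion at a field-valued point (helper65)

* `isSmoothAt_iff_injective`: for a surjection `P → A` from a formally smooth `R`-algebra with finite
  free differentials and finitely generated kernel `I`, and a field-valued point `A → K` with kernel
  `𝔭`, `A` is smooth over `R` at `𝔭` iff `K ⊗ I → K ⊗ Ω[P/R]` is injective.
* `exists_smul_eq_zero_of_subsingleton`: a finite module with `L ⊗ Q = 0` is killed locally at the point.
-/

universe u
open TensorProduct KaehlerDifferential IsLocalRing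

namespace Groth.Agent.Lib.Helper65.JacobiPoint

set_option backward.isDefEq.respectTransparency false in
/-- Jacobian criterion at a prime given by a field-valued point. -/
theorem isSmoothAt_iff_injective (R P A K : Type u) [CommRing R] [CommRing P] [CommRing A] [Field K]
    [Algebra R P] [Algebra R A] [Algebra P A] [IsScalarTower R P A]
    [Algebra A K] [Algebra P K] [IsScalarTower P A K]
    [Algebra.FormallySmooth R P] [Module.Projective P Ω[P⁄R]] [Module.Finite P Ω[P⁄R]]
    (h₁ : Function.Surjective (algebraMap P A)) (h₂ : (RingHom.ker (algebraMap P A)).FG)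
    (𝔭 : Ideal A) [𝔭.IsPrime] (h𝔭 : RingHom.ker (algebraMap A K) = 𝔭) :
    Algebra.IsSmoothAt R 𝔭 ↔
      Function.Injective (KaehlerDifferential.cotangentComplexBaseChange R A P K) := by
  let M : Submonoid A := 𝔭.primeCompl
  let M' : Submonoid P := M.comap (algebraMap P A)
  let S := Localization.AtPrime 𝔭
  let P' := Localization M'
  let f₀ : P →ₐ[R] A := IsScalarTower.toAlgHom R P A
  have hf₀ : Function.Surjective f₀ := h₁
  let fP : P' →ₐ[R] S := IsLocalization.liftAlgHom (M := M')
      (f := (IsScalarTower.toAlgHom R A S).comp f₀) fun x ↦ by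
    simpa using IsLocalization.map_units (M := M) _ ⟨f₀ x.1, x.2⟩
  have hf₁ : Function.Surjective fP := by
    intro x
    obtain ⟨x, ⟨s, hs⟩, rfl⟩ := IsLocalization.exists_mk'_eq M x
    obtain ⟨x, rfl⟩ := hf₀ x
    obtain ⟨s, rfl⟩ := hf₀ s
    refine ⟨IsLocalization.mk' (M := M') _ x ⟨s, hs⟩, ?_⟩
    simp [fP, IsLocalization.lift_mk', Units.mul_inv_eq_iff_eq_mul, IsUnit.liftRight]
  have hkerfP : RingHom.ker fP = (RingHom.ker f₀).map (algebraMap P P') := by
    refine le_antisymm ?_ (Ideal.map_le_iff_le_comap.mpr fun x hx ↦ by simp_all [fP])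
    intro x hx
    obtain ⟨x, s, rfl⟩ := IsLocalization.exists_mk'_eq M' x
    obtain ⟨a, ha, e⟩ : ∃ a ∈ M, a * f₀ x = 0 := by
      simpa [fP, IsLocalization.lift_mk', IsLocalization.map_eq_zero_iff M] using hx
    obtain ⟨a, rfl⟩ := hf₀ a
    rw [IsLocalization.mk'_mem_map_algebraMap_iff]
    exact ⟨a, ha, by simpa⟩
  have hfP : (RingHom.ker fP).FG := by
    rw [hkerfP]
    exact h₂.map _
  have hunit : ∀ y : M, IsUnit (algebraMap A K y) := fun y => by
    rw [isUnit_iff_ne_zero]
    intro h0
    exact y.2 (h𝔭 ▸ (RingHom.mem_ker.mpr h0))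
  let ψ : S →+* K := IsLocalization.lift (M := M) hunit
  algebraize [fP.toRingHom, ψ, ψ.comp fP.toRingHom]
  have : IsScalarTower R P' S := .of_algebraMap_eq' fP.comp_algebraMap.symm
  have : IsScalarTower A S K := .of_algebraMap_eq' (IsLocalization.lift_comp (M := M) hunit).symm
  have : IsScalarTower P' S K := .of_algebraMap_eq' rfl
  have : IsScalarTower P P' S := .of_algebraMap_eq' (by
    ext x
    simp [RingHom.algebraMap_toAlgebra, fP, f₀, IsScalarTower.algebraMap_apply P A S])
  have : IsScalarTower P P' K := .of_algebraMap_eq' (by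
    ext x
    rw [IsScalarTower.algebraMap_apply P A K, IsScalarTower.algebraMap_apply A S K,
      ← IsScalarTower.algebraMap_apply P A S, IsScalarTower.algebraMap_apply P P' S]
    rfl)
  have : Algebra.FormallyEtale P P' := .of_isLocalization M'
  have : Algebra.FormallySmooth R P' := .comp _ P _
  let e₀ := KaehlerDifferential.tensorKaehlerEquivOfFormallyEtale R P P'
  haveI : IsLocalRing P' := by
    have h := Localization.AtPrime.isLocalRing (𝔭.comap (algebraMap P A))
    exact h
  have : Module.Finite P' Ω[P'⁄R] := .of_surjective e₀.toLinearMap e₀.surjective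
  haveI : Module.Projective P' (P' ⊗[P] Ω[P⁄R]) := inferInstance
  haveI : Module.Projective P' Ω[P'⁄R] := Module.Projective.of_equiv e₀
  have : Module.Free P' Ω[P'⁄R] := Module.free_of_flat_of_isLocalRing
  have h₃ : maximalIdeal S ≤ RingHom.ker (algebraMap S K) := by
    intro x hx
    obtain ⟨a, s, rfl⟩ := IsLocalization.exists_mk'_eq M x
    have ha : a ∈ 𝔭 := by
      by_contra ha
      exact hx (by
        show IsUnit _
        exact (IsLocalization.AtPrime.isUnit_mk'_iff S 𝔭 a s).mpr ha)
    rw [RingHom.mem_ker, RingHom.algebraMap_toAlgebra, IsLocalization.lift_mk']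
    rw [← h𝔭, RingHom.mem_ker] at ha
    simp [ha]
  have key := Algebra.FormallySmooth.iff_injective_cotangentComplexBaseChange (R := R) (S := S)
    P' K hf₁ hfP h₃
  let I : Ideal P := RingHom.ker (algebraMap P A)
  let I' : Ideal P' := RingHom.ker (algebraMap P' S)
  let loc : Submodule P' P' := Submodule.localized' P' M' (Algebra.linearMap P P') I
  let tl : I →ₗ[P] loc := Submodule.toLocalized' P' M' (Algebra.linearMap P P') I
  have hbc : IsBaseChange P' tl := IsLocalizedModule.isBaseChange M' P' tl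
  have hloc : loc = I' := by
    show Submodule.localized' P' M' (Algebra.linearMap P P') I = I'
    rw [Ideal.localized'_eq_map]
    exact hkerfP.symm
  let e₁' : P' ⊗[P] I ≃ₗ[P'] I' := hbc.equiv ≪≫ₗ LinearEquiv.ofEq _ _ hloc
  let eₗ' : K ⊗[P] I ≃ₗ[K] K ⊗[P'] I' :=
    (AlgebraTensorModule.cancelBaseChange P P' K K I).symm ≪≫ₗ
      AlgebraTensorModule.congr (LinearEquiv.refl K K) e₁'
  let eᵣ : K ⊗[P'] Ω[P'⁄R] ≃ₗ[K] K ⊗[P] Ω[P⁄R] :=
    AlgebraTensorModule.congr (LinearEquiv.refl K K) e₀.symm ≪≫ₗ
      AlgebraTensorModule.cancelBaseChange P P' K K Ω[P⁄R]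
  have comm : ∀ z : K ⊗[P] I, eᵣ (KaehlerDifferential.cotangentComplexBaseChange R S P' K (eₗ' z)) =
      KaehlerDifferential.cotangentComplexBaseChange R A P K z := by
    intro z
    induction z using TensorProduct.induction_on with
    | zero => simp
    | add x y hx hy => simp only [map_add, hx, hy]
    | tmul k x =>
      have h1 : eₗ' (k ⊗ₜ x) = k ⊗ₜ (⟨algebraMap P P' x.1, by
          show algebraMap P P' x.1 ∈ RingHom.ker fP
          rw [hkerfP]; exact Ideal.mem_map_of_mem _ x.2⟩ : I') := by
        simp only [eₗ', LinearEquiv.trans_apply, AlgebraTensorModule.cancelBaseChange_symm_tmul,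
          AlgebraTensorModule.congr_tmul, LinearEquiv.refl_apply]
        congr 1
        apply Subtype.ext
        simp only [e₁', LinearEquiv.trans_apply, IsBaseChange.equiv_tmul, one_smul,
          LinearEquiv.coe_ofEq_apply]
        rfl
      rw [h1, KaehlerDifferential.cotangentComplexBaseChange_tmul,
        KaehlerDifferential.cotangentComplexBaseChange_tmul, map_smul]
      congr 1
      simp only [kerToTensor_apply, eᵣ, LinearEquiv.trans_apply, AlgebraTensorModule.congr_tmul,
        LinearEquiv.refl_apply]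
      rw [tensorKaehlerEquivOfFormallyEtale_symm_D_algebraMap]
      simp
  show Algebra.FormallySmooth R S ↔ _
  rw [key]
  constructor
  · intro h x y hxy
    apply eₗ'.injective
    apply h
    apply eᵣ.injective
    rw [comm, comm, hxy]
  · intro h x y hxy
    obtain ⟨x, rfl⟩ := eₗ'.surjective x
    obtain ⟨y, rfl⟩ := eₗ'.surjective y
    have := congrArg eᵣ hxy
    rw [comm, comm] at this
    rw [h this]


/-- If `L ⊗ Q = 0` for a finite module `Q` and a field-valued point `L`, then every element of `Q`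
is killed by something nonvanishing at the point. -/
theorem exists_smul_eq_zero_of_subsingleton (P L Q : Type u) [CommRing P] [Field L] [Algebra P L]
    [AddCommGroup Q] [Module P Q] [Module.Finite P Q] (h : Subsingleton (L ⊗[P] Q)) (q : Q) :
    ∃ s : P, algebraMap P L s ≠ 0 ∧ s • q = 0 := by
  let 𝔮 : Ideal P := RingHom.ker (algebraMap P L)
  have : 𝔮.IsPrime := RingHom.ker_isPrime _
  let p : PrimeSpectrum P := ⟨𝔮, inferInstance⟩
  have hp : p ∉ Module.support P Q := by
    rw [Module.mem_support_iff_nontrivial_residueField_tensorProduct]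
    intro hnt
    let κ := 𝔮.ResidueField
    let φ : κ →ₐ[P] L := Ideal.ResidueField.liftₐ 𝔮 (Algebra.ofId P L) le_rfl (by
      intro x hx
      show IsUnit (algebraMap P L x)
      rw [isUnit_iff_ne_zero]
      exact fun h0 => hx (RingHom.mem_ker.mpr h0))
    letI : Algebra κ L := φ.toRingHom.toAlgebra
    haveI : IsScalarTower P κ L := .of_algebraMap_eq' φ.comp_algebraMap.symm
    haveI : Nontrivial (κ ⊗[P] Q) := hnt
    haveI : Nontrivial (L ⊗[κ] (κ ⊗[P] Q)) := inferInstance
    have e := AlgebraTensorModule.cancelBaseChange P κ L L Q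
    haveI : Subsingleton (L ⊗[κ] (κ ⊗[P] Q)) := e.toEquiv.subsingleton
    exact not_subsingleton (L ⊗[κ] (κ ⊗[P] Q)) inferInstance
  rw [Module.notMem_support_iff'] at hp
  obtain ⟨s, hs, hsq⟩ := hp q
  exact ⟨s, fun h0 => hs (RingHom.mem_ker.mpr h0), hsq⟩


theorem isSmoothAt_of_linearIndependent (R P A K : Type u) [CommRing R] [CommRing P] [CommRing A]
    [Field K] [Algebra R P] [Algebra R A] [Algebra P A] [IsScalarTower R P A]
    [Algebra A K] [Algebra P K] [IsScalarTower P A K]
    [Algebra.FormallySmooth R P] [Module.Projective P Ω[P⁄R]] [Module.Finite P Ω[P⁄R]]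
    (h₁ : Function.Surjective (algebraMap P A)) (h₂ : (RingHom.ker (algebraMap P A)).FG)
    (𝔭 : Ideal A) [𝔭.IsPrime] (h𝔭 : RingHom.ker (algebraMap A K) = 𝔭)
    {c : ℕ} (f : Fin c → P) (hfI : ∀ i, f i ∈ RingHom.ker (algebraMap P A))
    (hspan : ∀ x ∈ RingHom.ker (algebraMap P A), ∃ t : P, algebraMap P K t ≠ 0 ∧
      t * x ∈ Ideal.span (Set.range f))
    (hli : LinearIndependent K (fun i => (1 : K) ⊗ₜ[P] D R P (f i))) :
    Algebra.IsSmoothAt R 𝔭 := by
  rw [isSmoothAt_iff_injective R P A K h₁ h₂ 𝔭 h𝔭]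
  set δ := KaehlerDifferential.cotangentComplexBaseChange R A P K with hδ
  let I : Ideal P := RingHom.ker (algebraMap P A)
  let e : Fin c → K ⊗[P] I := fun i => (1 : K) ⊗ₜ[P] (⟨f i, hfI i⟩ : I)
  have hδe : ∀ i, δ (e i) = (1 : K) ⊗ₜ[P] D R P (f i) := by
    intro i
    show KaehlerDifferential.cotangentComplexBaseChange R A P K _ = _
    rw [KaehlerDifferential.cotangentComplexBaseChange_tmul, one_smul, kerToTensor_apply]
  have hsp : ∀ z : K ⊗[P] I, z ∈ Submodule.span K (Set.range e) := by
    intro z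
    induction z using TensorProduct.induction_on with
    | zero => exact Submodule.zero_mem _
    | add x y hx hy => exact Submodule.add_mem _ hx hy
    | tmul k x =>
      obtain ⟨t, ht, htx⟩ := hspan x.1 x.2
      obtain ⟨a, ha⟩ := (Ideal.mem_span_range_iff_exists_fun).mp htx
      have h1 : (algebraMap P K t) • ((1 : K) ⊗ₜ[P] x) = ∑ i, (algebraMap P K (a i)) • e i := by
        have hx' : t • x = ∑ i, a i • (⟨f i, hfI i⟩ : I) := by
          apply Subtype.ext
          simp only [Submodule.coe_smul_of_tower, smul_eq_mul, AddSubmonoidClass.coe_finsetSum,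
            Submodule.coe_sum]
          exact ha.symm
        calc (algebraMap P K t) • ((1 : K) ⊗ₜ[P] x) = (t • (1 : K)) ⊗ₜ[P] x := by
              rw [TensorProduct.smul_tmul', smul_eq_mul, mul_one, Algebra.algebraMap_eq_smul_one]
          _ = (1 : K) ⊗ₜ[P] (t • x) := by rw [TensorProduct.smul_tmul]
          _ = ∑ i, (1 : K) ⊗ₜ[P] (a i • (⟨f i, hfI i⟩ : I)) := by rw [hx', TensorProduct.tmul_sum]
          _ = ∑ i, (algebraMap P K (a i)) • e i := by
              refine Finset.sum_congr rfl fun i _ => ?_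
              simp only [e]
              rw [← TensorProduct.smul_tmul, TensorProduct.smul_tmul', smul_eq_mul, mul_one,
                Algebra.algebraMap_eq_smul_one]
      have h2 : k ⊗ₜ[P] x = (k * (algebraMap P K t)⁻¹) • ((algebraMap P K t) • ((1 : K) ⊗ₜ[P] x)) := by
        rw [smul_smul, mul_assoc, inv_mul_cancel₀ ht, mul_one, TensorProduct.smul_tmul',
          smul_eq_mul, mul_one]
      rw [h2, h1]
      refine Submodule.smul_mem _ _ (Submodule.sum_mem _ fun i _ => Submodule.smul_mem _ _ ?_)
      exact Submodule.subset_span ⟨i, rfl⟩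
  rw [injective_iff_map_eq_zero]
  intro z hz
  obtain ⟨l, rfl⟩ := (Submodule.mem_span_range_iff_exists_fun K).mp (hsp z)
  rw [map_sum] at hz
  simp only [map_smul, hδe] at hz
  have := Fintype.linearIndependent_iff.mp hli l hz
  simp [this]


theorem exists_mul_mem_span_of_isSmoothAt (R P A L : Type u) [CommRing R] [CommRing P] [CommRing A]
    [Field L] [Algebra R P] [Algebra R A] [Algebra P A] [IsScalarTower R P A]
    [Algebra A L] [Algebra P L] [IsScalarTower P A L]
    [Algebra.FormallySmooth R P] [Module.Projective P Ω[P⁄R]] [Module.Finite P Ω[P⁄R]]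
    (h₁ : Function.Surjective (algebraMap P A)) (h₂ : (RingHom.ker (algebraMap P A)).FG)
    (𝔮 : Ideal A) [𝔮.IsPrime] (h𝔮 : RingHom.ker (algebraMap A L) = 𝔮)
    (hsm : Algebra.IsSmoothAt R 𝔮)
    {c : ℕ} (f : Fin c → P) (hfI : ∀ i, f i ∈ RingHom.ker (algebraMap P A))
    (hD : ∀ x ∈ RingHom.ker (algebraMap P A), (1 : L) ⊗ₜ[P] D R P x ∈
      Submodule.span L (Set.range fun i => (1 : L) ⊗ₜ[P] D R P (f i)))
    (x : P) (hx : x ∈ RingHom.ker (algebraMap P A)) :
    ∃ s : P, algebraMap P L s ≠ 0 ∧ s * x ∈ Ideal.span (Set.range f) := by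
  have hinj := (isSmoothAt_iff_injective R P A L h₁ h₂ 𝔮 h𝔮).mp hsm
  set δ := KaehlerDifferential.cotangentComplexBaseChange R A P L with hδ
  let I : Ideal P := RingHom.ker (algebraMap P A)
  let g : Fin c → I := fun i => ⟨f i, hfI i⟩
  let e : Fin c → L ⊗[P] I := fun i => (1 : L) ⊗ₜ[P] g i
  have hδ1 : ∀ y : I, δ ((1 : L) ⊗ₜ[P] y) = (1 : L) ⊗ₜ[P] D R P y.1 := by
    intro y
    show KaehlerDifferential.cotangentComplexBaseChange R A P L _ = _
    rw [KaehlerDifferential.cotangentComplexBaseChange_tmul, one_smul, kerToTensor_apply]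
  have hsp : ∀ y : I, (1 : L) ⊗ₜ[P] y ∈ Submodule.span L (Set.range e) := by
    intro y
    obtain ⟨l, hl⟩ := (Submodule.mem_span_range_iff_exists_fun L).mp (hD y.1 y.2)
    have : (1 : L) ⊗ₜ[P] y = ∑ i, l i • e i := by
      apply hinj
      rw [hδ1, map_sum, ← hl]
      refine Finset.sum_congr rfl fun i _ => ?_
      rw [map_smul, hδ1]
    rw [this]
    exact Submodule.sum_mem _ fun i _ => Submodule.smul_mem _ _ (Submodule.subset_span ⟨i, rfl⟩)
  let NJ : Submodule P I := Submodule.span P (Set.range g)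
  let Q := I ⧸ NJ
  haveI : Module.Finite P I := ⟨(Submodule.fg_top _).mpr h₂⟩
  have hsub : Subsingleton (L ⊗[P] Q) := by
    refine subsingleton_of_forall_eq 0 fun z => ?_
    obtain ⟨z, rfl⟩ := LinearMap.lTensor_surjective L (Submodule.mkQ_surjective NJ) z
    have key : ∀ z : L ⊗[P] I, (LinearMap.baseChange L NJ.mkQ) z = 0 := by
      intro z
      induction z using TensorProduct.induction_on with
      | zero => simp
      | add a b ha hb => rw [map_add, ha, hb, add_zero]
      | tmul l y =>
        have h1 : l ⊗ₜ[P] y = l • ((1 : L) ⊗ₜ[P] y) := by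
          rw [TensorProduct.smul_tmul', smul_eq_mul, mul_one]
        rw [h1, map_smul]
        have h2 : ∀ w ∈ Submodule.span L (Set.range e), (LinearMap.baseChange L NJ.mkQ) w = 0 := by
          intro w hw
          induction hw using Submodule.span_induction with
          | mem w hw =>
            obtain ⟨i, rfl⟩ := hw
            simp only [e, LinearMap.baseChange_tmul]
            have : NJ.mkQ (g i) = 0 := by
              rw [Submodule.mkQ_apply, Submodule.Quotient.mk_eq_zero]
              exact Submodule.subset_span ⟨i, rfl⟩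
            rw [this, TensorProduct.tmul_zero]
          | zero => simp
          | add a b _ _ ha hb => rw [map_add, ha, hb, add_zero]
          | smul a w _ hw => rw [map_smul, hw, smul_zero]
        rw [h2 _ (hsp y), smul_zero]
    have := key z
    rwa [LinearMap.baseChange_eq_ltensor] at this
  obtain ⟨s, hs, hsq⟩ := exists_smul_eq_zero_of_subsingleton P L Q hsub (NJ.mkQ ⟨x, hx⟩)
  refine ⟨s, hs, ?_⟩
  rw [← map_smul, Submodule.mkQ_apply, Submodule.Quotient.mk_eq_zero] at hsq
  have hmap : NJ.map I.subtype = Ideal.span (Set.range f) := by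
    simp only [NJ]
    rw [Submodule.map_span, ← Set.range_comp]
    rfl
  rw [← hmap]
  exact ⟨_, hsq, rfl⟩


set_option backward.isDefEq.respectTransparency false in
theorem exists_generators_of_projective (R P A Λ : Type u) [CommRing R] [CommRing P] [CommRing A]
    [CommRing Λ] [IsLocalRing Λ]
    [Algebra R P] [Algebra R A] [Algebra P A] [IsScalarTower R P A]
    [Algebra A Λ] [Algebra P Λ] [IsScalarTower P A Λ]
    [Module.Finite P Ω[P⁄R]]
    (h₁ : Function.Surjective (algebraMap P A))
    (hproj : Module.Projective Λ (Λ ⊗[A] Ω[A⁄R])) :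
    ∃ (c : ℕ) (f : Fin c → P), (∀ i, f i ∈ RingHom.ker (algebraMap P A)) ∧
      (∀ x ∈ RingHom.ker (algebraMap P A), (1 : Λ) ⊗ₜ[P] D R P x ∈
        Submodule.span Λ (Set.range fun i => (1 : Λ) ⊗ₜ[P] D R P (f i))) ∧
      LinearIndependent (ResidueField Λ) (fun i => (1 : ResidueField Λ) ⊗ₜ[P] D R P (f i)) := by
  classical
  let K := ResidueField Λ
  let I : Ideal P := RingHom.ker (algebraMap P A)
  let E : Algebra.Extension R A := { Ring := P, σ := _, algebraMap_σ := Function.surjInv_eq h₁ }
  let F := Λ ⊗[P] Ω[P⁄R]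
  let G := Λ ⊗[A] Ω[A⁄R]
  let can : F ≃ₗ[Λ] Λ ⊗[A] (A ⊗[P] Ω[P⁄R]) :=
    (AlgebraTensorModule.cancelBaseChange P A Λ Λ Ω[P⁄R]).symm
  let g : F →ₗ[Λ] G := (E.toKaehler.baseChange Λ) ∘ₗ can.toLinearMap
  have hg_surj : Function.Surjective g := by
    show Function.Surjective ((E.toKaehler.baseChange Λ) ∘ can)
    refine Function.Surjective.comp ?_ can.surjective
    rw [LinearMap.baseChange_eq_ltensor]
    exact LinearMap.lTensor_surjective Λ E.toKaehler_surjective
  have hg_tmul : ∀ (l : Λ) (ω : Ω[P⁄R]), g (l ⊗ₜ[P] ω) = l ⊗ₜ[A] KaehlerDifferential.map R R P A ω := by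
    intro l ω
    show (E.toKaehler.baseChange Λ) (l ⊗ₜ[A] ((1 : A) ⊗ₜ[P] ω)) = _
    rw [LinearMap.baseChange_tmul]
    congr 1
    show (KaehlerDifferential.mapBaseChange R P A) ((1 : A) ⊗ₜ[P] ω) = _
    rw [KaehlerDifferential.mapBaseChange_tmul, one_smul]
  let t : I → F := fun x => (1 : Λ) ⊗ₜ[P] D R P x.1
  have hgt : ∀ x : I, g (t x) = 0 := by
    intro x
    simp only [t]
    rw [hg_tmul, KaehlerDifferential.map_D]
    have : algebraMap P A x.1 = 0 := x.2
    rw [this, map_zero, TensorProduct.tmul_zero]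
  have hker : ∀ z : F, g z = 0 → z ∈ Submodule.span Λ (Set.range t) := by
    intro z hz
    have hex : Function.Exact (E.cotangentComplex.baseChange Λ) (E.toKaehler.baseChange Λ) := by
      rw [LinearMap.baseChange_eq_ltensor, LinearMap.baseChange_eq_ltensor]
      exact lTensor_exact Λ E.exact_cotangentComplex_toKaehler E.toKaehler_surjective
    obtain ⟨w, hw⟩ := (hex (can z)).mp hz
    have hzw : z = can.symm ((E.cotangentComplex.baseChange Λ) w) := by
      rw [hw, LinearEquiv.symm_apply_apply]
    rw [hzw]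
    clear hzw hw hz
    induction w using TensorProduct.induction_on with
    | zero => simp
    | add a b ha hb => 
      rw [map_add, map_add]
      exact Submodule.add_mem _ ha hb
    | tmul l y =>
      obtain ⟨x, rfl⟩ := Algebra.Extension.Cotangent.mk_surjective y
      rw [LinearMap.baseChange_tmul, Algebra.Extension.cotangentComplex_mk]
      have : can.symm (l ⊗ₜ[A] ((1 : A) ⊗ₜ[E.Ring] D R E.Ring x.1)) = l • t ⟨x.1, x.2⟩ := by
        simp only [can, LinearEquiv.symm_symm, t]
        rw [AlgebraTensorModule.cancelBaseChange_tmul, one_smul, TensorProduct.smul_tmul',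
          smul_eq_mul, mul_one]
      rw [this]
      exact Submodule.smul_mem _ _ (Submodule.subset_span ⟨_, rfl⟩)
  obtain ⟨σ, hσ⟩ := Module.projective_lifting_property g LinearMap.id hg_surj
  have hσ' : ∀ y, g (σ y) = y := fun y => LinearMap.congr_fun hσ y
  let ρ : F →ₗ[Λ] F := LinearMap.id - σ ∘ₗ g
  have hρ_ker : ∀ z, g (ρ z) = 0 := by
    intro z
    simp only [ρ, LinearMap.sub_apply, LinearMap.id_apply, LinearMap.comp_apply, map_sub, hσ', sub_self]
  have hρ_id : ∀ z, g z = 0 → ρ z = z := by
    intro z hz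
    simp only [ρ, LinearMap.sub_apply, LinearMap.id_apply, LinearMap.comp_apply, hz, map_zero, sub_zero]
  let Mker : Submodule Λ F := LinearMap.ker g
  have hMker_eq : Mker = Submodule.map ρ ⊤ := by
    apply le_antisymm
    · intro z hz
      exact ⟨z, Submodule.mem_top, hρ_id z hz⟩
    · rintro _ ⟨z, -, rfl⟩
      exact hρ_ker z
  have hMker_fg : Mker.FG := by
    rw [hMker_eq]
    exact (Module.Finite.fg_top).map ρ
  let red : F →ₗ[Λ] K ⊗[Λ] F := TensorProduct.mk Λ K F 1
  have hred_ker : ∀ z, red z = 0 → z ∈ (maximalIdeal Λ) • (⊤ : Submodule Λ F) := by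
    intro z hz
    have := LinearMap.ker_tensorProductMk (R := Λ) (Q := F) (I := maximalIdeal Λ)
    rw [← this]
    exact hz
  obtain ⟨b, hbT, hbspan, hbli⟩ := exists_linearIndependent K (red '' Set.range t)
  have hbfin : b.Finite := hbli.setFinite
  haveI : Finite b := hbfin.to_subtype
  let c := Nat.card b
  let eqv : Fin c ≃ b := (Finite.equivFin b).symm
  have hchoose : ∀ j : b, ∃ x : I, red (t x) = j.1 := by
    intro j
    obtain ⟨_, ⟨x, rfl⟩, hx⟩ := hbT j.2
    exact ⟨x, hx⟩
  choose xs hxs using hchoose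
  let f : Fin c → P := fun i => (xs (eqv i)).1
  let w : Fin c → F := fun i => t (xs (eqv i))
  let v : Fin c → K ⊗[Λ] F := fun i => red (w i)
  have hv : v = Subtype.val ∘ eqv := by
    funext i
    exact hxs (eqv i)
  have hvli : LinearIndependent K v := by
    rw [hv]
    exact hbli.comp eqv eqv.injective
  have hvspan : Submodule.span K (Set.range v) = Submodule.span K (red '' Set.range t) := by
    rw [← hbspan, hv, Set.range_comp, eqv.range_eq_univ, Set.image_univ, Subtype.range_coe]
  have hw_ker : ∀ i, g (w i) = 0 := fun i => hgt _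
  refine ⟨c, f, fun i => (xs (eqv i)).2, ?_, ?_⟩
  · -- spanning
    have hle : Mker ≤ Submodule.span Λ (Set.range w) := by
      apply Submodule.le_of_le_smul_of_le_jacobson_bot hMker_fg
        (IsLocalRing.jacobson_eq_maximalIdeal ⊥ bot_ne_top).ge
      intro z hz
      have hz' := hker z hz
      refine (Submodule.span_le.mpr ?_) hz'
      rintro _ ⟨x, rfl⟩
      have h1 : red (t x) ∈ Submodule.span K (Set.range v) := by
        rw [hvspan]
        exact Submodule.subset_span ⟨_, ⟨x, rfl⟩, rfl⟩
      obtain ⟨k, hk⟩ := (Submodule.mem_span_range_iff_exists_fun K).mp h1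
      choose l hl using fun i => residue_surjective (k i)
      let z := t x - ∑ i, l i • w i
      have hz0 : red z = 0 := by
        simp only [z, map_sub, map_sum, map_smul]
        rw [← hk, sub_eq_zero]
        refine Finset.sum_congr rfl fun i _ => ?_
        rw [← hl i]
        exact (algebraMap_smul K (l i) (v i)).symm
      have hzg : g z = 0 := by
        simp only [z, map_sub, map_sum, map_smul, hgt, hw_ker, smul_zero, Finset.sum_const_zero,
          sub_zero]
      have hzm : z ∈ (maximalIdeal Λ) • Mker := by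
        have h2 := hred_ker z hz0
        have h3 : ρ z ∈ Submodule.map ρ ((maximalIdeal Λ) • (⊤ : Submodule Λ F)) := ⟨z, h2, rfl⟩
        rw [Submodule.map_smul'', ← hMker_eq, hρ_id z hzg] at h3
        exact h3
      have : t x = ∑ i, l i • w i + z := by simp only [z]; abel
      rw [this]
      refine Submodule.add_mem_sup ?_ hzm
      exact Submodule.sum_mem _ fun i _ => Submodule.smul_mem _ _ (Submodule.subset_span ⟨i, rfl⟩)
    intro x hx
    exact hle (hgt ⟨x, hx⟩)
  · -- linear independence
    let ec := AlgebraTensorModule.cancelBaseChange P Λ K K Ω[P⁄R]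
    have h := hvli.map' ec.toLinearMap (LinearMap.ker_eq_bot.mpr ec.injective)
    have hfun : (⇑ec.toLinearMap ∘ v) = fun i => (1 : ResidueField Λ) ⊗ₜ[P] D R P (f i) := by
      funext i
      show ec ((1 : K) ⊗ₜ[Λ] ((1 : Λ) ⊗ₜ[P] D R P (f i))) = _
      simp only [ec]
      rw [AlgebraTensorModule.cancelBaseChange_tmul, one_smul]
    rw [hfun] at h
    exact h


set_option backward.isDefEq.respectTransparency false in
theorem exists_baseChange_exact (R P A Λ : Type u) [CommRing R] [CommRing P] [CommRing A]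
    [CommRing Λ] [Algebra R P] [Algebra R A] [Algebra P A] [IsScalarTower R P A]
    [Algebra A Λ] [Algebra P Λ] [IsScalarTower P A Λ]
    (h₁ : Function.Surjective (algebraMap P A)) :
    ∃ g : Λ ⊗[P] Ω[P⁄R] →ₗ[Λ] Λ ⊗[A] Ω[A⁄R], Function.Surjective g ∧
      (∀ (l : Λ) (ω : Ω[P⁄R]), g (l ⊗ₜ[P] ω) = l ⊗ₜ[A] KaehlerDifferential.map R R P A ω) ∧
      (∀ z, g z = 0 → z ∈ Submodule.span Λ
        (Set.range fun x : RingHom.ker (algebraMap P A) => (1 : Λ) ⊗ₜ[P] D R P x.1)) := by
  let I : Ideal P := RingHom.ker (algebraMap P A)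
  let E : Algebra.Extension R A := { Ring := P, σ := _, algebraMap_σ := Function.surjInv_eq h₁ }
  let F := Λ ⊗[P] Ω[P⁄R]
  let G := Λ ⊗[A] Ω[A⁄R]
  let can : F ≃ₗ[Λ] Λ ⊗[A] (A ⊗[P] Ω[P⁄R]) :=
    (AlgebraTensorModule.cancelBaseChange P A Λ Λ Ω[P⁄R]).symm
  let g : F →ₗ[Λ] G := (E.toKaehler.baseChange Λ) ∘ₗ can.toLinearMap
  have hg_surj : Function.Surjective g := by
    show Function.Surjective ((E.toKaehler.baseChange Λ) ∘ can)
    refine Function.Surjective.comp ?_ can.surjective
    rw [LinearMap.baseChange_eq_ltensor]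
    exact LinearMap.lTensor_surjective Λ E.toKaehler_surjective
  have hg_tmul : ∀ (l : Λ) (ω : Ω[P⁄R]), g (l ⊗ₜ[P] ω) = l ⊗ₜ[A] KaehlerDifferential.map R R P A ω := by
    intro l ω
    show (E.toKaehler.baseChange Λ) (l ⊗ₜ[A] ((1 : A) ⊗ₜ[P] ω)) = _
    rw [LinearMap.baseChange_tmul]
    congr 1
    show (KaehlerDifferential.mapBaseChange R P A) ((1 : A) ⊗ₜ[P] ω) = _
    rw [KaehlerDifferential.mapBaseChange_tmul, one_smul]
  let t : I → F := fun x => (1 : Λ) ⊗ₜ[P] D R P x.1
  refine ⟨g, hg_surj, hg_tmul, ?_⟩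
  intro z hz
  have hex : Function.Exact (E.cotangentComplex.baseChange Λ) (E.toKaehler.baseChange Λ) := by
    rw [LinearMap.baseChange_eq_ltensor, LinearMap.baseChange_eq_ltensor]
    exact lTensor_exact Λ E.exact_cotangentComplex_toKaehler E.toKaehler_surjective
  obtain ⟨w, hw⟩ := (hex (can z)).mp hz
  have hzw : z = can.symm ((E.cotangentComplex.baseChange Λ) w) := by
    rw [hw, LinearEquiv.symm_apply_apply]
  rw [hzw]
  clear hzw hw hz
  induction w using TensorProduct.induction_on with
  | zero => simp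
  | add a b ha hb =>
    rw [map_add, map_add]
    exact Submodule.add_mem _ ha hb
  | tmul l y =>
    obtain ⟨x, rfl⟩ := Algebra.Extension.Cotangent.mk_surjective y
    rw [LinearMap.baseChange_tmul, Algebra.Extension.cotangentComplex_mk]
    have : can.symm (l ⊗ₜ[A] ((1 : A) ⊗ₜ[E.Ring] D R E.Ring x.1)) = l • t ⟨x.1, x.2⟩ := by
      simp only [can, LinearEquiv.symm_symm, t]
      rw [AlgebraTensorModule.cancelBaseChange_tmul, one_smul, TensorProduct.smul_tmul',
        smul_eq_mul, mul_one]
    rw [this]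
    exact Submodule.smul_mem _ _ (Submodule.subset_span ⟨_, rfl⟩)


end Groth.Agent.Lib.Helper65.JacobiPoint
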