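import Mathlib
import Groth.Agent.Lib.Helper65.JacobiPoint
import Groth.Agent.Lib.Helper48.H1Conormal1

/-!
# Jacobian criterion for quotients of smooth algebras by (H₁-regular) sequences (helper65)
-/

universe u
open TensorProduct KaehlerDifferential IsLocalRing

namespace Groth.Agent.Lib.Helper65.JacobiLCI
open Groth.Agent.Lib.Helper65.JacobiPoint

section R1
variable (A C B K : Type u) [CommRing A] [CommRing C] [CommRing B] [Field K]
  [Algebra A C] [Algebra A B] [Algebra C B] [IsScalarTower A C B]
  [Algebra B K] [Algebra C K] [IsScalarTower C B K]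

/-- the kernel of `K ⊗ Ω[C/A] → K ⊗ Ω[B/A]` is spanned by the differentials of generators of the
kernel of `C → B`. -/
theorem exists_map_ker_eq_span (h₁ : Function.Surjective (algebraMap C B)) {c : ℕ} (r : Fin c → C)
    (hr : Ideal.span (Set.range r) = RingHom.ker (algebraMap C B)) :
    ∃ g : K ⊗[C] Ω[C⁄A] →ₗ[K] K ⊗[B] Ω[B⁄A], Function.Surjective g ∧
      LinearMap.ker g = Submodule.span K (Set.range fun i => (1 : K) ⊗ₜ[C] D A C (r i)) := by
  obtain ⟨g, hgs, hgt, hgk⟩ := exists_baseChange_exact A C B K h₁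
  refine ⟨g, hgs, le_antisymm ?_ ?_⟩
  · intro z hz
    refine (Submodule.span_le.mpr ?_) (hgk z hz)
    rintro _ ⟨x, rfl⟩
    have hx : x.1 ∈ Ideal.span (Set.range r) := by rw [hr]; exact x.2
    obtain ⟨a, ha⟩ := (Ideal.mem_span_range_iff_exists_fun).mp hx
    have hK : ∀ i, algebraMap C K (r i) = 0 := by
      intro i
      have : r i ∈ RingHom.ker (algebraMap C B) := by rw [← hr]; exact Ideal.subset_span ⟨i, rfl⟩
      rw [IsScalarTower.algebraMap_apply C B K, (RingHom.mem_ker).mp this, map_zero]
    show (1 : K) ⊗ₜ[C] D A C x.1 ∈ _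
    rw [← ha, map_sum, TensorProduct.tmul_sum]
    refine Submodule.sum_mem _ fun i _ => ?_
    rw [Derivation.leibniz, TensorProduct.tmul_add]
    refine Submodule.add_mem _ ?_ ?_
    · have : (1 : K) ⊗ₜ[C] (a i • D A C (r i)) = algebraMap C K (a i) • ((1 : K) ⊗ₜ[C] D A C (r i)) := by
        rw [← TensorProduct.smul_tmul, TensorProduct.smul_tmul', smul_eq_mul, mul_one,
          Algebra.algebraMap_eq_smul_one]
      rw [this]
      exact Submodule.smul_mem _ _ (Submodule.subset_span ⟨i, rfl⟩)
    · have : (1 : K) ⊗ₜ[C] (r i • D A C (a i)) = 0 := by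
        rw [← TensorProduct.smul_tmul, ← Algebra.algebraMap_eq_smul_one, hK, TensorProduct.zero_tmul]
      rw [this]
      exact Submodule.zero_mem _
  · refine Submodule.span_le.mpr ?_
    rintro _ ⟨i, rfl⟩
    show g _ = 0
    rw [hgt, KaehlerDifferential.map_D]
    have : r i ∈ RingHom.ker (algebraMap C B) := by rw [← hr]; exact Ideal.subset_span ⟨i, rfl⟩
    rw [(RingHom.mem_ker).mp this, map_zero, TensorProduct.tmul_zero]


variable [Algebra.FormallySmooth A C] [Module.Projective C Ω[C⁄A]] [Module.Finite C Ω[C⁄A]]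

/-- Jacobian criterion, sufficiency: `B = C/(r₁,…,r_c)` with `C` smooth over `A` of rank `m + c` at
the point, and the differentials of `B` at the point generated by `m` elements: then `B` is
smooth over `A` at the point. -/
theorem isSmoothAt_of_finrank_le (h₁ : Function.Surjective (algebraMap C B)) {c m : ℕ}
    (r : Fin c → C) (hr : Ideal.span (Set.range r) = RingHom.ker (algebraMap C B))
    (q : Ideal B) [q.IsPrime] (hq : RingHom.ker (algebraMap B K) = q)
    (hrank : Module.finrank K (K ⊗[C] Ω[C⁄A]) = m + c)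
    (hB : Module.finrank K (K ⊗[B] Ω[B⁄A]) ≤ m) : Algebra.IsSmoothAt A q := by
  obtain ⟨g, hgs, hgk⟩ := exists_map_ker_eq_span A C B K h₁ r hr
  have h2 : (RingHom.ker (algebraMap C B)).FG := by
    rw [← hr]
    exact Submodule.fg_span (Set.finite_range r)
  have hrn := LinearMap.finrank_range_add_finrank_ker g
  rw [LinearMap.range_eq_top.mpr hgs, finrank_top, hgk, hrank] at hrn
  have hc : c ≤ (Set.range fun i => (1 : K) ⊗ₜ[C] D A C (r i)).finrank K := by
    show c ≤ Module.finrank K (Submodule.span K _)
    omega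
  have hli : LinearIndependent K (fun i => (1 : K) ⊗ₜ[C] D A C (r i)) := by
    rw [linearIndependent_iff_card_eq_finrank_span, Fintype.card_fin]
    refine le_antisymm hc ?_
    have := finrank_range_le_card (R := K) (fun i => (1 : K) ⊗ₜ[C] D A C (r i))
    simpa using this
  refine isSmoothAt_of_linearIndependent A C B K h₁ h2 q hq r ?_ ?_ hli
  · intro i
    rw [← hr]
    exact Ideal.subset_span ⟨i, rfl⟩
  · intro x hx
    refine ⟨1, by simp, ?_⟩
    rw [one_mul, hr]
    exact hx

/-- Jacobian criterion, necessity for an `H₁`-regular sequence. -/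
theorem finrank_le_of_isSmoothAt (h₁ : Function.Surjective (algebraMap C B)) {c m : ℕ}
    (r : Fin c → C) (hr : Ideal.span (Set.range r) = RingHom.ker (algebraMap C B))
    (hH1 : CAlgX.IsH1Regular r)
    (q : Ideal B) [q.IsPrime] (hq : RingHom.ker (algebraMap B K) = q)
    (hrank : Module.finrank K (K ⊗[C] Ω[C⁄A]) = m + c)
    (hsm : Algebra.IsSmoothAt A q) : Module.finrank K (K ⊗[B] Ω[B⁄A]) ≤ m := by
  classical
  obtain ⟨g, hgs, hgk⟩ := exists_map_ker_eq_span A C B K h₁ r hr
  have h2 : (RingHom.ker (algebraMap C B)).FG := by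
    rw [← hr]
    exact Submodule.fg_span (Set.finite_range r)
  have hinj := (isSmoothAt_iff_injective A C B K h₁ h2 q hq).mp hsm
  let I : Ideal C := RingHom.ker (algebraMap C B)
  have hrI : ∀ i, r i ∈ I := fun i => by
    show r i ∈ RingHom.ker (algebraMap C B)
    rw [← hr]
    exact Ideal.subset_span ⟨i, rfl⟩
  let e : Fin c → K ⊗[C] I := fun i => (1 : K) ⊗ₜ[C] (⟨r i, hrI i⟩ : I)
  -- the coefficient functionals
  let σ : (Fin c → C) →ₗ[C] I :=
    (Fintype.linearCombination C r).codRestrict I (fun a => by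
      rw [Fintype.linearCombination_apply]
      exact Ideal.sum_mem _ fun i _ => Ideal.mul_mem_left _ _ (hrI i))
  have hσ : Function.Surjective σ := by
    intro x
    have hx : x.1 ∈ Ideal.span (Set.range r) := by rw [hr]; exact x.2
    obtain ⟨a, ha⟩ := (Ideal.mem_span_range_iff_exists_fun).mp hx
    refine ⟨a, Subtype.ext ?_⟩
    simp only [σ, LinearMap.codRestrict_apply, Fintype.linearCombination_apply, smul_eq_mul]
    exact ha
  let τ : (Fin c → C) →ₗ[C] (Fin c → K) := (Algebra.linearMap C K).compLeft (Fin c)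
  have hker : LinearMap.ker σ ≤ LinearMap.ker τ := by
    intro a ha
    have h0 : ∑ i, a i * r i = 0 := by
      have := congrArg Subtype.val (LinearMap.mem_ker.mp ha)
      simpa [σ, Fintype.linearCombination_apply] using this
    rw [LinearMap.mem_ker]
    funext i
    have hmem := Groth.Agent.Lib.Helper48.H1Conormal.coeff_mem_of_isH1Regular r hH1 a
      (by rw [h0]; exact Submodule.zero_mem _) i
    rw [hr] at hmem
    show algebraMap C K (a i) = 0
    rw [IsScalarTower.algebraMap_apply C B K, (RingHom.mem_ker).mp hmem, map_zero]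
  let Φ : I →ₗ[C] (Fin c → K) :=
    (Submodule.liftQ (LinearMap.ker σ) τ hker) ∘ₗ (σ.quotKerEquivOfSurjective hσ).symm.toLinearMap
  have hΦ : ∀ a, Φ (σ a) = τ a := by
    intro a
    simp only [Φ, LinearMap.comp_apply, LinearEquiv.coe_coe]
    have : (σ.quotKerEquivOfSurjective hσ).symm (σ a) = Submodule.Quotient.mk a := by
      rw [LinearEquiv.symm_apply_eq]
      rfl
    rw [this, Submodule.liftQ_apply]
  let Ψ : K ⊗[C] I →ₗ[K] (Fin c → K) := LinearMap.liftBaseChange K Φ
  have hΨ : ∀ j, Ψ (e j) = Pi.single j 1 := by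
    intro j
    have hσj : σ (Pi.single j 1) = ⟨r j, hrI j⟩ := by
      apply Subtype.ext
      simp [σ, Fintype.linearCombination_apply, Pi.single_apply]
    simp only [Ψ, e, LinearMap.liftBaseChange_tmul, one_smul]
    rw [← hσj, hΦ]
    funext i
    simp only [τ, LinearMap.compLeft_apply, Function.comp_apply, Algebra.linearMap_apply,
      Pi.single_apply]
    split_ifs <;> simp
  have hli_e : LinearIndependent K e := by
    apply LinearIndependent.of_comp Ψ
    have : Ψ ∘ e = fun j => Pi.single j (1 : K) := funext hΨ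
    rw [this]
    have h4 := (Pi.basisFun K (Fin c)).linearIndependent
    have h5 : (⇑(Pi.basisFun K (Fin c))) = fun j => Pi.single j (1 : K) := by
      funext j
      simp [Pi.basisFun_apply]
    rw [h5] at h4
    exact h4
  have hli : LinearIndependent K (fun i => (1 : K) ⊗ₜ[C] D A C (r i)) := by
    have h3 := hli_e.map' (KaehlerDifferential.cotangentComplexBaseChange A B C K)
      (LinearMap.ker_eq_bot.mpr hinj)
    have hfun : (⇑(KaehlerDifferential.cotangentComplexBaseChange A B C K) ∘ e) =
        fun i => (1 : K) ⊗ₜ[C] D A C (r i) := by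
      funext i
      simp only [Function.comp_apply, e]
      rw [KaehlerDifferential.cotangentComplexBaseChange_tmul, one_smul, kerToTensor_apply]
    rw [hfun] at h3
    exact h3
  have hrn := LinearMap.finrank_range_add_finrank_ker g
  rw [LinearMap.range_eq_top.mpr hgs, finrank_top, hgk, hrank,
    finrank_span_eq_card hli, Fintype.card_fin] at hrn
  omega

end R1


end Groth.Agent.Lib.Helper65.JacobiLCI
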