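import Mathlib
import Groth.Prelude.Def_MeroDiv

/-!
# Morphisms between the sheaves of modules `Mero.modOf P`

`modOfHom P Q φ hφ : Mero.modOf P ⟶ Mero.modOf Q` for a pointwise family of stalk-linear maps
`φ x : T x →ₗ[O_{X,x}] T' x` carrying sections satisfying `P` to sections satisfying `Q`;
composition and identity hold by `rfl` (`modOfHom_comp`, `modOfHom_id`), and `modOfIso` packages
a pointwise family of linear equivalences.
-/

universe u
open CategoryTheory AlgebraicGeometry TopologicalSpace Opposite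

namespace Groth.Agent.Lib.Helper65.ModOfHom

variable {X : Scheme.{u}}

variable {T T' T'' : X → Type u} [∀ x, AddCommGroup (T x)] [∀ x, Module (X.presheaf.stalk x) (T x)]
  [∀ x, AddCommGroup (T' x)] [∀ x, Module (X.presheaf.stalk x) (T' x)]
  [∀ x, AddCommGroup (T'' x)] [∀ x, Module (X.presheaf.stalk x) (T'' x)]

/-- morphism between sheaves of modules cut out by module predicates, from a pointwise family of
linear maps preserving the predicates. -/
noncomputable def modOfHom (P : TopCat.LocalPredicate T) [Mero.IsModPred P]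
    (Q : TopCat.LocalPredicate T') [Mero.IsModPred Q]
    (φ : ∀ x : X, T x →ₗ[X.presheaf.stalk x] T' x)
    (hφ : ∀ (U : X.Opens) (f : ∀ x : U, T x.1), P.pred f → Q.pred (fun x => φ x.1 (f x))) :
    Mero.modOf P ⟶ Mero.modOf Q :=
  ⟨PresheafOfModules.homMk (M₁ := (Mero.modOf P).val) (M₂ := (Mero.modOf Q).val)
    { app := fun U => AddCommGrpCat.ofHom
        { toFun := fun (f : Γ(Mero.modOf P, U.unop)) =>
            (⟨fun x => φ x.1 (f.1 x), hφ U.unop f.1 f.2⟩ : Γ(Mero.modOf Q, U.unop))
          map_zero' := Subtype.ext (funext fun x => map_zero _)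
          map_add' := fun f g => Subtype.ext (funext fun x => map_add _ _ _) }
      naturality := by intros; rfl }
    (fun U r f => Subtype.ext (funext fun x => map_smul _ _ _))⟩

theorem modOfHom_app_apply (P : TopCat.LocalPredicate T) [Mero.IsModPred P]
    (Q : TopCat.LocalPredicate T') [Mero.IsModPred Q]
    (φ : ∀ x : X, T x →ₗ[X.presheaf.stalk x] T' x)
    (hφ : ∀ (U : X.Opens) (f : ∀ x : U, T x.1), P.pred f → Q.pred (fun x => φ x.1 (f x)))
    (U : X.Opens) (f : Γ(Mero.modOf P, U)) (x : U) :
    ((modOfHom P Q φ hφ).app U f).1 x = φ x.1 (f.1 x) := rfl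

theorem modOfHom_comp (P : TopCat.LocalPredicate T) [Mero.IsModPred P]
    (Q : TopCat.LocalPredicate T') [Mero.IsModPred Q]
    (R : TopCat.LocalPredicate T'') [Mero.IsModPred R]
    (φ : ∀ x : X, T x →ₗ[X.presheaf.stalk x] T' x)
    (hφ : ∀ (U : X.Opens) (f : ∀ x : U, T x.1), P.pred f → Q.pred (fun x => φ x.1 (f x)))
    (ψ : ∀ x : X, T' x →ₗ[X.presheaf.stalk x] T'' x)
    (hψ : ∀ (U : X.Opens) (f : ∀ x : U, T' x.1), Q.pred f → R.pred (fun x => ψ x.1 (f x))) :
    modOfHom P Q φ hφ ≫ modOfHom Q R ψ hψ =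
      modOfHom P R (fun x => ψ x ∘ₗ φ x) (fun U f hf => hψ U _ (hφ U f hf)) := rfl

theorem modOfHom_id (P : TopCat.LocalPredicate T) [Mero.IsModPred P]
    (φ : ∀ x : X, T x →ₗ[X.presheaf.stalk x] T x) (hφid : ∀ x, φ x = LinearMap.id)
    (hφ : ∀ (U : X.Opens) (f : ∀ x : U, T x.1), P.pred f → P.pred (fun x => φ x.1 (f x))) :
    modOfHom P P φ hφ = 𝟙 _ := by
  have : φ = fun x => LinearMap.id := funext hφid
  subst this
  rfl

/-- isomorphism between sheaves of modules cut out by module predicates, from a pointwise family of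
linear equivalences preserving the predicates in both directions. -/
noncomputable def modOfIso (P : TopCat.LocalPredicate T) [Mero.IsModPred P]
    (Q : TopCat.LocalPredicate T') [Mero.IsModPred Q]
    (e : ∀ x : X, T x ≃ₗ[X.presheaf.stalk x] T' x)
    (he : ∀ (U : X.Opens) (f : ∀ x : U, T x.1), P.pred f → Q.pred (fun x => e x.1 (f x)))
    (he' : ∀ (U : X.Opens) (f : ∀ x : U, T' x.1), Q.pred f → P.pred (fun x => (e x.1).symm (f x))) :
    Mero.modOf P ≅ Mero.modOf Q where
  hom := modOfHom P Q (fun x => (e x).toLinearMap) he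
  inv := modOfHom Q P (fun x => (e x).symm.toLinearMap) he'
  hom_inv_id := by
    rw [modOfHom_comp]
    exact modOfHom_id P _ (fun x => by ext t; simp) _
  inv_hom_id := by
    rw [modOfHom_comp]
    exact modOfHom_id Q _ (fun x => by ext t; simp) _

end Groth.Agent.Lib.Helper65.ModOfHom
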