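import Mathlib
import Groth.Agent.Lib.Helper65.RegularSmooth
import Groth.Agent.Lib.Helper77.RegularLocalization

/-!
# Kähler differentials and regularity for finite type algebras over an algebraically closed field

For `B` of finite type over an algebraically closed field `k` all of whose localizations at maximal
ideals have dimension `n`:
* `isRegularRing_of_kaehler_free`: if `Ω[B⁄k]` is free of rank `n` then `B` is a regular ring;
* `kaehler_projective_rank_of_isRegularRing`: if `B` is regular then `Ω[B⁄k]` is projective of
  constant rank `n`.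
(Hartshorne II.8.8 / II.8.15, affine form.)
-/

set_option autoImplicit false
set_option linter.style.haveILetI false
universe u

namespace Groth.Agent.Lib.Helper65.OmegaRegular

open IsLocalRing TensorProduct KaehlerDifferential Groth.Agent.Lib.Helper65
open Groth.Agent.Lib.Helper77

variable (k B : Type u) [Field k] [IsAlgClosed k] [CommRing B] [Algebra k B]
  [Algebra.FiniteType k B]

/-- At a maximal ideal of a finite type algebra over an algebraically closed field,
`dim m/m² = dim κ ⊗ Ω_{B_m/k}`. -/
theorem finrank_cotangentSpace_atPrime_eq (m : Ideal B) [m.IsMaximal] :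
    Module.finrank (ResidueField (Localization.AtPrime m))
        (CotangentSpace (Localization.AtPrime m)) =
      Module.finrank (ResidueField (Localization.AtPrime m))
        (ResidueField (Localization.AtPrime m) ⊗[Localization.AtPrime m]
          Ω[Localization.AtPrime m⁄k]) :=
  RegularSmooth.finrank_cotangentSpace_eq k (Localization.AtPrime m)
    (RegularSmooth.bijective_algebraMap_residueField_of_isAlgClosed k B m)

/-- If `B_p ⊗ Ω_{B/k}` is free over `B_p`, the fibre dimension of `Ω_{B_p/k}` is its rank. -/
theorem finrank_fiber_eq_finrank_localization (p : Ideal B) [p.IsPrime]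
    [Module.Free (Localization.AtPrime p) (Localization.AtPrime p ⊗[B] Ω[B⁄k])]
    [Module.Finite (Localization.AtPrime p) (Localization.AtPrime p ⊗[B] Ω[B⁄k])] :
    Module.finrank (ResidueField (Localization.AtPrime p))
        (ResidueField (Localization.AtPrime p) ⊗[Localization.AtPrime p]
          Ω[Localization.AtPrime p⁄k]) =
      Module.finrank (Localization.AtPrime p) (Localization.AtPrime p ⊗[B] Ω[B⁄k]) := by
  let Bp := Localization.AtPrime p
  let e₁ : Bp ⊗[B] Ω[B⁄k] ≃ₗ[Bp] Ω[Bp⁄k] := tensorKaehlerEquivOfFormallyEtale k B Bp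
  haveI : Module.Free Bp Ω[Bp⁄k] := Module.Free.of_equiv e₁
  haveI : Module.Finite Bp Ω[Bp⁄k] := Module.Finite.equiv e₁
  rw [Module.finrank_baseChange, e₁.finrank_eq]

/-- If `Ω[B⁄k]` is free of rank `n`, and all closed points have local dimension `n`, then `B` is
regular. -/
theorem isRegularRing_of_kaehler_free (n : ℕ)
    (hdim : ∀ (m : Ideal B) [m.IsMaximal], ringKrullDim (Localization.AtPrime m) = n)
    (e : Ω[B⁄k] ≃ₗ[B] (Fin n → B)) : IsRegularRing B := by
  have : IsNoetherianRing B := Algebra.FiniteType.isNoetherianRing k B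
  apply RegularLocalization.isRegularRing_of_maximal
  intro m hm
  rw [IsRegularLocalRing.iff_finrank_cotangentSpace, finrank_cotangentSpace_atPrime_eq k B m,
    hdim m]
  let Bm := Localization.AtPrime m
  let e₂ : Bm ⊗[B] Ω[B⁄k] ≃ₗ[Bm] (Fin n → Bm) :=
    (e.baseChange B Bm _ _).trans (TensorProduct.piScalarRight B Bm Bm (Fin n))
  haveI : Module.Free Bm (Bm ⊗[B] Ω[B⁄k]) := Module.Free.of_equiv e₂.symm
  haveI : Module.Finite Bm (Bm ⊗[B] Ω[B⁄k]) := Module.Finite.equiv e₂.symm
  rw [finrank_fiber_eq_finrank_localization k B m, e₂.finrank_eq, Module.finrank_fin_fun]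

/-- If `B` is regular and all closed points have local dimension `n`, then `Ω[B⁄k]` is projective
of constant rank `n`. -/
theorem kaehler_projective_rank_of_isRegularRing (n : ℕ)
    (hdim : ∀ (m : Ideal B) [m.IsMaximal], ringKrullDim (Localization.AtPrime m) = n)
    (hreg : IsRegularRing B) :
    Module.Projective B Ω[B⁄k] ∧ ∀ p : PrimeSpectrum B, Module.rankAtStalk Ω[B⁄k] p = n := by
  have : IsNoetherianRing B := Algebra.FiniteType.isNoetherianRing k B
  have : Algebra.FormallySmooth k B := (RegularSmooth.isRegularRing_iff_formallySmooth k B).mp hreg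
  haveI hproj : Module.Projective B Ω[B⁄k] := Algebra.FormallySmooth.projective_kaehlerDifferential
  refine ⟨hproj, ?_⟩
  haveI : Module.FinitePresentation B Ω[B⁄k] := Module.finitePresentation_of_projective _ _
  have hlc : IsLocallyConstant (Module.rankAtStalk (R := B) Ω[B⁄k]) :=
    Module.isLocallyConstant_rankAtStalk
  -- closed points
  have hmax : ∀ (m : Ideal B) (hm : m.IsMaximal),
      Module.rankAtStalk Ω[B⁄k] (⟨m, hm.isPrime⟩ : PrimeSpectrum B) = n := by
    intro m hm
    haveI : IsRegularLocalRing (Localization.AtPrime m) := (isRegularRing_iff.mp hreg) m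
    have h1 := (IsRegularLocalRing.iff_finrank_cotangentSpace (Localization.AtPrime m)).mp
      inferInstance
    rw [finrank_cotangentSpace_atPrime_eq k B m, hdim m] at h1
    haveI : Module.Free (Localization.AtPrime m) (Localization.AtPrime m ⊗[B] Ω[B⁄k]) :=
      Module.free_of_flat_of_isLocalRing
    rw [finrank_fiber_eq_finrank_localization k B m] at h1
    rw [Module.rankAtStalk_eq_finrank_tensorProduct]
    exact_mod_cast h1
  intro p
  obtain ⟨m, hm, hpm⟩ := Ideal.exists_le_maximal p.asIdeal p.isPrime.ne_top
  have hspec : p ⤳ (⟨m, hm.isPrime⟩ : PrimeSpectrum B) :=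
    (PrimeSpectrum.le_iff_specializes p ⟨m, hm.isPrime⟩).mp hpm
  have hopen : IsOpen (Module.rankAtStalk (R := B) Ω[B⁄k] ⁻¹' {n}) := hlc.isOpen_fiber n
  exact hspec.mem_open hopen (hmax m hm)

end Groth.Agent.Lib.Helper65.OmegaRegular
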