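import Mathlib
import Groth.Agent.Lib.Helper73.DimFT.Catenary

set_option autoImplicit false
set_option linter.style.haveILetI false
universe u
namespace Groth.Agent.Lib.Helper65.RegularDim
open IsLocalRing TensorProduct KaehlerDifferential

/-- In a finite type algebra over a field with irreducible spectrum, all maximal ideals have
height `dim A`. -/
theorem height_eq_ringKrullDim_of_isMaximal (k A : Type u) [Field k] [CommRing A] [Algebra k A]
    [Algebra.FiniteType k A] (hirr : (nilradical A).IsPrime) (m : Ideal A) [hm : m.IsMaximal] :
    (m.height : WithBot ℕ∞) = ringKrullDim A := by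
  set N := nilradical A with hN
  let π := Ideal.Quotient.mk N
  have hπ : Function.Surjective π := Ideal.Quotient.mk_surjective
  haveI : IsDomain (A ⧸ N) := Ideal.Quotient.isDomain N
  let e : PrimeSpectrum (A ⧸ N) ≃o PrimeSpectrum A :=
    { toEquiv := Equiv.ofBijective (PrimeSpectrum.comap π)
        (PrimeSpectrum.comap_quotientMk_bijective_of_le_nilradical le_rfl)
      map_rel_iff' := by
        intro p q
        change Ideal.comap π p.asIdeal ≤ Ideal.comap π q.asIdeal ↔ p.asIdeal ≤ q.asIdeal
        exact Ideal.comap_le_comap_iff_of_surjective π hπ _ _ }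
  have hdim : ringKrullDim (A ⧸ N) = ringKrullDim A := Order.krullDim_eq_of_orderIso e
  let M : PrimeSpectrum A := ⟨m, hm.isPrime⟩
  let M' : PrimeSpectrum (A ⧸ N) := e.symm M
  have hM' : Ideal.comap π M'.asIdeal = m := congrArg PrimeSpectrum.asIdeal (e.apply_symm_apply M)
  haveI : M'.asIdeal.IsMaximal := by
    have h1 : M'.asIdeal = Ideal.map π m := by
      rw [← hM', Ideal.map_comap_of_surjective π hπ]
    rcases Ideal.map_eq_top_or_isMaximal_of_surjective π hπ hm with h | h
    · exact absurd (h1.trans h) M'.2.ne_top
    · rw [h1]; exact h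
  have h2 := Groth.Agent.Lib.Helper73.height_eq_ringKrullDim_of_isMaximal k M'.asIdeal
  have h3 : M'.asIdeal.height = m.height := by
    have h4 := PrimeSpectrum.height_eq_orderHeight M'
    have h5 := PrimeSpectrum.height_eq_orderHeight M
    have := Order.height_orderIso e M'
    rw [show e M' = M from e.apply_symm_apply M] at this
    rw [h4, ← this, ← h5]
  rw [← h3, h2, hdim]

end Groth.Agent.Lib.Helper65.RegularDim
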