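import Mathlib

/-!
# Schanuel's lemma for conormal modules (Stacks 00S1) and consequences

* `schanuel P P'` : for two polynomial presentations `P, P'` of an `R`-algebra `T` with kernels
  `J₁, J₂`, `J₁/J₁² × T^τ ≃ J₂/J₂² × T^σ`.
* `cotangentExtendEquiv` : adding variables to a presentation adds a free summand.
* `projective_tensor_cotangent_of_away` : if some presentation of a principal localization `B = T_g'`
  has projective conormal module then `B ⊗ J/J²` is projective for every presentation of `T`.
* `projective_of_forall_exists_away` : Zariski-local criterion for projectivity of a finite module.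
* `naiveCotangentEquiv` : the conormal module of `Generators.naive` is `I/I²`.
-/

universe u v w w'

namespace Groth.Agent.Lib.Helper65.Schanuel

open TensorProduct MvPolynomial Algebra

variable {R : Type u} {T : Type v} [CommRing R] [CommRing T] [Algebra R T]
variable {σ : Type w} {τ : Type w'}

/-- generators of `T` over itself with prescribed values. -/
noncomputable def selfGen (t : τ → T) : Generators T T τ :=
  .ofSurjective t (fun x => ⟨C x, by simp⟩)

@[simp] lemma selfGen_val (t : τ → T) : (selfGen t).val = t := rfl

variable (P : Generators R T σ) (t : τ → T)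

/-- the retraction `R[Y,X] → R[X]`, `Y_j ↦ ` a lift of `t j`. -/
noncomputable def retr : Generators.Hom ((selfGen t).comp P) P where
  val i := i.elim (fun j => P.σ (t j)) X
  aeval_val i := by
    cases i <;> simp [Generators.comp]

lemma retr_comp_toComp : (retr P t).comp ((selfGen t).toComp P) = Generators.Hom.id P := by
  ext i
  simp [Generators.Hom.comp, Generators.toComp, retr]

lemma retrMap_comp_incl :
    (Extension.Cotangent.map (retr P t).toExtensionHom) ∘ₗ
      (Extension.Cotangent.map ((selfGen t).toComp P).toExtensionHom) = LinearMap.id := by
  have h := Extension.Cotangent.map_comp (f := ((selfGen t).toComp P).toExtensionHom)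
    (g := (retr P t).toExtensionHom)
  rw [← Generators.Hom.toExtensionHom_comp, retr_comp_toComp, Generators.Hom.toExtensionHom_id,
    Extension.Cotangent.map_id] at h
  rw [h]
  rfl

lemma exact_incl_proj :
    Function.Exact (Extension.Cotangent.map ((selfGen t).toComp P).toExtensionHom)
      (Extension.Cotangent.map ((selfGen t).ofComp P).toExtensionHom) := by
  have h := Generators.Cotangent.exact (selfGen t) P
  intro y
  rw [h y]
  constructor
  · rintro ⟨x, rfl⟩
    induction x using TensorProduct.induction_on with
    | zero => exact ⟨0, by simp⟩
    | tmul a m => exact ⟨a • m, by simp⟩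
    | add x y hx hy =>
      obtain ⟨x', hx'⟩ := hx
      obtain ⟨y', hy'⟩ := hy
      exact ⟨x' + y', by simp [hx', hy']⟩
  · rintro ⟨x, rfl⟩
    exact ⟨1 ⊗ₜ x, by simp⟩

/-- adding variables to a presentation adds a free summand to the conormal module. -/
noncomputable def cotangentCompSelfEquiv :
    ((selfGen t).comp P).toExtension.Cotangent ≃ₗ[T]
      P.toExtension.Cotangent × (selfGen t).toExtension.Cotangent :=
  ((exact_incl_proj P t).splitInjectiveEquiv (Generators.Cotangent.surjective_map_ofComp _ _)
    ⟨_, retrMap_comp_incl P t⟩).1

lemma cotangentComplex_selfGen_bijective :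
    Function.Bijective (selfGen t).toExtension.cotangentComplex := by
  constructor
  · have : Algebra.FormallySmooth T (selfGen t).toExtension.Ring :=
      inferInstanceAs (Algebra.FormallySmooth T (MvPolynomial τ T))
    rw [Extension.cotangentComplex_injective_iff]
    infer_instance
  · intro y
    have h := (selfGen t).toExtension.exact_cotangentComplex_toKaehler y
    exact h.mp (Subsingleton.elim _ _)

/-- the conormal module of `T[Y] → T` is free on the variables. -/
noncomputable def cotangentSelfGenEquiv : (selfGen t).toExtension.Cotangent ≃ₗ[T] (τ →₀ T) :=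
  (LinearEquiv.ofBijective _ (cotangentComplex_selfGen_bijective t)).trans
    (selfGen t).cotangentSpaceBasis.repr

/-- Lemma A -/
noncomputable def cotangentExtendEquiv :
    ((selfGen t).comp P).toExtension.Cotangent ≃ₗ[T] P.toExtension.Cotangent × (τ →₀ T) :=
  (cotangentCompSelfEquiv P t).trans
    (LinearEquiv.prodCongr (LinearEquiv.refl _ _) (cotangentSelfGenEquiv t))

section reindex

variable {ι₁ : Type*} {ι₂ : Type*} (G₁ : Generators R T ι₁) (G₂ : Generators R T ι₂)
  (e : ι₁ ≃ ι₂) (he : ∀ i, G₂.val (e i) = G₁.val i)

/-- the hom of generators induced by a bijection of variables. -/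
noncomputable def reindexHom : Generators.Hom G₁ G₂ where
  val i := X (e i)
  aeval_val i := by simp [he]

include he in
lemma reindexHom_comp : (reindexHom G₂ G₁ e.symm (fun j => by rw [← he]; simp)).comp
    (reindexHom G₁ G₂ e he) = Generators.Hom.id G₁ := by
  ext i
  simp [Generators.Hom.comp, reindexHom]

/-- conormal modules of presentations differing by a bijection of the variables. -/
noncomputable def cotangentReindexEquiv :
    G₁.toExtension.Cotangent ≃ₗ[T] G₂.toExtension.Cotangent :=
  LinearEquiv.ofLinearMap
    (Extension.Cotangent.map (reindexHom G₁ G₂ e he).toExtensionHom)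
    (Extension.Cotangent.map
      (reindexHom G₂ G₁ e.symm (fun j => by rw [← he]; simp)).toExtensionHom)
    (by
      have h := Extension.Cotangent.map_comp
        (f := (reindexHom G₂ G₁ e.symm (fun j => by rw [← he]; simp)).toExtensionHom)
        (g := (reindexHom G₁ G₂ e he).toExtensionHom)
      have h2 : (reindexHom G₁ G₂ e he).comp
          (reindexHom G₂ G₁ e.symm (fun j => by rw [← he]; simp)) = Generators.Hom.id G₂ := by
        ext i
        simp [Generators.Hom.comp, reindexHom]
      rw [← Generators.Hom.toExtensionHom_comp, h2, Generators.Hom.toExtensionHom_id,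
        Extension.Cotangent.map_id] at h
      rw [h]; rfl)
    (by
      have h := Extension.Cotangent.map_comp
        (f := (reindexHom G₁ G₂ e he).toExtensionHom)
        (g := (reindexHom G₂ G₁ e.symm (fun j => by rw [← he]; simp)).toExtensionHom)
      rw [← Generators.Hom.toExtensionHom_comp, reindexHom_comp G₁ G₂ e he,
        Generators.Hom.toExtensionHom_id, Extension.Cotangent.map_id] at h
      rw [h]; rfl)

end reindex

/-- **Schanuel's lemma for conormal modules** (Stacks 00S1): for two presentations
`R[X_σ] → T` and `R[Y_τ] → T` with kernels `J₁`, `J₂` one has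
`J₁/J₁² × T^τ ≃ J₂/J₂² × T^σ`. -/
noncomputable def schanuel {τ : Type w'} (P : Generators R T σ) (P' : Generators R T τ) :
    (P.toExtension.Cotangent × (τ →₀ T)) ≃ₗ[T] (P'.toExtension.Cotangent × (σ →₀ T)) :=
  (cotangentExtendEquiv P P'.val).symm.trans <|
    (cotangentReindexEquiv ((selfGen P'.val).comp P) ((selfGen P.val).comp P')
      (Equiv.sumComm τ σ) (fun i => by cases i <;> simp [Generators.comp])).trans
    (cotangentExtendEquiv P' P.val)



section core

set_option linter.style.haveILetI false

theorem projective_tensor_cotangent_of_away {R T B : Type u} [CommRing R] [CommRing T]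
    [CommRing B] [Algebra R T] [Algebra R B] [Algebra T B] [IsScalarTower R T B]
    {ι κ : Type*} (PT : Generators R T ι) (g' : T) [IsLocalization.Away g' B]
    (PG : Generators R B κ) [Module.Projective B PG.toExtension.Cotangent] :
    Module.Projective B (B ⊗[T] PT.toExtension.Cotangent) := by
  obtain ⟨x, hx⟩ := Generators.Cotangent.surjective_map_ofComp
    (Generators.localizationAway B g') PT (Generators.cMulXSubOneCotangent B g')
  let e1 := Generators.cotangentCompLocalizationAwayEquiv g' PT hx
  let e2 := schanuel ((Generators.localizationAway B g').comp PT) PG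
  haveI : Module.Projective B (PG.toExtension.Cotangent × ((Unit ⊕ ι) →₀ B)) := inferInstance
  haveI : Module.Projective B
      (((Generators.localizationAway B g').comp PT).toExtension.Cotangent × (κ →₀ B)) :=
    .of_equiv e2.symm
  haveI : Module.Projective B ((Generators.localizationAway B g').comp PT).toExtension.Cotangent :=
    .of_split (LinearMap.inl B _ (κ →₀ B)) (LinearMap.fst B _ (κ →₀ B)) (by ext; simp)
  haveI : Module.Projective B (B ⊗[T] PT.toExtension.Cotangent ×
      (Generators.localizationAway B g').toExtension.Cotangent) := .of_equiv e1
  exact .of_split (LinearMap.inl B _ (Generators.localizationAway B g').toExtension.Cotangent)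
    (LinearMap.fst B _ _) (by ext; simp)

end core



section L

variable {T : Type*} [CommRing T] {M : Type*} [AddCommGroup M] [Module T M]

/-- base change of projectivity between two algebras over the base. -/
theorem projective_tensor_of_tower (B C : Type*) [CommRing B] [CommRing C] [Algebra T B]
    [Algebra T C] [Algebra B C] [IsScalarTower T B C] [Module.Projective B (B ⊗[T] M)] :
    Module.Projective C (C ⊗[T] M) :=
  Module.Projective.of_equiv (AlgebraTensorModule.cancelBaseChange T B C C M)

theorem projective_of_isLocalizedModule_iff (S : Submonoid T) (A : Type*) [CommRing A]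
    [Algebra T A] [IsLocalization S A] {M' : Type*} [AddCommGroup M'] [Module T M'] [Module A M']
    [IsScalarTower T A M'] (f : M →ₗ[T] M') [IsLocalizedModule S f] :
    Module.Projective A M' ↔ Module.Projective A (A ⊗[T] M) :=
  ⟨fun _ => Module.Projective.of_equiv (IsLocalizedModule.isBaseChange S A f).equiv.symm,
   fun _ => Module.Projective.of_equiv (IsLocalizedModule.isBaseChange S A f).equiv⟩

end L

section LG

variable {T : Type u} [CommRing T] {M : Type v} [AddCommGroup M] [Module T M]

set_option linter.style.haveILetI false

/-- algebra structure between two localizations where `g` becomes invertible -/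
theorem projective_localization_of_away (g : T) (B : Type*) [CommRing B] [Algebra T B]
    [IsLocalization.Away g B] [Module.Projective B (B ⊗[T] M)]
    (S : Submonoid T) (hgS : g ∈ S) (C : Type*) [CommRing C] [Algebra T C] [IsLocalization S C]
    {M' : Type*} [AddCommGroup M'] [Module T M'] [Module C M'] [IsScalarTower T C M']
    (f : M →ₗ[T] M') [IsLocalizedModule S f] : Module.Projective C M' := by
  have hu : IsUnit (algebraMap T C g) := IsLocalization.map_units C ⟨g, hgS⟩
  letI : Algebra B C := (IsLocalization.Away.lift (S := B) g hu).toAlgebra
  haveI : IsScalarTower T B C := .of_algebraMap_eq' (IsLocalization.Away.lift_comp g hu).symm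
  haveI := projective_tensor_of_tower (T := T) (M := M) B C
  exact (projective_of_isLocalizedModule_iff S C f).mpr this

theorem projective_of_forall_exists_away [Module.Finite T M]
    (h : ∀ q : Ideal T, q.IsPrime → ∃ g ∉ q, ∃ (B : Type u) (_ : CommRing B) (_ : Algebra T B),
      IsLocalization.Away g B ∧ Module.Projective B (B ⊗[T] M)) :
    Module.Projective T M := by
  have ha : ∀ q : Ideal T, q.IsPrime → ∃ g ∉ q,
      Module.Projective (Localization.Away g) (LocalizedModule.Away g M) := by
    intro q hq
    obtain ⟨g, hgq, B, _, _, hB, hP⟩ := h q hq
    exact ⟨g, hgq, projective_localization_of_away g B (Submonoid.powers g)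
      (Submonoid.mem_powers g) _ (LocalizedModule.mkLinearMap (Submonoid.powers g) M)⟩
  let s : Set T := {g | Module.Projective (Localization.Away g) (LocalizedModule.Away g M)}
  have hs : Ideal.span s = ⊤ := by
    by_contra hne
    obtain ⟨m, hm, hle⟩ := Ideal.exists_le_maximal _ hne
    obtain ⟨g, hgm, hg⟩ := ha m hm.isPrime
    exact hgm (hle (Ideal.subset_span hg))
  haveI : Module.FinitePresentation T M := by
    refine Module.FinitePresentation.of_localizationSpan s hs fun g => ?_
    haveI : Module.Projective (Localization.Away g.1) (LocalizedModule.Away g.1 M) := g.2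
    haveI : Module.Finite (Localization.Away g.1) (LocalizedModule.Away g.1 M) := inferInstance
    exact Module.finitePresentation_of_projective _ _
  apply Module.projective_of_localization_maximal
  intro m hm
  obtain ⟨g, hgm, hg⟩ := ha m hm.isPrime
  haveI : Module.Projective (Localization.Away g) (Localization.Away g ⊗[T] M) :=
    (projective_of_isLocalizedModule_iff (Submonoid.powers g) _
      (LocalizedModule.mkLinearMap (Submonoid.powers g) M)).mp hg
  exact projective_localization_of_away g (Localization.Away g) m.primeCompl hgm _
    (LocalizedModule.mkLinearMap m.primeCompl M)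

end LG



section bridge

/-- conormal modules of equal ideals. -/
noncomputable def cotangentEquivOfEq {A : Type*} [CommRing A] {I J : Ideal A} (h : I = J) :
    I.Cotangent ≃ₗ[A] J.Cotangent := by
  subst h; exact LinearEquiv.refl A _

variable {R : Type*} [CommRing R] {σ : Type*} (I : Ideal (MvPolynomial σ R))

noncomputable def aux1 :
    (Generators.naive (I := I)).toExtension.Cotangent ≃ₗ[MvPolynomial σ R]
      (RingHom.ker (algebraMap (MvPolynomial σ R) (MvPolynomial σ R ⧸ I))).Cotangent :=
  (Generators.naive (I := I)).toExtension.cotangentEquivCotangentKer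

/-- the conormal module of the naive presentation of `R[X]/I` is `I/I²`. -/
noncomputable def naiveCotangentEquivAux :
    (Generators.naive (I := I)).toExtension.Cotangent ≃ₗ[MvPolynomial σ R] I.Cotangent :=
  (aux1 I).trans (cotangentEquivOfEq (by rw [Ideal.Quotient.algebraMap_eq, Ideal.mk_ker]))

/-- the conormal module of the naive presentation of `R[X]/I` is `I/I²`. -/
noncomputable def naiveCotangentEquiv :
    (Generators.naive (I := I)).toExtension.Cotangent ≃ₗ[MvPolynomial σ R ⧸ I] I.Cotangent :=
  { naiveCotangentEquivAux I with
    map_smul' := by
      intro r x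
      obtain ⟨a, rfl⟩ := Ideal.Quotient.mk_surjective r
      have h1 : (Ideal.Quotient.mk I a) • x = a • x := rfl
      have h2 : ∀ y : I.Cotangent, (Ideal.Quotient.mk I a) • y = a • y := fun y => by
        rw [← Ideal.Quotient.algebraMap_eq, algebraMap_smul]
      change naiveCotangentEquivAux I (Ideal.Quotient.mk I a • x) =
        Ideal.Quotient.mk I a • naiveCotangentEquivAux I x
      rw [h1, h2, map_smul] }

end bridge

end Groth.Agent.Lib.Helper65.Schanuel
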