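import Mathlib
import Groth.Agent.Lib.Helper65.Schanuel

/-!
# Schanuel's lemma for conormal modules, localized form (Stacks 00S2)

* `schanuel_away g P P'` : for a presentation `P` of `S` and a presentation `P'` of a principal
  localization `T = S_g`, `(T ⊗ I/I²) × T^κ ≃ J/J² × T^ι`.
* `liftBaseChange_injective_of_away`, `cotangentEquivOfAway`, `exists_cotangentCompEquiv_of_away`.
* `ofSurjectiveCotangentEquiv` : conormal modules of `Extension.ofSurjective α` and
  `Generators.ofAlgHom α` agree.
-/

universe u v w w'

namespace Groth.Agent.Lib.Helper65.Schanuel

set_option linter.style.haveILetI false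

open TensorProduct MvPolynomial Algebra

section away

variable {R S T : Type u} [CommRing R] [CommRing S] [CommRing T] [Algebra R S] [Algebra R T]
  [Algebra S T] [IsScalarTower R S T] (g : S) [IsLocalization.Away g T]
variable {ι κ : Type*} (P : Generators R S ι) (Q : Generators S T κ)

/-- the comparison hom from `Q.comp P` into the big presentation. -/
noncomputable def bigHom : Generators.Hom (Q.comp P)
    ((selfGen Q.val).comp ((Generators.localizationAway T g).comp P)) where
  val i := i.elim (fun j => X (Sum.inl j)) (fun i => X (Sum.inr (Sum.inr i)))
  aeval_val i := by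
    cases i <;> simp [Generators.comp]

lemma bigHom_comp :
    (bigHom g P Q).comp (Q.toComp P) =
      ((selfGen Q.val).toComp ((Generators.localizationAway T g).comp P)).comp
        ((Generators.localizationAway T g).toComp P) := by
  ext i
  simp [Generators.Hom.comp, Generators.toComp, bigHom]

include g in
/-- for `T` a principal localization of `S` and arbitrary generators `Q` of `T` over `S`, the map
`T ⊗[S] (I/I²) → J/J²` is injective. -/
lemma liftBaseChange_injective_of_away :
    Function.Injective (LinearMap.liftBaseChange T
      (Extension.Cotangent.map (Q.toComp P).toExtensionHom)) := by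
  have hk : Function.Injective (Extension.Cotangent.map
      ((selfGen Q.val).toComp ((Generators.localizationAway T g).comp P)).toExtensionHom) := by
    have := retrMap_comp_incl ((Generators.localizationAway T g).comp P) Q.val
    exact Function.LeftInverse.injective (g := Extension.Cotangent.map
      (retr ((Generators.localizationAway T g).comp P) Q.val).toExtensionHom)
      (fun x => LinearMap.congr_fun this x)
  have h2 := Generators.liftBaseChange_injective_of_isLocalizationAway (T := T) g P
  have key : (Extension.Cotangent.map (bigHom g P Q).toExtensionHom) ∘ₗ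
      (LinearMap.liftBaseChange T (Extension.Cotangent.map (Q.toComp P).toExtensionHom)) =
      (Extension.Cotangent.map
        ((selfGen Q.val).toComp ((Generators.localizationAway T g).comp P)).toExtensionHom) ∘ₗ
      (LinearMap.liftBaseChange T (Extension.Cotangent.map
        ((Generators.localizationAway T g).toComp P).toExtensionHom)) := by
    rw [LinearMap.liftBaseChange_comp, LinearMap.liftBaseChange_comp]
    congr 1
    rw [← Extension.Cotangent.map_comp, ← Extension.Cotangent.map_comp,
      ← Generators.Hom.toExtensionHom_comp, ← Generators.Hom.toExtensionHom_comp, bigHom_comp]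
  intro z₁ z₂ hz
  apply h2
  apply hk
  have := LinearMap.congr_fun key
  simp only [LinearMap.comp_apply] at this
  rw [← this, ← this, hz]

include g in
lemma cotangentComplex_bijective_of_away :
    Function.Bijective Q.toExtension.cotangentComplex := by
  haveI : Algebra.FormallyEtale S T := Algebra.FormallyEtale.of_isLocalization (Submonoid.powers g)
  constructor
  · have : Algebra.FormallySmooth S Q.toExtension.Ring :=
      inferInstanceAs (Algebra.FormallySmooth S (MvPolynomial κ S))
    rw [Extension.cotangentComplex_injective_iff]
    infer_instance
  · intro y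
    have h := Q.toExtension.exact_cotangentComplex_toKaehler y
    exact h.mp (Subsingleton.elim _ _)

/-- `K/K²` is free on the variables when `T` is a principal localization of `S`. -/
noncomputable def cotangentEquivOfAway : Q.toExtension.Cotangent ≃ₗ[T] (κ →₀ T) :=
  (LinearEquiv.ofBijective _ (cotangentComplex_bijective_of_away g Q)).trans
    Q.cotangentSpaceBasis.repr

include g in
lemma exists_cotangentCompEquiv_of_away :
    Nonempty ((Q.comp P).toExtension.Cotangent ≃ₗ[T]
      (T ⊗[S] P.toExtension.Cotangent) × (κ →₀ T)) := by
  haveI : Module.Projective T Q.toExtension.Cotangent :=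
    Module.Projective.of_equiv (cotangentEquivOfAway g Q).symm
  obtain ⟨l, hl⟩ := Module.projective_lifting_property
    (Extension.Cotangent.map (Q.ofComp P).toExtensionHom) LinearMap.id
    (Generators.Cotangent.surjective_map_ofComp Q P)
  exact ⟨(((Generators.Cotangent.exact Q P).splitSurjectiveEquiv
    (liftBaseChange_injective_of_away g P Q) ⟨l, hl⟩).1).trans
    (LinearEquiv.prodCongr (LinearEquiv.refl _ _) (cotangentEquivOfAway g Q))⟩

include g in
/-- **Schanuel's lemma, localized form** (Stacks 00S2-type): for a presentation `P` of `S` and a
presentation `P'` of a principal localization `T = S_g`,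
`(I/I²)_g × T^κ ≃ J/J² × T^ι`. -/
theorem schanuel_away (P' : Generators R T κ) :
    Nonempty (((T ⊗[S] P.toExtension.Cotangent) × (κ →₀ T)) ≃ₗ[T]
      (P'.toExtension.Cotangent × (ι →₀ T))) := by
  obtain ⟨e1⟩ := exists_cotangentCompEquiv_of_away g P (P'.extendScalars S)
  let t : ι → T := fun i => algebraMap S T (P.val i)
  let e2 := cotangentExtendEquiv P' t
  let e3 := cotangentReindexEquiv ((P'.extendScalars S).comp P) ((selfGen t).comp P')
    (Equiv.sumComm κ ι) (fun i => by cases i <;> simp [Generators.comp, t, Generators.extendScalars])
  exact ⟨e1.symm.trans (e3.trans e2)⟩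

end away



section ofSurj

variable {R S : Type u} [CommRing R] [CommRing S] [Algebra R S] {ι : Type*}
  (α : MvPolynomial ι R →ₐ[R] S) (hα : Function.Surjective α)

lemma algebraMap_ofAlgHom (x : MvPolynomial ι R) :
    algebraMap (Generators.ofAlgHom α hα).toExtension.Ring S x = α x := by
  change algebraMap (Generators.ofAlgHom α hα).Ring S x = α x
  rw [Generators.algebraMap_apply]
  have : aeval (Generators.ofAlgHom α hα).val = α := by
    ext i; simp [Generators.ofAlgHom]
  rw [this]

lemma algebraMap_ofSurjective (x : MvPolynomial ι R) :
    algebraMap (Extension.ofSurjective α hα).Ring S x = α x := rfl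

/-- identity hom `ofSurjective → ofAlgHom.toExtension` -/
noncomputable def homTo : (Extension.ofSurjective α hα).Hom (Generators.ofAlgHom α hα).toExtension where
  toRingHom := RingHom.id _
  toRingHom_algebraMap x := rfl
  algebraMap_toRingHom x := by
    rw [Algebra.algebraMap_self, RingHom.id_apply]
    exact (algebraMap_ofAlgHom α hα x).trans (algebraMap_ofSurjective α hα x).symm

/-- identity hom `ofAlgHom.toExtension → ofSurjective` -/
noncomputable def homFrom : (Generators.ofAlgHom α hα).toExtension.Hom (Extension.ofSurjective α hα) where
  toRingHom := RingHom.id _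
  toRingHom_algebraMap x := rfl
  algebraMap_toRingHom x := by
    rw [Algebra.algebraMap_self, RingHom.id_apply]
    exact (algebraMap_ofSurjective α hα x).trans (algebraMap_ofAlgHom α hα x).symm

/-- the conormal modules of `Extension.ofSurjective α` and `Generators.ofAlgHom α` agree. -/
noncomputable def ofSurjectiveCotangentEquiv :
    (Extension.ofSurjective α hα).Cotangent ≃ₗ[S]
      (Generators.ofAlgHom α hα).toExtension.Cotangent :=
  LinearEquiv.ofLinearMap (Extension.Cotangent.map (homTo α hα))
    (Extension.Cotangent.map (homFrom α hα))
    (by
      ext x
      obtain ⟨x, rfl⟩ := Extension.Cotangent.mk_surjective x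
      rfl)
    (by
      ext x
      obtain ⟨x, rfl⟩ := Extension.Cotangent.mk_surjective x
      rfl)

end ofSurj

end Groth.Agent.Lib.Helper65.Schanuel
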