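import Mathlib
import Groth.Agent.Lib.Helper65.GenericSmooth
import Groth.Agent.Lib.Helper65.EtaleCoord

/-!
# Étaleness along sections from bijectivity of the conormal map (helper65)

`isEtaleAt_of_bijective_mapCotangent`: `B₂ → B₁` augmented `A`-algebras, `B₁` smooth along its
section, conormal map `b₂/b₂² → b₁/b₁²` bijective ⇒ `B₂ → B₁` étale along the section.
-/

set_option autoImplicit false
set_option linter.style.haveILetI false
set_option linter.unusedVariables false
set_option linter.unusedSectionVars false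
universe u

namespace Groth.Agent.Lib.Helper65.SectionEtale

open TensorProduct KaehlerDifferential IsLocalRing

/-- Derivation attached to a linear map on the augmentation ideal killing its square. -/
theorem exists_derivation_of_section {A B V : Type*} [CommRing A] [CommRing B] [Algebra A B]
    [AddCommGroup V] [Module B V] [Module A V] [IsScalarTower A B V]
    (σ : B →ₐ[A] A) (hV : ∀ i ∈ RingHom.ker σ, ∀ v : V, i • v = 0)
    (Λ : ↥(RingHom.ker σ) →ₗ[A] V)
    (hΛ : ∀ (x : B) (hx : x ∈ RingHom.ker σ), x ∈ RingHom.ker σ ^ 2 → Λ ⟨x, hx⟩ = 0) :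
    ∃ d : Derivation A B V, ∀ (x : B) (hx : x ∈ RingHom.ker σ), d x = Λ ⟨x, hx⟩ := by
  have hmem : ∀ a : B, a - algebraMap A B (σ a) ∈ RingHom.ker σ := by
    intro a
    rw [RingHom.mem_ker, map_sub, AlgHom.commutes, Algebra.algebraMap_self, RingHom.id_apply,
      sub_self]
  let pr : B →ₗ[A] ↥(RingHom.ker σ) :=
    { toFun := fun a => ⟨a - algebraMap A B (σ a), hmem a⟩
      map_add' := fun x y => Subtype.ext (by simp only [map_add, Submodule.coe_add]; ring)
      map_smul' := fun r x => Subtype.ext (by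
        simp only [map_mul, RingHom.id_apply, Submodule.coe_smul_of_tower,
          Algebra.smul_def, AlgHom.commutes, Algebra.algebraMap_self]
        ring) }
  have hsmul : ∀ (a : B) (v : V), a • v = (σ a) • v := by
    intro a v
    have h1 := hV _ (hmem a) v
    rw [sub_smul, sub_eq_zero, algebraMap_smul] at h1
    exact h1
  refine ⟨Derivation.mk' (Λ ∘ₗ pr) ?_, ?_⟩
  · intro a b
    have hprod : (a - algebraMap A B (σ a)) * (b - algebraMap A B (σ b)) ∈ RingHom.ker σ ^ 2 := by
      rw [pow_two]; exact Ideal.mul_mem_mul (hmem a) (hmem b)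
    have hdecomp : pr (a * b) = ⟨_, Ideal.pow_le_self two_ne_zero hprod⟩ + (σ a) • pr b +
        (σ b) • pr a := by
      apply Subtype.ext
      simp only [pr, LinearMap.coe_mk, AddHom.coe_mk, map_mul, Submodule.coe_add,
        Submodule.coe_smul_of_tower, Algebra.smul_def]
      ring
    rw [LinearMap.comp_apply, hdecomp, map_add, map_add, hΛ _ _ hprod, zero_add, map_smul, map_smul,
      hsmul a, hsmul b]
    rfl
  · intro j hj
    have : pr j = ⟨j, hj⟩ := by
      apply Subtype.ext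
      have : σ j = 0 := hj
      simp [pr, this]
    change Λ (pr j) = _
    rw [this]

section

variable {A B₁ B₂ : Type u} [CommRing A] [CommRing B₁] [CommRing B₂] [Algebra A B₁] [Algebra A B₂]
  [Algebra B₂ B₁] [IsScalarTower A B₂ B₁]
  (σ₁ : B₁ →ₐ[A] A) (σ₂ : B₂ →ₐ[A] A)
  (hle : RingHom.ker σ₂ ≤ (RingHom.ker σ₁).comap (IsScalarTower.toAlgHom A B₂ B₁))
  (T : Type u) [CommRing T] [IsLocalRing T] [Algebra B₁ T] [Algebra A T] [IsScalarTower A B₁ T]
  [Algebra B₂ T] [IsScalarTower B₂ B₁ T] [IsScalarTower A B₂ T]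
  (hT : ∀ x ∈ RingHom.ker σ₁, algebraMap B₁ T x ∈ maximalIdeal T)

include hT in
theorem D_mem_smul_top_of_mem_sq (z : B₁) (hz : z ∈ RingHom.ker σ₁ ^ 2) :
    D A T (algebraMap B₁ T z) ∈ maximalIdeal T • (⊤ : Submodule T Ω[T⁄A]) := by
  rw [pow_two] at hz
  refine Submodule.mul_induction_on hz ?_ ?_
  · intro u hu v hv
    rw [map_mul, Derivation.leibniz]
    exact Submodule.add_mem _ (Submodule.smul_mem_smul (hT u hu) Submodule.mem_top)
      (Submodule.smul_mem_smul (hT v hv) Submodule.mem_top)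
  · intro x y hx hy
    rw [map_add, map_add]
    exact Submodule.add_mem _ hx hy

include hT in
theorem D_mem_range_sup
    (hc : Function.Surjective (Ideal.mapCotangent (RingHom.ker σ₂) (RingHom.ker σ₁)
      (IsScalarTower.toAlgHom A B₂ B₁) hle)) (x : B₁) :
    D A T (algebraMap B₁ T x) ∈ LinearMap.range (mapBaseChange A B₂ T) ⊔
      maximalIdeal T • (⊤ : Submodule T Ω[T⁄A]) := by
  have hmem : x - algebraMap A B₁ (σ₁ x) ∈ RingHom.ker σ₁ := by
    rw [RingHom.mem_ker, map_sub, AlgHom.commutes, Algebra.algebraMap_self, RingHom.id_apply,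
      sub_self]
  obtain ⟨y', hy'⟩ := hc ((RingHom.ker σ₁).toCotangent ⟨_, hmem⟩)
  obtain ⟨⟨y, hy⟩, rfl⟩ := Ideal.toCotangent_surjective _ y'
  rw [Ideal.mapCotangent_toCotangent, Ideal.toCotangent_eq] at hy'
  -- hy' : f y - (x - σ x) ∈ b₁²
  have h1 := D_mem_smul_top_of_mem_sq σ₁ T hT _ hy'
  simp only [IsScalarTower.coe_toAlgHom', map_sub, Derivation.map_algebraMap, sub_zero,
    ← IsScalarTower.algebraMap_apply] at h1
  have h2 : D A T (algebraMap B₂ T y) ∈ LinearMap.range (mapBaseChange A B₂ T) := by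
    refine ⟨1 ⊗ₜ D A B₂ y, ?_⟩
    rw [mapBaseChange_tmul, one_smul, map_D]
  have h3 : D A T (algebraMap B₁ T x) = D A T (algebraMap B₂ T y) -
      (D A T (algebraMap B₂ T y) - D A T (algebraMap B₁ T x)) := by abel
  rw [h3]
  exact Submodule.sub_mem _ (Submodule.mem_sup_left h2) (Submodule.mem_sup_right h1)

include hT in
theorem mem_smul_top_of_mapBaseChange_eq_zero [Algebra.FormallyEtale B₁ T]
    (hc : Function.Bijective (Ideal.mapCotangent (RingHom.ker σ₂) (RingHom.ker σ₁)
      (IsScalarTower.toAlgHom A B₂ B₁) hle))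
    (x : T ⊗[B₂] Ω[B₂⁄A]) (hx : mapBaseChange A B₂ T x = 0) :
    x ∈ maximalIdeal T • (⊤ : Submodule T (T ⊗[B₂] Ω[B₂⁄A])) := by
  let M' := T ⊗[B₂] Ω[B₂⁄A]
  let N : Submodule T M' := maximalIdeal T • (⊤ : Submodule T M')
  let V := M' ⧸ N
  haveI i1 : IsScalarTower B₁ T M' := TensorProduct.isScalarTower_left
  haveI i2 : IsScalarTower A T M' := TensorProduct.isScalarTower_left
  letI i3 : Module B₁ V := Submodule.Quotient.module' N
  letI i4 : Module A V := Submodule.Quotient.module' N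
  have hmV : ∀ t ∈ maximalIdeal T, ∀ v : V, t • v = 0 := by
    intro t ht v
    obtain ⟨u, rfl⟩ := Submodule.Quotient.mk_surjective N v
    rw [← Submodule.Quotient.mk_smul, Submodule.Quotient.mk_eq_zero]
    exact Submodule.smul_mem_smul ht Submodule.mem_top
  have hV : ∀ i ∈ RingHom.ker σ₁, ∀ v : V, i • v = 0 := by
    intro i hi v
    rw [← algebraMap_smul T i v]
    exact hmV _ (hT i hi) v
  have hb₂ : ∀ y ∈ RingHom.ker σ₂, algebraMap B₂ T y ∈ maximalIdeal T := by
    intro y hy
    rw [IsScalarTower.algebraMap_apply B₂ B₁ T]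
    exact hT _ (hle hy)
  let μ : ↥(RingHom.ker σ₂) →ₗ[A] V :=
    { toFun := fun y => N.mkQ ((1 : T) ⊗ₜ[B₂] D A B₂ (y : B₂))
      map_add' := fun x y => by
        simp only [Submodule.coe_add, map_add, TensorProduct.tmul_add]
      map_smul' := fun a y => by
        simp only [Submodule.coe_smul_of_tower, RingHom.id_apply]
        rw [Derivation.map_smul, TensorProduct.tmul_smul, Submodule.mkQ_apply, Submodule.mkQ_apply]
        exact Submodule.Quotient.mk_smul N a _ }
  have hμ : ∀ x y : ↥(RingHom.ker σ₂), μ (x * y) = 0 := by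
    intro x y
    change N.mkQ ((1 : T) ⊗ₜ[B₂] D A B₂ ((x : B₂) * (y : B₂))) = 0
    rw [Derivation.leibniz, TensorProduct.tmul_add, TensorProduct.tmul_smul, TensorProduct.tmul_smul,
      ← algebraMap_smul T (x : B₂), ← algebraMap_smul T (y : B₂), map_add, map_smul, map_smul,
      hmV _ (hb₂ _ x.2), hmV _ (hb₂ _ y.2), add_zero]
  let l₂ : (RingHom.ker σ₂).Cotangent →ₗ[A] V := Ideal.Cotangent.lift μ hμ
  let e := LinearEquiv.ofBijective _ hc
  let Λ : ↥(RingHom.ker σ₁) →ₗ[A] V :=
    l₂ ∘ₗ e.symm.toLinearMap ∘ₗ ((RingHom.ker σ₁).toCotangent.restrictScalars A)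
  have hΛ : ∀ (x : B₁) (hx : x ∈ RingHom.ker σ₁), x ∈ RingHom.ker σ₁ ^ 2 → Λ ⟨x, hx⟩ = 0 := by
    intro x hx hx2
    have : (RingHom.ker σ₁).toCotangent ⟨x, hx⟩ = 0 := by
      rw [Ideal.toCotangent_eq_zero]; exact hx2
    simp only [Λ, LinearMap.comp_apply, LinearMap.restrictScalars_apply, this, map_zero]
  obtain ⟨d, hd⟩ := exists_derivation_of_section (V := V) σ₁ hV Λ hΛ
  let Ψ : Ω[T⁄A] →ₗ[T] V :=
    (KaehlerDifferential.isBaseChange_of_formallyEtale A B₁ T).lift d.liftKaehlerDifferential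
  have hΨ : ∀ b : B₁, Ψ (D A T (algebraMap B₁ T b)) = d b := by
    intro b
    have := (KaehlerDifferential.isBaseChange_of_formallyEtale A B₁ T).lift_eq
      d.liftKaehlerDifferential (D A B₁ b)
    rw [KaehlerDifferential.map_D, Derivation.liftKaehlerDifferential_comp_D] at this
    exact this
  have hdf : ∀ y : B₂, d (algebraMap B₂ B₁ y) = N.mkQ ((1 : T) ⊗ₜ[B₂] D A B₂ y) := by
    intro y
    have hmem : y - algebraMap A B₂ (σ₂ y) ∈ RingHom.ker σ₂ := by
      rw [RingHom.mem_ker, map_sub, AlgHom.commutes, Algebra.algebraMap_self, RingHom.id_apply,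
        sub_self]
    have h1 : algebraMap B₂ B₁ y = algebraMap B₂ B₁ (y - algebraMap A B₂ (σ₂ y)) +
        algebraMap A B₁ (σ₂ y) := by
      rw [map_sub, ← IsScalarTower.algebraMap_apply A B₂ B₁]; ring
    have hm1 : algebraMap B₂ B₁ (y - algebraMap A B₂ (σ₂ y)) ∈ RingHom.ker σ₁ := hle hmem
    rw [h1, map_add, Derivation.map_algebraMap, add_zero, hd _ hm1]
    have h2 : (RingHom.ker σ₁).toCotangent ⟨algebraMap B₂ B₁ (y - algebraMap A B₂ (σ₂ y)), hm1⟩ =
        e ((RingHom.ker σ₂).toCotangent ⟨_, hmem⟩) := rfl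
    simp only [Λ, LinearMap.comp_apply, LinearMap.restrictScalars_apply, h2, LinearEquiv.coe_coe,
      LinearEquiv.symm_apply_apply]
    change μ ⟨_, hmem⟩ = _
    change N.mkQ ((1 : T) ⊗ₜ[B₂] D A B₂ (y - algebraMap A B₂ (σ₂ y))) = _
    rw [map_sub, Derivation.map_algebraMap, sub_zero]
  have hω : ∀ ω : Ω[B₂⁄A], Ψ (KaehlerDifferential.map A A B₂ T ω) = N.mkQ ((1 : T) ⊗ₜ[B₂] ω) := by
    intro ω
    have hω' : ω ∈ Submodule.span B₂ (Set.range (D A B₂)) := by
      rw [KaehlerDifferential.span_range_derivation]; trivial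
    induction hω' using Submodule.span_induction with
    | mem w hw =>
      obtain ⟨y, rfl⟩ := hw
      rw [KaehlerDifferential.map_D, IsScalarTower.algebraMap_apply B₂ B₁ T, hΨ, hdf]
    | zero => simp
    | add w w' _ _ h h' => rw [map_add, map_add, h, h', TensorProduct.tmul_add, map_add]
    | smul b w _ h =>
      rw [map_smul, ← algebraMap_smul T b, map_smul, h, TensorProduct.tmul_smul,
        ← algebraMap_smul T b ((1 : T) ⊗ₜ[B₂] w), map_smul]
  have hall : ∀ x : M', Ψ (mapBaseChange A B₂ T x) = N.mkQ x := by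
    intro x
    induction x using TensorProduct.induction_on with
    | zero => simp
    | tmul t ω =>
      rw [mapBaseChange_tmul, map_smul, hω, ← map_smul, TensorProduct.smul_tmul', smul_eq_mul,
        mul_one]
    | add x y hx hy => rw [map_add, map_add, hx, hy, map_add]
  have := hall x
  rw [hx, map_zero] at this
  have h0 := this.symm
  rw [Submodule.mkQ_apply, Submodule.Quotient.mk_eq_zero] at h0
  exact h0

end

/-- Étale along the section. -/
theorem isEtaleAt_of_bijective_mapCotangent (A B₁ B₂ : Type u)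
    [CommRing A] [CommRing B₁] [CommRing B₂] [Algebra A B₁] [Algebra A B₂] [Algebra B₂ B₁]
    [IsScalarTower A B₂ B₁] [Algebra.FinitePresentation A B₁] [Algebra.FiniteType A B₂]
    (σ₁ : B₁ →ₐ[A] A) (σ₂ : B₂ →ₐ[A] A)
    (hle : RingHom.ker σ₂ ≤ (RingHom.ker σ₁).comap (IsScalarTower.toAlgHom A B₂ B₁))
    (hcot : Function.Bijective
      (Ideal.mapCotangent (RingHom.ker σ₂) (RingHom.ker σ₁) (IsScalarTower.toAlgHom A B₂ B₁) hle))
    (hsm : ∀ (P : Ideal B₁) [P.IsPrime], RingHom.ker σ₁ ≤ P → Algebra.IsSmoothAt A P)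
    (P : Ideal B₁) [P.IsPrime] (hP : RingHom.ker σ₁ ≤ P) : Algebra.IsEtaleAt B₂ P := by
  let T := Localization.AtPrime P
  haveI : Algebra.FormallySmooth A T := hsm P hP
  have hT : ∀ x ∈ RingHom.ker σ₁, algebraMap B₁ T x ∈ maximalIdeal T := fun x hx =>
    (IsLocalization.AtPrime.to_map_mem_maximal_iff T P x).mpr (hP hx)
  haveI : Algebra.FormallyEtale B₁ T := Algebra.FormallyEtale.of_isLocalization P.primeCompl
  haveI : Algebra.EssFiniteType B₁ T := Algebra.EssFiniteType.of_isLocalization T P.primeCompl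
  haveI : Algebra.EssFiniteType A T := Algebra.EssFiniteType.comp A B₁ T
  have hsurj : Function.Surjective (mapBaseChange A B₂ T) := by
    rw [← LinearMap.range_eq_top, eq_top_iff]
    refine Submodule.le_of_le_smul_of_le_jacobson_bot (I := maximalIdeal T) Module.Finite.fg_top
      (IsLocalRing.maximalIdeal_le_jacobson ⊥) ?_
    rw [← KaehlerDifferential.span_range_map_derivation_of_isLocalization A B₁ T P.primeCompl,
      Submodule.span_le]
    rintro _ ⟨x, rfl⟩
    simp only [Function.comp_apply, map_D]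
    rw [KaehlerDifferential.span_range_map_derivation_of_isLocalization A B₁ T P.primeCompl]
    exact D_mem_range_sup σ₁ σ₂ hle T hT hcot.2 x
  have hinj : Function.Injective (mapBaseChange A B₂ T) := by
    rw [← LinearMap.ker_eq_bot, eq_bot_iff]
    refine Groth.Agent.Lib.Helper65.GenericSmooth.ker_le_of_projective (mapBaseChange A B₂ T)
      hsurj ⊥ ?_
    intro w hw
    refine ⟨0, Submodule.zero_mem _, by simpa using hw, ?_⟩
    rw [sub_zero]
    exact mem_smul_top_of_mapBaseChange_eq_zero σ₁ σ₂ hle T hT hcot w hw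
  exact Groth.Agent.Lib.Helper65.EtaleCoord.formallyEtale_of_bijective_mapBaseChange A B₂ T
    ⟨hinj, hsurj⟩

end Groth.Agent.Lib.Helper65.SectionEtale
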