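import Mathlib
import Groth.Agent.Lib.Helper65.SmallExt

/-!
# Smoothness via small extensions with finite-type test rings (helper65)

* `isSmoothAt_of_lift_ft`: at a maximal ideal `q` of a finite type algebra `S` over a Noetherian
  ring `R`, the lifting property against small extensions `B' → B` of Artinian local `R`-algebras
  with `B'` of finite type over `R` already implies smoothness at `q`.
* `smooth_of_forall_isMaximal`: a finitely presented algebra which is smooth at all maximal ideals
  is smooth.
-/

set_option autoImplicit false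
set_option linter.style.haveILetI false
set_option linter.unusedVariables false
universe u

namespace Groth.Agent.Lib.Helper65.SmallExtFT

open IsLocalRing Algebra TensorProduct KaehlerDifferential

/-- For a maximal ideal `Q` of `P`, the map `P → P_Q / 𝔞` is surjective as soon as `𝔞` contains
a power of the maximal ideal. -/
theorem surjective_of_isMaximal {P : Type*} [CommRing P] (Q : Ideal P) [Q.IsMaximal]
    (𝔞 : Ideal (Localization.AtPrime Q)) (N : ℕ)
    (hN : maximalIdeal (Localization.AtPrime Q) ^ N ≤ 𝔞) :
    Function.Surjective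
      ((Ideal.Quotient.mk 𝔞).comp (algebraMap P (Localization.AtPrime Q))) := by
  intro y
  obtain ⟨t, rfl⟩ := Ideal.Quotient.mk_surjective y
  obtain ⟨p, s, rfl⟩ := IsLocalization.exists_mk'_eq Q.primeCompl t
  obtain ⟨u₀, i, hi, hui⟩ := Ideal.IsMaximal.exists_inv (I := Q) inferInstance s.2
  -- u := u₀ * ∑ i^j
  obtain ⟨u, hus⟩ : ∃ u : P, u * (s : P) = 1 - i ^ N := by
    refine ⟨u₀ * ∑ j ∈ Finset.range N, i ^ j, ?_⟩
    have h1 : u₀ * (s : P) = 1 - i := by rw [← hui]; ring
    calc (u₀ * ∑ j ∈ Finset.range N, i ^ j) * (s : P)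
        = (u₀ * (s : P)) * ∑ j ∈ Finset.range N, i ^ j := by ring
      _ = (1 - i) * ∑ j ∈ Finset.range N, i ^ j := by rw [h1]
      _ = 1 - i ^ N := mul_neg_geom_sum i N
  have hiN : algebraMap P (Localization.AtPrime Q) (i ^ N) ∈ 𝔞 := by
    apply hN
    rw [map_pow]
    exact Ideal.pow_mem_pow ((IsLocalization.AtPrime.to_map_mem_maximal_iff _ Q i).mpr hi) N
  have h1 : Ideal.Quotient.mk 𝔞 (algebraMap P (Localization.AtPrime Q) (u * (s : P))) = 1 := by
    rw [hus, map_sub, map_sub, map_one, map_one, Ideal.Quotient.eq_zero_iff_mem.mpr hiN, sub_zero]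
  refine ⟨p * u, ?_⟩
  have h2 : IsLocalization.mk' (Localization.AtPrime Q) p s *
      algebraMap P (Localization.AtPrime Q) (s : P) = algebraMap P (Localization.AtPrime Q) p :=
    IsLocalization.mk'_spec _ p s
  have h3 : algebraMap P (Localization.AtPrime Q) (p * u) =
      IsLocalization.mk' (Localization.AtPrime Q) p s *
        algebraMap P (Localization.AtPrime Q) (u * (s : P)) := by
    rw [map_mul, ← h2, map_mul]; ring
  rw [RingHom.comp_apply, h3, map_mul, h1, mul_one]

/-- smoothness at a maximal ideal from lifting against finite-type small extensions. -/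
theorem isSmoothAt_of_lift_ft {R S : Type u} [CommRing R] [IsNoetherianRing R]
    [CommRing S] [Algebra R S] [Algebra.FiniteType R S] (q : Ideal S) [hq : q.IsMaximal]
    (H : ∀ (B' B : Type u) [CommRing B'] [CommRing B] [IsLocalRing B'] [IsLocalRing B]
        [IsArtinianRing B'] [IsArtinianRing B] [Algebra R B'] [Algebra R B] (π : B' →ₐ[R] B),
        Algebra.FiniteType R B' → Function.Surjective π →
        (∃ t : B', RingHom.ker π.toRingHom = Ideal.span {t} ∧
          ∀ a ∈ IsLocalRing.maximalIdeal B', a * t = 0) →
        ∀ g : S →ₐ[R] B, (IsLocalRing.maximalIdeal B).comap g = q →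
          ∃ g' : S →ₐ[R] B', π.comp g' = g) :
    Algebra.IsSmoothAt R q := by
  obtain ⟨n, φ, hφ⟩ := Algebra.FiniteType.iff_quotient_mvPolynomial''.mp
    (inferInstance : Algebra.FiniteType R S)
  letI : Algebra (MvPolynomial (Fin n) R) S := φ.toRingHom.toAlgebra
  haveI : IsScalarTower R (MvPolynomial (Fin n) R) S :=
    .of_algebraMap_eq' φ.comp_algebraMap.symm
  have hφ' : Function.Surjective (algebraMap (MvPolynomial (Fin n) R) S) := hφ
  haveI hQmax : (q.under (MvPolynomial (Fin n) R)).IsMaximal :=
    Ideal.comap_isMaximal_of_surjective _ hφ'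
  have hcore := Groth.Agent.Lib.Helper65.SmallExt.core' hφ' q
    (fun B' _ _ => Algebra.FiniteType R B')
    (fun 𝔞 N _ hN => by
      let ψ : MvPolynomial (Fin n) R →ₐ[R]
          (Localization.AtPrime (q.under (MvPolynomial (Fin n) R)) ⧸ 𝔞) :=
        (Ideal.Quotient.mkₐ R 𝔞).comp (IsScalarTower.toAlgHom R _ _)
      have hψ : Function.Surjective ψ :=
        surjective_of_isMaximal (q.under (MvPolynomial (Fin n) R)) 𝔞 N hN
      exact Algebra.FiniteType.of_surjective ψ hψ)
    H
  letI := Localization.AtPrime.algebraOfLiesOver (q.under (MvPolynomial (Fin n) R)) q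
  have hsurj : Function.Surjective (algebraMap
      (Localization.AtPrime (q.under (MvPolynomial (Fin n) R))) (Localization.AtPrime q)) :=
    RingHom.surjective_localRingHom_of_surjective
      (algebraMap (MvPolynomial (Fin n) R) S) hφ' q
  haveI : IsNoetherianRing (Localization.AtPrime (q.under (MvPolynomial (Fin n) R))) :=
    IsLocalization.isNoetherianRing (q.under (MvPolynomial (Fin n) R)).primeCompl _ inferInstance
  haveI : Algebra.FormallySmooth (MvPolynomial (Fin n) R)
      (Localization.AtPrime (q.under (MvPolynomial (Fin n) R))) :=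
    Algebra.FormallySmooth.of_isLocalization (q.under (MvPolynomial (Fin n) R)).primeCompl
  haveI : Algebra.FormallySmooth R (Localization.AtPrime (q.under (MvPolynomial (Fin n) R))) :=
    Algebra.FormallySmooth.comp R (MvPolynomial (Fin n) R) _
  haveI : Algebra.EssFiniteType (MvPolynomial (Fin n) R)
      (Localization.AtPrime (q.under (MvPolynomial (Fin n) R))) :=
    Algebra.EssFiniteType.of_isLocalization _ (q.under (MvPolynomial (Fin n) R)).primeCompl
  haveI : Algebra.EssFiniteType R (Localization.AtPrime (q.under (MvPolynomial (Fin n) R))) :=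
    Algebra.EssFiniteType.comp R (MvPolynomial (Fin n) R) _
  haveI : Module.Free (Localization.AtPrime (q.under (MvPolynomial (Fin n) R)))
      Ω[Localization.AtPrime (q.under (MvPolynomial (Fin n) R))⁄R] :=
    Module.free_of_flat_of_isLocalRing
  change Algebra.FormallySmooth R (Localization.AtPrime q)
  rw [Algebra.FormallySmooth.iff_injective_cotangentComplexBaseChange_residueField
    (R := R) (S := Localization.AtPrime q)
    (Localization.AtPrime (q.under (MvPolynomial (Fin n) R))) hsurj (IsNoetherian.noetherian _)]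
  exact Groth.Agent.Lib.Helper65.SmallExt.injective_cotangentComplexBaseChange_of_forall hsurj hcore

/-- A finitely presented algebra smooth at all maximal ideals is smooth. -/
theorem smooth_of_forall_isMaximal {R A : Type u} [CommRing R] [CommRing A] [Algebra R A]
    [Algebra.FinitePresentation R A]
    (h : ∀ (q : Ideal A) [q.IsMaximal], Algebra.IsSmoothAt R q) : Algebra.Smooth R A := by
  refine ⟨(Algebra.smoothLocus_eq_univ_iff (R := R) (A := A)).mp ?_, inferInstance⟩
  by_contra hne
  obtain ⟨p, hp⟩ := (Set.ne_univ_iff_exists_notMem _).mp hne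
  obtain ⟨m, hm, hpm⟩ := Ideal.exists_le_maximal p.asIdeal p.2.ne_top
  have hcl : IsClosed (Algebra.smoothLocus R A)ᶜ := (Algebra.isOpen_smoothLocus).isClosed_compl
  have hmem : (⟨m, hm.isPrime⟩ : PrimeSpectrum A) ∈ closure {p} := by
    rw [← PrimeSpectrum.le_iff_mem_closure]
    exact hpm
  have h1 : closure {p} ⊆ (Algebra.smoothLocus R A)ᶜ :=
    hcl.closure_subset_iff.mpr (Set.singleton_subset_iff.mpr hp)
  exact h1 hmem (h m)

end Groth.Agent.Lib.Helper65.SmallExtFT
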