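import Mathlib
import Groth.Agent.Lib.Helper65.SmallExt

/-!
# Smoothness of a closed subscheme along a section (helper65)

`isSmoothAt_of_section`: `A` smooth over `R` with augmentation `ε`, `I = ker ε`, `J ≤ I` f.g. with
`J ⊓ I² = I J` and `I/(J + I²)` projective over `R`; then `A/J` is smooth over `R` at every prime
containing the image of `I`.
-/

set_option autoImplicit false
set_option linter.style.haveILetI false
set_option linter.unusedVariables false
universe u

namespace Groth.Agent.Lib.Helper65.UnitSection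

open TensorProduct KaehlerDifferential IsLocalRing Groth.Agent.Lib.Helper65.SmallExt

/-- Extension of a linear map from a submodule with projective quotient. -/
theorem exists_extend_of_projective {R A X V : Type*} [CommRing R] [CommRing A] [Algebra R A]
    [AddCommGroup X] [Module A X] [Module R X] [IsScalarTower R A X]
    [AddCommGroup V] [Module R V] (W : Submodule A X) [Module.Projective R (X ⧸ W)]
    (l : W →ₗ[R] V) : ∃ Λ : X →ₗ[R] V, ∀ w : W, Λ w = l w := by
  obtain ⟨s, hs⟩ := Module.projective_lifting_property (W.mkQ.restrictScalars R) LinearMap.id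
    (Submodule.mkQ_surjective W)
  have hs' : ∀ y, W.mkQ (s y) = y := fun y => LinearMap.congr_fun hs y
  let π : X →ₗ[R] X := LinearMap.id - s ∘ₗ (W.mkQ.restrictScalars R)
  have hπ : ∀ x, π x ∈ W := by
    intro x
    rw [← Submodule.Quotient.mk_eq_zero, ← Submodule.mkQ_apply]
    have := hs' (W.mkQ x)
    simp only [π, LinearMap.sub_apply, LinearMap.id_apply, LinearMap.comp_apply,
      LinearMap.restrictScalars_apply, map_sub]
    rw [this, sub_self]
  let π' : X →ₗ[R] W :=
    { toFun := fun x => ⟨π x, hπ x⟩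
      map_add' := fun x y => Subtype.ext (map_add π x y)
      map_smul' := fun r x => Subtype.ext (map_smul π r x) }
  refine ⟨l ∘ₗ π', fun w => ?_⟩
  have : π' w = w := by
    apply Subtype.ext
    change π (w : X) = w
    have h0 : W.mkQ (w : X) = 0 := by
      rw [Submodule.mkQ_apply, Submodule.Quotient.mk_eq_zero]; exact w.2
    simp [π, h0]
  rw [LinearMap.comp_apply, this]

/-- A linear map on `p` vanishing on `p ⊓ p'` extends to `p ⊔ p'` by zero on `p'`. -/
theorem exists_linearMap_sup {A X V : Type*} [CommRing A] [AddCommGroup X] [Module A X]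
    [AddCommGroup V] [Module A V] (p p' : Submodule A X) (f : p →ₗ[A] V)
    (hf : ∀ x : p, (x : X) ∈ p' → f x = 0) :
    ∃ g : ↥(p ⊔ p') →ₗ[A] V, (∀ (x : X) (hx : x ∈ p), g ⟨x, Submodule.mem_sup_left hx⟩ = f ⟨x, hx⟩) ∧
      ∀ (x : X) (hx : x ∈ p'), g ⟨x, Submodule.mem_sup_right hx⟩ = 0 := by
  let e := LinearMap.quotientInfEquivSupQuotient p p'
  have hle : Submodule.comap p.subtype p ⊓ Submodule.comap p.subtype p' ≤ LinearMap.ker f := by
    rintro x ⟨-, hx⟩
    exact hf x hx
  let f' := Submodule.liftQ _ f hle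
  refine ⟨f' ∘ₗ e.symm.toLinearMap ∘ₗ Submodule.mkQ _, ?_, ?_⟩
  · intro x hx
    simp only [LinearMap.comp_apply, Submodule.mkQ_apply, LinearEquiv.coe_coe]
    rw [LinearMap.quotientInfEquivSupQuotient_symm_apply_left p p' ⟨x, _⟩ hx]
    rfl
  · intro x hx
    simp only [LinearMap.comp_apply, Submodule.mkQ_apply, LinearEquiv.coe_coe]
    rw [LinearMap.quotientInfEquivSupQuotient_symm_apply_right p p' (x := ⟨x, _⟩) hx, map_zero]

/-- Derivation from section data. -/
theorem exists_derivation {R A V : Type*} [CommRing R] [CommRing A] [Algebra R A]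
    [AddCommGroup V] [Module A V] [Module R V] [IsScalarTower R A V]
    (ε : A →ₐ[R] R) (J : Ideal A) (hJI : J ≤ RingHom.ker ε)
    (h2 : J ⊓ RingHom.ker ε ^ 2 = RingHom.ker ε * J)
    [Module.Projective R (↥(RingHom.ker ε) ⧸
      Submodule.comap (RingHom.ker ε).subtype (J ⊔ RingHom.ker ε ^ 2))]
    (hV : ∀ i ∈ RingHom.ker ε, ∀ v : V, i • v = 0)
    (f : J →ₗ[A] V) :
    ∃ d : Derivation R A V, ∀ (j : A) (hj : j ∈ J), d j = f ⟨j, hj⟩ := by
  set I := RingHom.ker ε with hI
  -- f kills J ⊓ I²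
  have hf : ∀ x : J, (x : A) ∈ I ^ 2 → f x = 0 := by
    intro x hx
    have hx' : (x : A) ∈ I * J := h2 ▸ ⟨x.2, hx⟩
    have key : ∀ y ∈ I * J, ∃ hy : y ∈ J, f ⟨y, hy⟩ = 0 := by
      intro y hy
      refine Submodule.mul_induction_on hy ?_ ?_
      · intro i hi j hj
        have hy : i * j ∈ J := J.mul_mem_left i hj
        refine ⟨hy, ?_⟩
        have : (⟨i * j, hy⟩ : J) = i • (⟨j, hj⟩ : J) := Subtype.ext (by simp)
        rw [this, map_smul, hV i hi]
      · rintro y z ⟨hyJ, hy⟩ ⟨hzJ, hz⟩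
        refine ⟨J.add_mem hyJ hzJ, ?_⟩
        have : (⟨y + z, J.add_mem hyJ hzJ⟩ : J) = ⟨y, hyJ⟩ + ⟨z, hzJ⟩ := Subtype.ext rfl
        rw [this, map_add, hy, hz, add_zero]
    obtain ⟨_, h0⟩ := key _ hx'
    exact h0
  obtain ⟨g, hg1, hg2⟩ := exists_linearMap_sup J (I ^ 2) f hf
  let W : Submodule A ↥I := Submodule.comap I.subtype (J ⊔ I ^ 2)
  let ρ : W →ₗ[A] ↥(J ⊔ I ^ 2) :=
    { toFun := fun w => ⟨((w : I) : A), w.2⟩
      map_add' := fun x y => Subtype.ext rfl
      map_smul' := fun a x => Subtype.ext rfl }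
  obtain ⟨Λ, hΛ⟩ := exists_extend_of_projective (R := R) W ((g ∘ₗ ρ).restrictScalars R)
  have hΛ1 : ∀ (x : A) (hx : x ∈ I), x ∈ I ^ 2 → Λ ⟨x, hx⟩ = 0 := by
    intro x hx hx2
    have hw : (⟨x, hx⟩ : I) ∈ W := Submodule.mem_sup_right (S := J) hx2
    have := hΛ ⟨⟨x, hx⟩, hw⟩
    rw [this]
    exact hg2 x hx2
  have hΛ2 : ∀ (x : A) (hx : x ∈ J), Λ ⟨x, hJI hx⟩ = f ⟨x, hx⟩ := by
    intro x hx
    have hw : (⟨x, hJI hx⟩ : I) ∈ W := Submodule.mem_sup_left (T := I ^ 2) hx
    have := hΛ ⟨⟨x, hJI hx⟩, hw⟩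
    rw [this]
    exact hg1 x hx
  have hmem : ∀ a : A, a - algebraMap R A (ε a) ∈ I := by
    intro a
    rw [hI, RingHom.mem_ker, map_sub, AlgHom.commutes, Algebra.algebraMap_self, RingHom.id_apply,
      sub_self]
  let pr : A →ₗ[R] ↥I :=
    { toFun := fun a => ⟨a - algebraMap R A (ε a), hmem a⟩
      map_add' := fun x y => Subtype.ext (by simp only [map_add, Submodule.coe_add]; ring)
      map_smul' := fun r x => Subtype.ext (by
        simp only [map_mul, RingHom.id_apply, Submodule.coe_smul_of_tower,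
          Algebra.smul_def, AlgHom.commutes, Algebra.algebraMap_self]
        ring) }
  have hsmul : ∀ (a : A) (v : V), a • v = (ε a) • v := by
    intro a v
    have h1 := hV _ (hmem a) v
    rw [sub_smul, sub_eq_zero, algebraMap_smul] at h1
    exact h1
  refine ⟨Derivation.mk' (Λ ∘ₗ pr) ?_, ?_⟩
  · intro a b
    have hprod : (a - algebraMap R A (ε a)) * (b - algebraMap R A (ε b)) ∈ I ^ 2 := by
      rw [pow_two]; exact Ideal.mul_mem_mul (hmem a) (hmem b)
    have hdecomp : pr (a * b) = ⟨_, Ideal.pow_le_self two_ne_zero hprod⟩ + (ε a) • pr b +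
        (ε b) • pr a := by
      apply Subtype.ext
      simp only [pr, LinearMap.coe_mk, AddHom.coe_mk, map_mul, Submodule.coe_add,
        Submodule.coe_smul_of_tower, Algebra.smul_def]
      ring
    rw [LinearMap.comp_apply, hdecomp, map_add, map_add, hΛ1 _ _ hprod, zero_add, map_smul, map_smul,
      hsmul a, hsmul b]
    rfl
  · intro j hj
    have : pr j = ⟨j, hJI hj⟩ := by
      apply Subtype.ext
      have : ε j = 0 := hJI hj
      simp [pr, this]
    change Λ (pr j) = _
    rw [this, hΛ2 j hj]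

/-- Smoothness of `A/J` along the section. -/
theorem isSmoothAt_of_section (R A : Type u) [CommRing R] [CommRing A] [Algebra R A]
    [Algebra.Smooth R A] (ε : A →ₐ[R] R) (J : Ideal A) (hJI : J ≤ RingHom.ker ε)
    (h1 : J.FG)
    (h2 : J ⊓ RingHom.ker ε ^ 2 = RingHom.ker ε * J)
    [Module.Projective R (↥(RingHom.ker ε) ⧸
      Submodule.comap (RingHom.ker ε).subtype (J ⊔ RingHom.ker ε ^ 2))]
    (P : Ideal (A ⧸ J)) [P.IsPrime] (hP : (RingHom.ker ε).map (Ideal.Quotient.mk J) ≤ P) :
    Algebra.IsSmoothAt R P := by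
  set Q : Ideal A := P.comap (algebraMap A (A ⧸ J)) with hQ
  haveI : P.LiesOver Q := ⟨rfl⟩
  letI := Localization.AtPrime.algebraOfLiesOver Q P
  let T := Localization.AtPrime Q
  let S := Localization.AtPrime P
  have hsurj : Function.Surjective (algebraMap T S) :=
    RingHom.surjective_localRingHom_of_surjective (algebraMap A (A ⧸ J))
      Ideal.Quotient.mk_surjective P
  have hker : RingHom.ker (algebraMap T S) = J.map (algebraMap A T) := by
    have hT : Submonoid.map (algebraMap A (A ⧸ J)) Q.primeCompl = P.primeCompl :=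
      Submonoid.map_comap_eq_of_surjective Ideal.Quotient.mk_surjective P.primeCompl
    have := IsLocalization.ker_map (S := T) S (algebraMap A (A ⧸ J)) hT
    have hkJ : RingHom.ker (algebraMap A (A ⧸ J)) = J := by
      rw [Ideal.Quotient.algebraMap_eq, Ideal.mk_ker]
    rw [hkJ] at this
    exact this
  have hIQ : RingHom.ker ε ≤ Q := by
    intro i hi
    exact hP (Ideal.mem_map_of_mem _ hi)
  haveI : Algebra.FormallyEtale A T := Algebra.FormallyEtale.of_isLocalization Q.primeCompl
  haveI : Algebra.FormallySmooth R T := Algebra.FormallySmooth.comp R A T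
  haveI : Algebra.EssFiniteType A T := Algebra.EssFiniteType.of_isLocalization T Q.primeCompl
  haveI : Algebra.EssFiniteType R T := Algebra.EssFiniteType.comp R A T
  haveI : Module.Free T Ω[T⁄R] := Module.free_of_flat_of_isLocalRing
  change Algebra.FormallySmooth R S
  rw [Algebra.FormallySmooth.iff_injective_cotangentComplexBaseChange_residueField (R := R) (S := S)
    T hsurj (hker ▸ h1.map _)]
  apply injective_cotangentComplexBaseChange_of_forall hsurj
  -- the module `V = 𝔍 / m 𝔍`
  set 𝔍 : Ideal T := RingHom.ker (algebraMap T S) with h𝔍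
  let N : Submodule T ↥𝔍 := maximalIdeal T • (⊤ : Submodule T ↥𝔍)
  let V := ↥𝔍 ⧸ N
  have hmV : ∀ t ∈ maximalIdeal T, ∀ v : V, t • v = 0 := by
    intro t ht v
    obtain ⟨u, rfl⟩ := Submodule.Quotient.mk_surjective N v
    rw [← Submodule.Quotient.mk_smul, Submodule.Quotient.mk_eq_zero]
    exact Submodule.smul_mem_smul ht Submodule.mem_top
  have hQm : ∀ a ∈ Q, algebraMap A T a ∈ maximalIdeal T := by
    intro a ha
    rwa [IsLocalization.AtPrime.to_map_mem_maximal_iff T Q]
  have hV : ∀ i ∈ RingHom.ker ε, ∀ v : V, i • v = 0 := by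
    intro i hi v
    rw [← algebraMap_smul T i v]
    exact hmV _ (hQm i (hIQ hi)) v
  let φ : J →ₗ[A] ↥𝔍 :=
    { toFun := fun j => ⟨algebraMap A T j, by rw [hker]; exact Ideal.mem_map_of_mem _ j.2⟩
      map_add' := fun x y => Subtype.ext (by simp)
      map_smul' := fun a x => Subtype.ext (by simp [Algebra.smul_def]) }
  let f₀ : J →ₗ[A] V := (N.mkQ.restrictScalars A) ∘ₗ φ
  obtain ⟨d, hd⟩ := exists_derivation (V := V) ε J hJI h2 hV f₀
  let L : Ω[T⁄R] →ₗ[T] V :=
    (KaehlerDifferential.isBaseChange_of_formallyEtale R A T).lift d.liftKaehlerDifferential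
  have hL : ∀ a : A, L (D R T (algebraMap A T a)) = d a := by
    intro a
    have := (KaehlerDifferential.isBaseChange_of_formallyEtale R A T).lift_eq
      d.liftKaehlerDifferential (D R A a)
    rw [KaehlerDifferential.map_D, Derivation.liftKaehlerDifferential_comp_D] at this
    exact this
  have hJm : 𝔍 ≤ maximalIdeal T := IsLocalRing.le_maximalIdeal (RingHom.ker_ne_top _)
  have key : ∀ f ∈ Ideal.span ((algebraMap A T) '' (J : Set A)),
      ∃ hf : f ∈ 𝔍, L (D R T f) = N.mkQ ⟨f, hf⟩ := by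
    intro f hf
    induction hf using Submodule.span_induction with
    | mem x hx =>
      obtain ⟨a, ha, rfl⟩ := hx
      refine ⟨by rw [hker]; exact Ideal.mem_map_of_mem _ ha, ?_⟩
      rw [hL, hd a ha]
      rfl
    | zero => exact ⟨𝔍.zero_mem, by simp; rfl⟩
    | add x y _ _ ihx ihy =>
      obtain ⟨hx, ex⟩ := ihx
      obtain ⟨hy, ey⟩ := ihy
      refine ⟨𝔍.add_mem hx hy, ?_⟩
      rw [map_add, map_add, ex, ey, ← map_add]
      rfl
    | smul t x _ ih =>
      obtain ⟨hx, ex⟩ := ih
      refine ⟨𝔍.mul_mem_left t hx, ?_⟩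
      have e1 : D R T (t • x) = t • D R T x + x • D R T t := by
        rw [smul_eq_mul, Derivation.leibniz]
      rw [e1, map_add, map_smul, map_smul, ex, hmV x (hJm hx), add_zero, ← map_smul]
      rfl
  intro f hf hDf
  have hf' : f ∈ Ideal.span ((algebraMap A T) '' (J : Set A)) := by
    have : f ∈ 𝔍 := hf
    rw [hker] at this
    exact this
  obtain ⟨hf2, e⟩ := key f hf'
  have hL0 : L (D R T f) = 0 := by
    have : ∀ ω ∈ maximalIdeal T • (⊤ : Submodule T Ω[T⁄R]), L ω = 0 := by
      intro ω hω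
      refine Submodule.smul_induction_on hω ?_ ?_
      · intro t ht n _
        rw [map_smul, hmV t ht]
      · intro x y hx hy
        rw [map_add, hx, hy, add_zero]
    exact this _ hDf
  rw [hL0] at e
  have h0 := e.symm
  rw [Submodule.mkQ_apply, Submodule.Quotient.mk_eq_zero, Submodule.mem_smul_top_iff] at h0
  exact h0

end Groth.Agent.Lib.Helper65.UnitSection
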